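import Mathlib
import Groth.Prelude.Def_Isoc

set_option autoImplicit false
set_option linter.unusedSectionVars false

namespace Helper5.IsocLib
open Isoc

section scalars
variable {p : ℕ} [hp : Fact p.Prime] {k : Type*} [Field k] [CharP k p] [PerfectRing k p]

local notation "𝕎" => WittVector p k
local notation "𝕃" => FractionRing (WittVector p k)

theorem pL_ne_zero : ((p : ℕ) : 𝕃) ≠ 0 := by
  have h1 : ((p : ℕ) : 𝕎) ≠ 0 := WittVector.p_nonzero p k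
  have h2 : ((p : ℕ) : 𝕃) = algebraMap 𝕎 𝕃 (p : 𝕎) := (map_natCast (algebraMap 𝕎 𝕃) p).symm
  rw [h2]
  exact (map_ne_zero_iff _ (IsFractionRing.injective 𝕎 𝕃)).mpr h1

theorem algebraMap_p : algebraMap 𝕎 𝕃 (p : 𝕎) = (p : 𝕃) := map_natCast (algebraMap 𝕎 𝕃) p

theorem algebraMap_inj {a b : 𝕎} (h : algebraMap 𝕎 𝕃 a = algebraMap 𝕎 𝕃 b) : a = b :=
  IsFractionRing.injective 𝕎 𝕃 h

/-- the subring of integral elements of `𝕃` -/
def IsInt (c : 𝕃) : Prop := c ∈ Set.range (algebraMap 𝕎 𝕃)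

theorem isInt_algebraMap (w : 𝕎) : IsInt (p := p) (k := k) (algebraMap 𝕎 𝕃 w) := ⟨w, rfl⟩

theorem IsInt.add {c c' : 𝕃} (h : IsInt (p := p) (k := k) c) (h' : IsInt (p := p) (k := k) c') :
    IsInt (p := p) (k := k) (c + c') := by
  obtain ⟨a, rfl⟩ := h; obtain ⟨b, rfl⟩ := h'; exact ⟨a + b, map_add _ _ _⟩

theorem IsInt.mul {c c' : 𝕃} (h : IsInt (p := p) (k := k) c) (h' : IsInt (p := p) (k := k) c') :
    IsInt (p := p) (k := k) (c * c') := by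
  obtain ⟨a, rfl⟩ := h; obtain ⟨b, rfl⟩ := h'; exact ⟨a * b, map_mul _ _ _⟩

theorem isInt_zero : IsInt (p := p) (k := k) 0 := ⟨0, map_zero _⟩
theorem isInt_one : IsInt (p := p) (k := k) 1 := ⟨1, map_one _⟩

theorem isInt_p_pow (n : ℕ) : IsInt (p := p) (k := k) ((p : 𝕃) ^ n) :=
  ⟨(p : 𝕎) ^ n, by rw [map_pow, algebraMap_p]⟩

theorem isInt_p_zpow {r : ℤ} (hr : 0 ≤ r) : IsInt (p := p) (k := k) ((p : 𝕃) ^ r) := by
  obtain ⟨n, rfl⟩ := Int.eq_ofNat_of_zero_le hr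
  rw [zpow_natCast]
  exact isInt_p_pow n

theorem IsInt.sum {ι : Type*} (s : Finset ι) (f : ι → 𝕃)
    (h : ∀ i ∈ s, IsInt (p := p) (k := k) (f i)) : IsInt (p := p) (k := k) (∑ i ∈ s, f i) := by
  classical
  induction s using Finset.induction_on with
  | empty => simpa using isInt_zero
  | insert a s ha ih =>
    rw [Finset.sum_insert ha]
    exact (h a (Finset.mem_insert_self a s)).add (ih fun i hi => h i (Finset.mem_insert_of_mem hi))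

theorem isOrdP_zpow (r : ℤ) : IsOrdP (p := p) (k := k) ((p : 𝕃) ^ r) r :=
  ⟨1, by simp⟩

theorem isOrdP_one : IsOrdP (p := p) (k := k) (1 : 𝕃) 0 := by
  simpa using isOrdP_zpow (p := p) (k := k) 0

theorem ordP_ne_zero {c : 𝕃} {r : ℤ} (h : IsOrdP (p := p) (k := k) c r) : c ≠ 0 := by
  obtain ⟨u, rfl⟩ := h
  refine mul_ne_zero (zpow_ne_zero _ pL_ne_zero) ?_
  exact (map_ne_zero_iff _ (IsFractionRing.injective 𝕎 𝕃)).mpr u.ne_zero

theorem ordP_mul {c c' : 𝕃} {r r' : ℤ} (h : IsOrdP (p := p) (k := k) c r)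
    (h' : IsOrdP (p := p) (k := k) c' r') : IsOrdP (p := p) (k := k) (c * c') (r + r') := by
  obtain ⟨u, rfl⟩ := h
  obtain ⟨u', rfl⟩ := h'
  refine ⟨u * u', ?_⟩
  rw [zpow_add₀ pL_ne_zero, Units.val_mul, map_mul]
  ring

theorem ordP_inv {c : 𝕃} {r : ℤ} (h : IsOrdP (p := p) (k := k) c r) :
    IsOrdP (p := p) (k := k) c⁻¹ (-r) := by
  obtain ⟨u, rfl⟩ := h
  refine ⟨u⁻¹, ?_⟩
  rw [mul_inv, zpow_neg]
  congr 1
  have : algebraMap 𝕎 𝕃 (u : 𝕎) * algebraMap 𝕎 𝕃 ((u⁻¹ : 𝕎ˣ) : 𝕎) = 1 := by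
    rw [← map_mul, ← Units.val_mul, mul_inv_cancel, Units.val_one, map_one]
  exact inv_eq_of_mul_eq_one_right this

theorem ordP_pow {c : 𝕃} {r : ℤ} (h : IsOrdP (p := p) (k := k) c r) (n : ℕ) :
    IsOrdP (p := p) (k := k) (c ^ n) (n * r) := by
  induction n with
  | zero => simpa using isOrdP_one
  | succ n ih =>
    rw [pow_succ]
    have := ordP_mul ih h
    convert this using 1
    push_cast; ring

theorem isOrdP_unit (u : 𝕎ˣ) : IsOrdP (p := p) (k := k) (algebraMap 𝕎 𝕃 (u : 𝕎)) 0 :=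
  ⟨u, by simp⟩

/-- `p` is not a unit of `𝕎` -/
theorem not_isUnit_p : ¬ IsUnit ((p : ℕ) : 𝕎) := (WittVector.irreducible p).not_isUnit

theorem exists_isOrdP_of_W {a : 𝕎} (ha : a ≠ 0) :
    ∃ n : ℕ, IsOrdP (p := p) (k := k) (algebraMap 𝕎 𝕃 a) n := by
  obtain ⟨m, b, hb⟩ := WittVector.exists_eq_pow_p_mul' a ha
  refine ⟨m, b, ?_⟩
  rw [hb, map_mul, map_pow, algebraMap_p, zpow_natCast]

theorem exists_isOrdP {c : 𝕃} (hc : c ≠ 0) : ∃ r : ℤ, IsOrdP (p := p) (k := k) c r := by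
  obtain ⟨a, b, hb, rfl⟩ := IsFractionRing.div_surjective (A := 𝕎) c
  have hb0 : b ≠ 0 := nonZeroDivisors.ne_zero hb
  have ha0 : a ≠ 0 := by
    rintro rfl
    simp at hc
  obtain ⟨m, hm⟩ := exists_isOrdP_of_W ha0
  obtain ⟨n, hn⟩ := exists_isOrdP_of_W hb0
  refine ⟨m + -n, ?_⟩
  rw [div_eq_mul_inv]
  exact ordP_mul hm (ordP_inv hn)

theorem ordP_isInt {c : 𝕃} {r : ℤ} (h : IsOrdP (p := p) (k := k) c r) (hr : 0 ≤ r) :
    IsInt (p := p) (k := k) c := by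
  obtain ⟨u, rfl⟩ := h
  exact (isInt_p_zpow hr).mul (isInt_algebraMap _)

/-- an integral element of order `0` is (the image of) a unit -/
theorem isOrdP_zero_iff {c : 𝕃} : IsOrdP (p := p) (k := k) c 0 ↔
    ∃ u : 𝕎ˣ, c = algebraMap 𝕎 𝕃 (u : 𝕎) := by
  constructor
  · rintro ⟨u, rfl⟩; exact ⟨u, by simp⟩
  · rintro ⟨u, rfl⟩; exact isOrdP_unit u

theorem ordP_nonneg_of_isInt {c : 𝕃} {r : ℤ} (h : IsOrdP (p := p) (k := k) c r)
    (hc : IsInt (p := p) (k := k) c) : 0 ≤ r := by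
  by_contra hneg
  push Not at hneg
  obtain ⟨u, hu⟩ := h
  obtain ⟨a, rfl⟩ := hc
  -- `a * p^(-r) = u`
  obtain ⟨n, hn⟩ : ∃ n : ℕ, -r = (n + 1 : ℕ) := ⟨(-r).toNat - 1, by omega⟩
  have h1 : algebraMap 𝕎 𝕃 (a * (p : 𝕎) ^ (n + 1)) = algebraMap 𝕎 𝕃 (u : 𝕎) := by
    rw [map_mul, map_pow, algebraMap_p, hu, ← zpow_natCast, ← hn, mul_comm, ← mul_assoc,
      ← zpow_add₀ pL_ne_zero]
    simp
  have h2 := algebraMap_inj h1
  have h3 : IsUnit ((p : 𝕎)) := by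
    have : IsUnit (a * (p : 𝕎) ^ (n + 1)) := h2 ▸ u.isUnit
    have := (IsUnit.mul_iff.mp this).2
    exact (isUnit_pow_iff (Nat.succ_ne_zero n)).mp this
  exact not_isUnit_p h3

theorem ordP_unique {c : 𝕃} {r r' : ℤ} (h : IsOrdP (p := p) (k := k) c r)
    (h' : IsOrdP (p := p) (k := k) c r') : r = r' := by
  have h1 : IsOrdP (p := p) (k := k) (c * c⁻¹) (r + -r') := ordP_mul h (ordP_inv h')
  have h2 : IsOrdP (p := p) (k := k) (c * c⁻¹) (r' + -r) := ordP_mul h' (ordP_inv h)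
  rw [mul_inv_cancel₀ (ordP_ne_zero h)] at h1 h2
  have := ordP_nonneg_of_isInt h1 isInt_one
  have := ordP_nonneg_of_isInt h2 isInt_one
  omega

theorem isInt_iff_of_isOrdP {c : 𝕃} {r : ℤ} (h : IsOrdP (p := p) (k := k) c r) :
    IsInt (p := p) (k := k) c ↔ 0 ≤ r :=
  ⟨ordP_nonneg_of_isInt h, ordP_isInt h⟩

theorem ordP_prod {ι : Type*} (s : Finset ι) (f : ι → 𝕃) (r : ι → ℤ)
    (h : ∀ i ∈ s, IsOrdP (p := p) (k := k) (f i) (r i)) :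
    IsOrdP (p := p) (k := k) (∏ i ∈ s, f i) (∑ i ∈ s, r i) := by
  classical
  induction s using Finset.induction_on with
  | empty => simpa using isOrdP_one
  | insert a s ha ih =>
    rw [Finset.prod_insert ha, Finset.sum_insert ha]
    exact ordP_mul (h a (Finset.mem_insert_self a s)) (ih fun i hi => h i (Finset.mem_insert_of_mem hi))

end scalars

section presW
variable {p : ℕ} [hp : Fact p.Prime] {k : Type*} [Field k] [CharP k p] [PerfectRing k p]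

local notation "𝕎" => WittVector p k
local notation "𝕃" => FractionRing (WittVector p k)

/-- `τ` restricts to an automorphism of `𝕎` -/
def PresW (τ : 𝕃 →+* 𝕃) : Prop :=
  ∃ σ : 𝕎 ≃+* 𝕎, ∀ w, τ (algebraMap 𝕎 𝕃 w) = algebraMap 𝕎 𝕃 (σ w)

theorem presW_frob (a : ℤ) : PresW (frob p k a) :=
  ⟨WittVector.frobeniusEquiv p k ^ a, frob_algebraMap p k a⟩

theorem presW_one : PresW (p := p) (k := k) (1 : 𝕃 →+* 𝕃) :=
  ⟨RingEquiv.refl _, fun _ => rfl⟩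

theorem PresW.mul {τ τ' : 𝕃 →+* 𝕃} (h : PresW τ) (h' : PresW τ') : PresW (τ * τ') := by
  obtain ⟨σ, hσ⟩ := h
  obtain ⟨σ', hσ'⟩ := h'
  refine ⟨σ'.trans σ, fun w => ?_⟩
  rw [RingHom.mul_def, RingHom.comp_apply, hσ', hσ]
  rfl

theorem PresW.pow {τ : 𝕃 →+* 𝕃} (h : PresW τ) (n : ℕ) : PresW (τ ^ n) := by
  induction n with
  | zero => rw [pow_zero]; exact presW_one
  | succ n ih => rw [pow_succ]; exact ih.mul h

theorem map_p_zpow (τ : 𝕃 →+* 𝕃) (r : ℤ) : τ ((p : 𝕃) ^ r) = (p : 𝕃) ^ r := by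
  rw [map_zpow₀, map_natCast]

theorem PresW.isInt {τ : 𝕃 →+* 𝕃} (h : PresW τ) {c : 𝕃} (hc : IsInt c) : IsInt (τ c) := by
  obtain ⟨σ, hσ⟩ := h
  obtain ⟨a, rfl⟩ := hc
  exact ⟨σ a, (hσ a).symm⟩

theorem PresW.ordP {τ : 𝕃 →+* 𝕃} (h : PresW τ) {c : 𝕃} {r : ℤ} (hc : IsOrdP c r) :
    IsOrdP (τ c) r := by
  obtain ⟨σ, hσ⟩ := h
  obtain ⟨u, rfl⟩ := hc
  refine ⟨Units.map σ.toRingHom.toMonoidHom u, ?_⟩
  rw [map_mul, map_p_zpow, hσ]
  rfl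

theorem PresW.ordP_iff {τ : 𝕃 →+* 𝕃} (h : PresW τ) {c : 𝕃} {r : ℤ} :
    IsOrdP (τ c) r ↔ IsOrdP c r := by
  refine ⟨fun hc => ?_, h.ordP⟩
  have hc0 : c ≠ 0 := by
    rintro rfl
    rw [map_zero] at hc
    exact ordP_ne_zero hc rfl
  obtain ⟨r', hr'⟩ := exists_isOrdP hc0
  have := ordP_unique (h.ordP hr') hc
  exact this ▸ hr'

theorem PresW.isInt_iff {τ : 𝕃 →+* 𝕃} (h : PresW τ) {c : 𝕃} : IsInt (τ c) ↔ IsInt c := by
  refine ⟨fun hc => ?_, h.isInt⟩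
  by_cases hc0 : c = 0
  · rw [hc0]; exact isInt_zero
  obtain ⟨r, hr⟩ := exists_isOrdP hc0
  exact ordP_isInt hr (ordP_nonneg_of_isInt (h.ordP hr) hc)

theorem PresW.bijective {τ : 𝕃 →+* 𝕃} (h : PresW τ) : Function.Bijective τ := by
  refine ⟨τ.injective, fun c => ?_⟩
  obtain ⟨σ, hσ⟩ := h
  obtain ⟨a, b, hb, rfl⟩ := IsFractionRing.div_surjective (A := 𝕎) c
  refine ⟨algebraMap 𝕎 𝕃 (σ.symm a) / algebraMap 𝕎 𝕃 (σ.symm b), ?_⟩
  rw [map_div₀, hσ, hσ, RingEquiv.apply_symm_apply, RingEquiv.apply_symm_apply]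

end presW

end Helper5.IsocLib
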