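import Mathlib
import Groth.Prelude.Def_Isoc
import Groth.Agent.Lib.Helper5.Isoc.Scalars

set_option autoImplicit false
set_option linter.unusedSectionVars false

namespace Helper5.IsocLib
open Isoc
open scoped Pointwise

section ppow
variable {p : ℕ} [hp : Fact p.Prime] {k : Type*} [Field k] [CharP k p] [PerfectRing k p]

local notation "𝕎" => WittVector p k
local notation "𝕃" => FractionRing (WittVector p k)

variable {N : Type*} [AddCommGroup N] [Module (WittVector p k) N]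
  [Module (FractionRing (WittVector p k)) N]
  [IsScalarTower (WittVector p k) (FractionRing (WittVector p k)) N]

theorem mem_pPow {r : ℤ} {M : Submodule 𝕎 N} {x : N} :
    x ∈ pPow r M ↔ ∃ y ∈ M, ((p : 𝕃) ^ r) • y = x :=
  Submodule.mem_smul_pointwise_iff_exists x _ M

theorem mem_pPow' {r : ℤ} {M : Submodule 𝕎 N} {x : N} :
    x ∈ pPow r M ↔ ((p : 𝕃) ^ (-r)) • x ∈ M := by
  rw [mem_pPow]
  constructor
  · rintro ⟨y, hy, rfl⟩
    rw [smul_smul, ← zpow_add₀ pL_ne_zero, neg_add_cancel, zpow_zero, one_smul]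
    exact hy
  · intro h
    refine ⟨_, h, ?_⟩
    rw [smul_smul, ← zpow_add₀ pL_ne_zero, add_neg_cancel, zpow_zero, one_smul]

theorem smul_mem_pPow {r : ℤ} {M : Submodule 𝕎 N} {x : N} (hx : x ∈ M) :
    ((p : 𝕃) ^ r) • x ∈ pPow r M := mem_pPow.mpr ⟨x, hx, rfl⟩

theorem pPow_zero (M : Submodule 𝕎 N) : pPow 0 M = M := by
  ext x
  rw [mem_pPow', neg_zero, zpow_zero, one_smul]

theorem pPow_add (r s : ℤ) (M : Submodule 𝕎 N) : pPow (r + s) M = pPow r (pPow s M) := by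
  ext x
  rw [mem_pPow', mem_pPow', mem_pPow', smul_smul, ← zpow_add₀ pL_ne_zero, neg_add_rev]

theorem pPow_mono {r : ℤ} {M M' : Submodule 𝕎 N} (h : M ≤ M') : pPow r M ≤ pPow r M' := by
  intro x hx
  rw [mem_pPow'] at hx ⊢
  exact h hx

theorem pPow_le_iff {r : ℤ} {M M' : Submodule 𝕎 N} : pPow r M ≤ pPow r M' ↔ M ≤ M' := by
  refine ⟨fun h x hx => ?_, pPow_mono⟩
  have := h (smul_mem_pPow (r := r) hx)
  rw [mem_pPow', smul_smul, ← zpow_add₀ pL_ne_zero, neg_add_cancel, zpow_zero, one_smul] at this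
  exact this

theorem pPow_neg_le_iff {r : ℤ} {M M' : Submodule 𝕎 N} : pPow (-r) M ≤ M' ↔ M ≤ pPow r M' := by
  rw [← pPow_le_iff (r := r), ← pPow_add, add_neg_cancel, pPow_zero]

theorem natCast_smul_mem {M : Submodule 𝕎 N} {x : N} (hx : x ∈ M) (n : ℕ) :
    ((p : 𝕃) ^ n) • x ∈ M := by
  have : ((p : 𝕃) ^ n) • x = ((p : 𝕎) ^ n) • x := by
    rw [← algebraMap_p, ← map_pow, algebraMap_smul]
  rw [this]
  exact M.smul_mem _ hx

theorem pPow_anti {r s : ℤ} (h : r ≤ s) (M : Submodule 𝕎 N) : pPow s M ≤ pPow r M := by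
  intro x hx
  rw [mem_pPow'] at hx ⊢
  obtain ⟨n, hn⟩ := Int.eq_ofNat_of_zero_le (sub_nonneg.mpr h)
  have : ((p : 𝕃) ^ (-r)) • x = ((p : 𝕃) ^ n) • (((p : 𝕃) ^ (-s)) • x) := by
    rw [smul_smul, ← zpow_natCast, ← zpow_add₀ pL_ne_zero, ← hn]
    congr 2; ring
  rw [this]
  exact natCast_smul_mem hx n

theorem pPow_sup (r : ℤ) (M M' : Submodule 𝕎 N) : pPow r (M ⊔ M') = pPow r M ⊔ pPow r M' :=
  Submodule.smul_sup' _ M M'

theorem pPow_bot (r : ℤ) : pPow (p := p) (k := k) r (⊥ : Submodule 𝕎 N) = ⊥ :=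
  Submodule.smul_bot' _

theorem pPow_eq_bot_iff {r : ℤ} {M : Submodule 𝕎 N} : pPow r M = ⊥ ↔ M = ⊥ := by
  constructor
  · intro h
    rw [eq_bot_iff] at h ⊢
    rw [← pPow_bot (p := p) (k := k) (N := N) r] at h
    exact pPow_le_iff.mp h
  · rintro rfl; exact pPow_bot r

theorem pPow_isLattice (r : ℤ) {M : Submodule 𝕎 N} (hM : M.IsLattice 𝕃) :
    (pPow r M).IsLattice 𝕃 := by
  have := Submodule.IsLattice.smul 𝕃 M (Units.mk0 ((p : 𝕃) ^ r) (zpow_ne_zero _ pL_ne_zero))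
  exact this

theorem pPow_fg (r : ℤ) {M : Submodule 𝕎 N} (hM : M.FG) : (pPow r M).FG := by
  rw [pPow, Submodule.pointwise_smul_def]
  exact hM.map _

end ppow

end Helper5.IsocLib
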