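import Mathlib
import Groth.Prelude.Def_Isoc
import Groth.Agent.Lib.Helper5.Isoc.Scalars
import Groth.Agent.Lib.Helper5.Isoc.PPow

set_option autoImplicit false
set_option linter.unusedSectionVars false

namespace Helper5.IsocLib
open Isoc
open scoped Pointwise

section img
variable {p : ℕ} [hp : Fact p.Prime] {k : Type*} [Field k] [CharP k p] [PerfectRing k p]

local notation "𝕎" => WittVector p k
local notation "𝕃" => FractionRing (WittVector p k)

variable {N : Type*} [AddCommGroup N] [Module (WittVector p k) N]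
  [Module (FractionRing (WittVector p k)) N]
  [IsScalarTower (WittVector p k) (FractionRing (WittVector p k)) N]
variable {N' : Type*} [AddCommGroup N'] [Module (WittVector p k) N']
  [Module (FractionRing (WittVector p k)) N']
  [IsScalarTower (WittVector p k) (FractionRing (WittVector p k)) N']
variable {N'' : Type*} [AddCommGroup N''] [Module (WittVector p k) N'']
  [Module (FractionRing (WittVector p k)) N'']
  [IsScalarTower (WittVector p k) (FractionRing (WittVector p k)) N'']
variable {τ τ' τ'' : FractionRing (WittVector p k) →+* FractionRing (WittVector p k)}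

/-- the `𝕎`-span of the image of a `𝕎`-submodule under a semilinear map -/
noncomputable def img (G : N →ₛₗ[τ] N') (M : Submodule 𝕎 N) : Submodule 𝕎 N' :=
  Submodule.span 𝕎 (G '' (M : Set N))

theorem latImg_eq_img (F : N →ₛₗ[τ] N) (s : ℕ) (M : Submodule 𝕎 N) :
    latImg F s M = img (iter F s) M := rfl

theorem map_wsmul (hτ : PresW τ) (G : N →ₛₗ[τ] N') :
    ∃ σ : 𝕎 ≃+* 𝕎, ∀ (w : 𝕎) (x : N), G (w • x) = σ w • G x := by
  obtain ⟨σ, hσ⟩ := hτ
  refine ⟨σ, fun w x => ?_⟩
  rw [← algebraMap_smul 𝕃 w x, map_smulₛₗ, hσ, algebraMap_smul]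

theorem mem_img (hτ : PresW τ) {G : N →ₛₗ[τ] N'} {M : Submodule 𝕎 N} {y : N'} :
    y ∈ img G M ↔ ∃ x ∈ M, G x = y := by
  obtain ⟨σ, hσ⟩ := map_wsmul hτ G
  constructor
  · intro hy
    induction hy using Submodule.span_induction with
    | mem y hy => exact hy
    | zero => exact ⟨0, M.zero_mem, map_zero G⟩
    | add y y' _ _ ih ih' =>
      obtain ⟨x, hx, rfl⟩ := ih
      obtain ⟨x', hx', rfl⟩ := ih'
      exact ⟨x + x', M.add_mem hx hx', map_add G x x'⟩
    | smul w y _ ih =>
      obtain ⟨x, hx, rfl⟩ := ih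
      refine ⟨σ.symm w • x, M.smul_mem _ hx, ?_⟩
      rw [hσ, RingEquiv.apply_symm_apply]
  · rintro ⟨x, hx, rfl⟩
    exact Submodule.subset_span ⟨x, hx, rfl⟩

theorem apply_mem_img {G : N →ₛₗ[τ] N'} {M : Submodule 𝕎 N} {x : N} (hx : x ∈ M) :
    G x ∈ img G M := Submodule.subset_span ⟨x, hx, rfl⟩

theorem img_le_iff {G : N →ₛₗ[τ] N'} {M : Submodule 𝕎 N} {M' : Submodule 𝕎 N'} :
    img G M ≤ M' ↔ ∀ x ∈ M, G x ∈ M' := by
  rw [img, Submodule.span_le]
  constructor
  · intro h x hx; exact h ⟨x, hx, rfl⟩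
  · rintro h _ ⟨x, hx, rfl⟩; exact h x hx

theorem img_mono (G : N →ₛₗ[τ] N') {M M' : Submodule 𝕎 N} (h : M ≤ M') : img G M ≤ img G M' :=
  Submodule.span_mono (Set.image_mono h)

theorem img_bot (G : N →ₛₗ[τ] N') : img G (⊥ : Submodule 𝕎 N) = ⊥ := by
  rw [eq_bot_iff, img_le_iff]
  intro x hx
  rw [Submodule.mem_bot] at hx
  rw [hx, map_zero]
  exact Submodule.zero_mem _

theorem img_span (hτ : PresW τ) (G : N →ₛₗ[τ] N') (S : Set N) :
    img G (Submodule.span 𝕎 S) = Submodule.span 𝕎 (G '' S) := by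
  obtain ⟨σ, hσ⟩ := map_wsmul hτ G
  apply le_antisymm
  · rw [img_le_iff]
    intro x hx
    induction hx using Submodule.span_induction with
    | mem x hx => exact Submodule.subset_span ⟨x, hx, rfl⟩
    | zero => rw [map_zero]; exact Submodule.zero_mem _
    | add x y _ _ ihx ihy => rw [map_add]; exact Submodule.add_mem _ ihx ihy
    | smul w x _ ih => rw [hσ]; exact Submodule.smul_mem _ _ ih
  · exact Submodule.span_mono (Set.image_mono Submodule.subset_span)

theorem img_sup (G : N →ₛₗ[τ] N') (M M' : Submodule 𝕎 N) :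
    img G (M ⊔ M') = img G M ⊔ img G M' := by
  apply le_antisymm
  · rw [img_le_iff]
    intro x hx
    obtain ⟨y, hy, z, hz, rfl⟩ := Submodule.mem_sup.mp hx
    rw [map_add]
    exact Submodule.add_mem _ (Submodule.mem_sup_left (apply_mem_img hy))
      (Submodule.mem_sup_right (apply_mem_img hz))
  · exact sup_le (img_mono G le_sup_left) (img_mono G le_sup_right)

theorem img_pPow (G : N →ₛₗ[τ] N') (r : ℤ) (M : Submodule 𝕎 N) :
    img G (pPow r M) = pPow r (img G M) := by
  apply le_antisymm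
  · rw [img_le_iff]
    intro x hx
    obtain ⟨y, hy, rfl⟩ := mem_pPow.mp hx
    rw [map_smulₛₗ, map_p_zpow]
    exact smul_mem_pPow (apply_mem_img hy)
  · have key : img G M ≤ pPow (-r) (img G (pPow r M)) := by
      rw [img_le_iff]
      intro x hx
      have h1 : ((p : 𝕃) ^ r) • x ∈ pPow r M := smul_mem_pPow hx
      have h2 := apply_mem_img (G := G) h1
      rw [map_smulₛₗ, map_p_zpow] at h2
      rw [mem_pPow', neg_neg]
      exact h2
    have := pPow_mono (r := r) key
    rwa [← pPow_add, add_neg_cancel, pPow_zero] at this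

theorem img_comp (hτ : PresW τ) (G₁ : N →ₛₗ[τ] N') (G₂ : N' →ₛₗ[τ'] N'') (H : N →ₛₗ[τ''] N'')
    (hH : ∀ x, H x = G₂ (G₁ x)) (M : Submodule 𝕎 N) : img H M = img G₂ (img G₁ M) := by
  apply le_antisymm
  · rw [img_le_iff]
    intro x hx
    rw [hH]
    exact apply_mem_img (apply_mem_img hx)
  · rw [img_le_iff]
    intro y hy
    obtain ⟨x, hx, rfl⟩ := (mem_img hτ).mp hy
    rw [← hH]
    exact apply_mem_img hx

theorem latImg_add (hτ : PresW τ) (F : N →ₛₗ[τ] N) (s t : ℕ) (M : Submodule 𝕎 N) :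
    latImg F (s + t) M = latImg F s (latImg F t M) := by
  rw [latImg_eq_img, latImg_eq_img, latImg_eq_img]
  exact img_comp (hτ.pow t) (iter F t) (iter F s) (iter F (s + t))
    (fun x => by simp only [coe_iter]; exact Function.iterate_add_apply _ s t x) M

theorem latImg_zero (F : N →ₛₗ[τ] N) (M : Submodule 𝕎 N) : latImg F 0 M = M := by
  rw [latImg]
  simp

theorem latImg_pPow (F : N →ₛₗ[τ] N) (s : ℕ) (r : ℤ) (M : Submodule 𝕎 N) :
    latImg F s (pPow r M) = pPow r (latImg F s M) := img_pPow (iter F s) r M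

theorem latImg_mono (F : N →ₛₗ[τ] N) (s : ℕ) {M M' : Submodule 𝕎 N} (h : M ≤ M') :
    latImg F s M ≤ latImg F s M' := img_mono (iter F s) h

theorem img_fg (hτ : PresW τ) (G : N →ₛₗ[τ] N') {M : Submodule 𝕎 N} (hM : M.FG) :
    (img G M).FG := by
  obtain ⟨S, rfl⟩ := hM
  rw [img_span hτ]
  exact Submodule.fg_span (S.finite_toSet.image _)

theorem img_isLattice (hτ : PresW τ) (G : N →ₛₗ[τ] N') (hG : Function.Surjective G)
    {M : Submodule 𝕎 N} (hM : M.IsLattice 𝕃) : (img G M).IsLattice 𝕃 := by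
  refine ⟨img_fg hτ G hM.fg, ?_⟩
  rw [eq_top_iff]
  rintro y -
  obtain ⟨x, rfl⟩ := hG y
  have hx : x ∈ Submodule.span 𝕃 (M : Set N) := by rw [hM.span_eq_top]; trivial
  induction hx using Submodule.span_induction with
  | mem x hx => exact Submodule.subset_span (apply_mem_img hx)
  | zero => rw [map_zero]; exact Submodule.zero_mem _
  | add x y _ _ ihx ihy => rw [map_add]; exact Submodule.add_mem _ ihx ihy
  | smul c x _ ih => rw [map_smulₛₗ]; exact Submodule.smul_mem _ _ ih

theorem img_eq_bot_iff (G : N →ₛₗ[τ] N') (hG : Function.Injective G) {M : Submodule 𝕎 N} :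
    img G M = ⊥ ↔ M = ⊥ := by
  constructor
  · intro h
    rw [eq_bot_iff]
    intro x hx
    have := apply_mem_img (G := G) hx
    rw [h, Submodule.mem_bot] at this
    rw [Submodule.mem_bot]
    exact hG (this.trans (map_zero G).symm)
  · rintro rfl; exact img_bot G

end img

end Helper5.IsocLib
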