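import Mathlib
import Groth.Prelude.Def_Isoc
import Groth.Agent.Lib.Helper5.Isoc.Scalars
import Groth.Agent.Lib.Helper5.Isoc.PPow
import Groth.Agent.Lib.Helper5.Isoc.Img

set_option autoImplicit false
set_option linter.unusedSectionVars false

namespace Helper5.IsocLib
open Isoc
open scoped Pointwise

section lat
variable {p : ℕ} [hp : Fact p.Prime] {k : Type*} [Field k] [CharP k p] [PerfectRing k p]

local notation "𝕎" => WittVector p k
local notation "𝕃" => FractionRing (WittVector p k)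

variable {N : Type*} [AddCommGroup N] [Module (WittVector p k) N]
  [Module (FractionRing (WittVector p k)) N]
  [IsScalarTower (WittVector p k) (FractionRing (WittVector p k)) N]

theorem exists_pow_mul_isInt (a : 𝕃) : ∃ m : ℕ, IsInt ((p : 𝕃) ^ m * a) := by
  by_cases ha : a = 0
  · exact ⟨0, by rw [ha, mul_zero]; exact isInt_zero⟩
  obtain ⟨r, hr⟩ := exists_isOrdP ha
  refine ⟨(-r).toNat, ?_⟩
  have h1 : IsOrdP ((p : 𝕃) ^ ((-r).toNat : ℤ) * a) (((-r).toNat : ℤ) + r) :=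
    ordP_mul (isOrdP_zpow _) hr
  rw [zpow_natCast] at h1
  exact ordP_isInt h1 (by omega)

/-- every vector of the `𝕃`-span is carried into the submodule by a power of `p` -/
theorem exists_pow_smul_mem' {M : Submodule 𝕎 N} {x : N}
    (hx : x ∈ Submodule.span 𝕃 (M : Set N)) : ∃ c : ℕ, ((p : 𝕃) ^ c) • x ∈ M := by
  induction hx using Submodule.span_induction with
  | mem x hx => exact ⟨0, by simpa using hx⟩
  | zero => exact ⟨0, by simp⟩
  | add x y _ _ ihx ihy =>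
    obtain ⟨c, hc⟩ := ihx
    obtain ⟨c', hc'⟩ := ihy
    refine ⟨c + c', ?_⟩
    rw [smul_add]
    refine M.add_mem ?_ ?_
    · rw [pow_add, mul_comm, mul_smul]; exact natCast_smul_mem hc c'
    · rw [pow_add, mul_smul]; exact natCast_smul_mem hc' c
  | smul a x _ ih =>
    obtain ⟨c, hc⟩ := ih
    obtain ⟨m, w, hw⟩ := exists_pow_mul_isInt a
    refine ⟨m + c, ?_⟩
    have : ((p : 𝕃) ^ (m + c)) • a • x = w • (((p : 𝕃) ^ c) • x) := by
      rw [← algebraMap_smul 𝕃 w, hw, smul_smul, smul_smul]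
      congr 1; ring
    rw [this]
    exact M.smul_mem _ hc

/-- every vector is carried into a spanning submodule by a power of `p` -/
theorem exists_pow_smul_mem {M : Submodule 𝕎 N} (hM : Submodule.span 𝕃 (M : Set N) = ⊤) (x : N) :
    ∃ c : ℕ, ((p : 𝕃) ^ c) • x ∈ M :=
  exists_pow_smul_mem' (by rw [hM]; trivial)

theorem pPow_span_singleton (r : ℤ) (x : N) :
    pPow r (Submodule.span 𝕎 {x}) = Submodule.span 𝕎 {((p : 𝕃) ^ r) • x} := by
  rw [pPow, Submodule.smul_span, Set.smul_set_singleton]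

/-- C1': a finitely generated submodule inside the `𝕃`-span of `M₂` is carried into `M₂`
by a power of `p` -/
theorem exists_pPow_le' {M₁ M₂ : Submodule 𝕎 N} (h₁ : M₁.FG)
    (h₂ : ∀ x ∈ M₁, x ∈ Submodule.span 𝕃 (M₂ : Set N)) : ∃ c : ℕ, pPow c M₁ ≤ M₂ := by
  induction M₁, h₁ using Submodule.fg_induction with
  | singleton x =>
    obtain ⟨c, hc⟩ := exists_pow_smul_mem' (h₂ x (Submodule.mem_span_singleton_self x))
    refine ⟨c, ?_⟩
    rw [pPow_span_singleton, Submodule.span_singleton_le_iff_mem, zpow_natCast]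
    exact hc
  | sup A B _ _ ihA ihB =>
    obtain ⟨c, hc⟩ := ihA (fun x hx => h₂ x (Submodule.mem_sup_left hx))
    obtain ⟨c', hc'⟩ := ihB (fun x hx => h₂ x (Submodule.mem_sup_right hx))
    refine ⟨c + c', ?_⟩
    rw [pPow_sup]
    refine sup_le ?_ ?_
    · exact (pPow_anti (by push_cast; omega) A).trans hc
    · exact (pPow_anti (by push_cast; omega) B).trans hc'

/-- C1: a finitely generated submodule is carried into a spanning one by a power of `p` -/
theorem exists_pPow_le {M₁ M₂ : Submodule 𝕎 N} (h₁ : M₁.FG)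
    (h₂ : Submodule.span 𝕃 (M₂ : Set N) = ⊤) : ∃ c : ℕ, pPow c M₁ ≤ M₂ :=
  exists_pPow_le' h₁ (fun x _ => by rw [h₂]; trivial)

theorem exists_le_pPow {M₁ M₂ : Submodule 𝕎 N} (h₁ : M₁.FG)
    (h₂ : Submodule.span 𝕃 (M₂ : Set N) = ⊤) : ∃ c : ℕ, M₁ ≤ pPow (-(c : ℤ)) M₂ := by
  obtain ⟨c, hc⟩ := exists_pPow_le h₁ h₂
  refine ⟨c, ?_⟩
  have := pPow_neg_le_iff (r := -(c : ℤ)) (M := M₁) (M' := M₂)
  rw [neg_neg] at this
  exact this.mp hc

/-- a lattice has a basis which is a basis of the ambient space -/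
theorem exists_latBasis {M : Submodule 𝕎 N} (hM : M.IsLattice 𝕃) :
    ∃ (n : ℕ) (b : Module.Basis (Fin n) 𝕃 N), Submodule.span 𝕎 (Set.range b) = M := by
  have := hM
  let b₀ := Module.finBasis 𝕎 M
  refine ⟨_, b₀.extendOfIsLattice 𝕃, ?_⟩
  have h1 : Set.range (b₀.extendOfIsLattice 𝕃) = M.subtype '' Set.range b₀ := by
    ext x
    simp only [Set.mem_range, Module.Basis.extendOfIsLattice_apply, Set.mem_image,
      Submodule.subtype_apply, exists_exists_eq_and]
  rw [h1, ← Submodule.map_span, b₀.span_eq, Submodule.map_top, Submodule.range_subtype]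

theorem mem_iff_repr {ι : Type*} (b : Module.Basis ι 𝕃 N) {M : Submodule 𝕎 N}
    (hb : Submodule.span 𝕎 (Set.range b) = M) (x : N) :
    x ∈ M ↔ ∀ i, IsInt (b.repr x i) := by
  rw [← hb, Module.Basis.mem_span_iff_repr_mem]
  rfl

theorem mem_pPow_iff_repr {ι : Type*} (b : Module.Basis ι 𝕃 N) {M : Submodule 𝕎 N}
    (hb : Submodule.span 𝕎 (Set.range b) = M) (r : ℤ) (x : N) :
    x ∈ pPow r M ↔ ∀ i, IsInt ((p : 𝕃) ^ (-r) * b.repr x i) := by
  rw [mem_pPow', mem_iff_repr b hb]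
  simp only [map_smul, Finsupp.smul_apply, smul_eq_mul]

/-- C2: the intersection of the `p^r M` is zero -/
theorem exists_not_mem_pPow {M : Submodule 𝕎 N} (hM : M.IsLattice 𝕃) {x : N} (hx : x ≠ 0) :
    ∃ r : ℤ, x ∉ pPow r M := by
  obtain ⟨n, b, hb⟩ := exists_latBasis hM
  have : b.repr x ≠ 0 := by
    intro h
    exact hx (b.repr.map_eq_zero_iff.mp h)
  obtain ⟨i, hi⟩ := Finsupp.ne_iff.mp this
  rw [Finsupp.zero_apply] at hi
  obtain ⟨r₀, hr₀⟩ := exists_isOrdP hi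
  refine ⟨r₀ + 1, fun hmem => ?_⟩
  have h1 := (mem_pPow_iff_repr b hb (r₀ + 1) x).mp hmem i
  have h2 : IsOrdP ((p : 𝕃) ^ (-(r₀ + 1)) * b.repr x i) (-(r₀ + 1) + r₀) :=
    ordP_mul (isOrdP_zpow _) hr₀
  have := ordP_nonneg_of_isInt h2 h1
  omega

theorem pPow_le_pPow_iff {M : Submodule 𝕎 N} (hM : M.IsLattice 𝕃) (hM0 : M ≠ ⊥) {r s : ℤ} :
    pPow r M ≤ pPow s M ↔ s ≤ r := by
  refine ⟨fun h => ?_, fun h => pPow_anti h M⟩
  by_contra hlt
  push Not at hlt
  -- then `M ≤ pPow (s - r) M` with `s - r ≥ 1`, so `M ≤ pPow n M` for all `n`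
  have h1 : M ≤ pPow (s - r) M := by
    have := pPow_mono (r := -r) h
    rwa [← pPow_add, ← pPow_add, neg_add_cancel, pPow_zero, neg_add_eq_sub] at this
  have h2 : M ≤ pPow 1 M := h1.trans (pPow_anti (by omega) M)
  have h3 : ∀ n : ℕ, M ≤ pPow n M := by
    intro n
    induction n with
    | zero => simp [pPow_zero]
    | succ n ih =>
      calc M ≤ pPow n M := ih
        _ ≤ pPow n (pPow 1 M) := pPow_mono h2
        _ = pPow ((n + 1 : ℕ) : ℤ) M := by rw [← pPow_add]; norm_cast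
  obtain ⟨x, hxM, hx0⟩ := Submodule.exists_mem_ne_zero_of_ne_bot hM0
  obtain ⟨r₀, hr₀⟩ := exists_not_mem_pPow hM hx0
  apply hr₀
  have := h3 r₀.toNat hxM
  exact pPow_anti (by omega) M this

/-- existence of the order of a nonzero finitely generated submodule relative to a lattice -/
theorem exists_ord {M M' : Submodule 𝕎 N} (hM : M.IsLattice 𝕃) (hfg : M'.FG) (h0 : M' ≠ ⊥) :
    ∃ r : ℤ, M' ≤ pPow r M ∧ ¬ M' ≤ pPow (r + 1) M := by
  obtain ⟨c, hc⟩ := exists_le_pPow hfg hM.span_eq_top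
  obtain ⟨x, hxM, hx0⟩ := Submodule.exists_mem_ne_zero_of_ne_bot h0
  obtain ⟨r₀, hr₀⟩ := exists_not_mem_pPow hM hx0
  have hbdd : ∀ r : ℤ, M' ≤ pPow r M → r ≤ r₀ := by
    intro r hr
    by_contra hlt
    push Not at hlt
    exact hr₀ (pPow_anti hlt.le M (hr hxM))
  obtain ⟨r, hr, hmax⟩ := Int.exists_greatest_of_bdd (P := fun r => M' ≤ pPow r M)
    ⟨r₀, hbdd⟩ ⟨_, hc⟩
  refine ⟨r, hr, fun h => ?_⟩
  have := hmax (r + 1) h
  omega

theorem ord_le_iff {M M' : Submodule 𝕎 N} {r : ℤ} (h : M' ≤ pPow r M ∧ ¬ M' ≤ pPow (r + 1) M)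
    (s : ℤ) : M' ≤ pPow s M ↔ s ≤ r := by
  constructor
  · intro hs
    by_contra hlt
    push Not at hlt
    exact h.2 (hs.trans (pPow_anti (by omega) M))
  · intro hs
    exact h.1.trans (pPow_anti hs M)

theorem ord_unique {M M' : Submodule 𝕎 N} {r r' : ℤ}
    (h : M' ≤ pPow r M ∧ ¬ M' ≤ pPow (r + 1) M) (h' : M' ≤ pPow r' M ∧ ¬ M' ≤ pPow (r' + 1) M) :
    r = r' := by
  have h1 := (ord_le_iff h r').mp h'.1
  have h2 := (ord_le_iff h' r).mp h.1
  omega

end lat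

end Helper5.IsocLib
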