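import Mathlib
import Groth.Prelude.Def_Isoc
import Groth.Agent.Lib.Helper5.Isoc.Scalars
import Groth.Agent.Lib.Helper5.Isoc.PPow
import Groth.Agent.Lib.Helper5.Isoc.Img
import Groth.Agent.Lib.Helper5.Isoc.Lat

set_option autoImplicit false
set_option linter.unusedSectionVars false

namespace Helper5.IsocLib
open Isoc Module
open scoped Pointwise

section smat
variable {p : ℕ} [hp : Fact p.Prime] {k : Type*} [Field k] [CharP k p] [PerfectRing k p]

local notation "𝕎" => WittVector p k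
local notation "𝕃" => FractionRing (WittVector p k)

variable {N : Type*} [AddCommGroup N] [Module (WittVector p k) N]
  [Module (FractionRing (WittVector p k)) N]
  [IsScalarTower (WittVector p k) (FractionRing (WittVector p k)) N]
variable {τ τ' τ'' : FractionRing (WittVector p k) →+* FractionRing (WittVector p k)}
variable {ι ι' ι'' : Type*} [Fintype ι] [Fintype ι'] [Fintype ι'']

/-- matrix of a semilinear map with respect to two bases -/
noncomputable def smat₂ (b : Basis ι 𝕃 N) (b' : Basis ι' 𝕃 N) (F : N →ₛₗ[τ] N) : Matrix ι' ι 𝕃 :=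
  Matrix.of fun i j => b'.repr (F (b j)) i

theorem smat₂_apply (b : Basis ι 𝕃 N) (b' : Basis ι' 𝕃 N) (F : N →ₛₗ[τ] N) (i : ι') (j : ι) :
    smat₂ b b' F i j = b'.repr (F (b j)) i := rfl

theorem detCoeff_eq {n : ℕ} (b : Basis (Fin n) 𝕃 N) (F : N →ₛₗ[τ] N) :
    detCoeff b F = (smat₂ b b F).det := rfl

theorem repr_apply (b : Basis ι 𝕃 N) (b' : Basis ι' 𝕃 N) (F : N →ₛₗ[τ] N) (x : N) (i : ι') :
    b'.repr (F x) i = ∑ j, smat₂ b b' F i j * τ (b.repr x j) := by
  conv_lhs => rw [← b.sum_repr x]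
  rw [map_sum, map_sum, Finsupp.coe_finsetSum, Finset.sum_apply]
  refine Finset.sum_congr rfl fun j _ => ?_
  rw [map_smulₛₗ, map_smul, Finsupp.smul_apply, smul_eq_mul, smat₂_apply, mul_comm]

theorem smat₂_comp (b : Basis ι 𝕃 N) (b' : Basis ι' 𝕃 N) (b'' : Basis ι'' 𝕃 N)
    (F : N →ₛₗ[τ] N) (G : N →ₛₗ[τ'] N) (H : N →ₛₗ[τ''] N) (hH : ∀ x, H x = F (G x)) :
    smat₂ b b'' H = smat₂ b' b'' F * (smat₂ b b' G).map τ := by
  refine Matrix.ext fun i j => ?_
  rw [smat₂_apply, hH, repr_apply b' b'' F, Matrix.mul_apply]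
  rfl

theorem smat₂_id [DecidableEq ι] (b : Basis ι 𝕃 N) :
    smat₂ b b (LinearMap.id : N →ₗ[𝕃] N) = 1 := by
  refine Matrix.ext fun i j => ?_
  rw [smat₂_apply, LinearMap.id_apply, Basis.repr_self, Matrix.one_apply, Finsupp.single_apply]
  simp [eq_comm]

theorem smat₂_id_eq_toMatrix (b : Basis ι 𝕃 N) (b' : Basis ι' 𝕃 N) :
    smat₂ b b' (LinearMap.id : N →ₗ[𝕃] N) = b'.toMatrix b := rfl

theorem smat₂_smul (b : Basis ι 𝕃 N) (b' : Basis ι' 𝕃 N) (F : N →ₛₗ[τ] N) (c : 𝕃) :
    smat₂ b b' (c • F) = c • smat₂ b b' F := by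
  refine Matrix.ext fun i j => ?_
  rw [smat₂_apply, LinearMap.smul_apply, map_smul, Finsupp.smul_apply, Matrix.smul_apply, smat₂_apply]

variable {n : ℕ}

theorem detCoeff_comp (b : Basis (Fin n) 𝕃 N)
    (F : N →ₛₗ[τ] N) (G : N →ₛₗ[τ'] N) (H : N →ₛₗ[τ''] N) (hH : ∀ x, H x = F (G x)) :
    detCoeff b H = detCoeff b F * τ (detCoeff b G) := by
  rw [detCoeff_eq, detCoeff_eq, detCoeff_eq, smat₂_comp b b b F G H hH, Matrix.det_mul,
    RingHom.map_det]
  rfl

theorem detCoeff_smul (b : Basis (Fin n) 𝕃 N) (F : N →ₛₗ[τ] N) (c : 𝕃) :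
    detCoeff b (c • F) = c ^ n * detCoeff b F := by
  rw [detCoeff_eq, detCoeff_eq, smat₂_smul, Matrix.det_smul, Fintype.card_fin]

/-- change of basis for the determinant coefficient -/
theorem detCoeff_change (b b' : Basis (Fin n) 𝕃 N) (F : N →ₛₗ[τ] N) :
    detCoeff b' F = (b'.toMatrix b).det * detCoeff b F * τ ((b.toMatrix b').det) := by
  have h1 : smat₂ b' b' F = smat₂ b b' (LinearMap.id : N →ₗ[𝕃] N) *
      (smat₂ b' b F).map (RingHom.id 𝕃) :=
    smat₂_comp b' b b' (LinearMap.id : N →ₗ[𝕃] N) F F (fun x => rfl)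
  have h2 : smat₂ b' b F = smat₂ b b F * (smat₂ b' b (LinearMap.id : N →ₗ[𝕃] N)).map τ :=
    smat₂_comp b' b b F (LinearMap.id : N →ₗ[𝕃] N) F (fun x => rfl)
  rw [detCoeff_eq, h1, h2, Matrix.det_mul, smat₂_id_eq_toMatrix, smat₂_id_eq_toMatrix]
  have : ((smat₂ b b F * (b.toMatrix b').map τ).map (RingHom.id 𝕃)) =
      smat₂ b b F * (b.toMatrix b').map τ := by
    refine Matrix.ext fun i j => rfl
  have e : ((b.toMatrix b').map ⇑τ).det = τ (b.toMatrix b').det := (RingHom.map_det τ _).symm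
  rw [this, Matrix.det_mul, e, detCoeff_eq]
  ring

theorem det_toMatrix_mul (b b' : Basis (Fin n) 𝕃 N) :
    (b'.toMatrix b).det * (b.toMatrix b').det = 1 := by
  rw [← Matrix.det_mul, Basis.toMatrix_mul_toMatrix_flip, Matrix.det_one]

theorem ordP_detCoeff_indep (hτ : PresW τ) (b b' : Basis (Fin n) 𝕃 N) (F : N →ₛₗ[τ] N) {d : ℤ}
    (hd : IsOrdP (detCoeff b F) d) : IsOrdP (detCoeff b' F) d := by
  rw [detCoeff_change b b' F]
  have h1 := det_toMatrix_mul b b'
  have hne : (b.toMatrix b').det ≠ 0 := right_ne_zero_of_mul_eq_one h1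
  obtain ⟨r, hr⟩ := exists_isOrdP hne
  have h2 : (b'.toMatrix b).det = ((b.toMatrix b').det)⁻¹ := eq_inv_of_mul_eq_one_left h1
  rw [h2]
  have := ordP_mul (ordP_mul (ordP_inv hr) hd) (hτ.ordP hr)
  convert this using 1
  ring

theorem ordP_detCoeff_iter (hτ : PresW τ) (b : Basis (Fin n) 𝕃 N) (F : N →ₛₗ[τ] N) {d : ℤ}
    (hd : IsOrdP (detCoeff b F) d) (s : ℕ) : IsOrdP (detCoeff b (iter F s)) (s * d) := by
  induction s with
  | zero =>
    have : detCoeff b (iter F 0) = 1 := by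
      rw [detCoeff_eq]
      have : smat₂ b b (iter F 0) = 1 := by
        refine Matrix.ext fun i j => ?_
        rw [smat₂_apply, iter_apply, Function.iterate_zero, id, Basis.repr_self, Matrix.one_apply,
          Finsupp.single_apply]
        simp [eq_comm]
      rw [this, Matrix.det_one]
    rw [this]
    simpa using isOrdP_one
  | succ s ih =>
    have h1 : detCoeff b (iter F (s + 1)) = detCoeff b F * τ (detCoeff b (iter F s)) :=
      detCoeff_comp b F (iter F s) (iter F (s + 1))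
        (fun x => by simp only [iter_apply]; exact Function.iterate_succ_apply' _ s x)
    rw [h1]
    have := ordP_mul hd (hτ.ordP ih)
    convert this using 1
    push_cast; ring

theorem ordP_detCoeff_smul (b : Basis (Fin n) 𝕃 N) (F : N →ₛₗ[τ] N) {d : ℤ}
    (hd : IsOrdP (detCoeff b F) d) (m : ℤ) :
    IsOrdP (detCoeff b (((p : 𝕃) ^ m) • F)) (m * n + d) := by
  rw [detCoeff_smul]
  have := ordP_mul (ordP_pow (isOrdP_zpow (p := p) (k := k) m) n) hd
  convert this using 2
  ring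

theorem detCoeff_ne_zero (hτ : PresW τ) (b : Basis (Fin n) 𝕃 N) (F : N →ₛₗ[τ] N)
    (hF : Function.Injective F) : detCoeff b F ≠ 0 := by
  intro h0
  rw [detCoeff_eq] at h0
  obtain ⟨v, hv0, hv⟩ := Matrix.exists_mulVec_eq_zero_iff.mpr h0
  have hsurj := hτ.bijective.2
  choose u hu using fun j => hsurj (v j)
  have hx : F (∑ j, u j • b j) = 0 := by
    apply b.repr.injective
    ext i
    rw [repr_apply b b F, map_zero, Finsupp.zero_apply]
    have : ∀ j, τ (b.repr (∑ j, u j • b j) j) = v j := by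
      intro j
      rw [Basis.repr_sum_self, hu]
    simp_rw [this]
    exact congrFun hv i
  have hx0 : ∑ j, u j • b j = 0 := hF (hx.trans (map_zero F).symm)
  apply hv0
  funext j
  have := congrArg (fun x => b.repr x j) hx0
  simp only [Basis.repr_sum_self, map_zero, Finsupp.zero_apply] at this
  rw [← hu j, this, map_zero]
  rfl

theorem exists_ordP_detCoeff (hτ : PresW τ) (b : Basis (Fin n) 𝕃 N) (F : N →ₛₗ[τ] N)
    (hF : Function.Injective F) : ∃ d : ℤ, IsOrdP (detCoeff b F) d :=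
  exists_isOrdP (detCoeff_ne_zero hτ b F hF)

end smat

end Helper5.IsocLib
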