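import Mathlib
import Groth.Prelude.Def_Isoc
import Groth.Agent.Lib.Helper5.Isoc.Scalars
import Groth.Agent.Lib.Helper5.Isoc.PPow
import Groth.Agent.Lib.Helper5.Isoc.Img
import Groth.Agent.Lib.Helper5.Isoc.Lat
import Groth.Agent.Lib.Helper5.Isoc.Det

set_option autoImplicit false
set_option linter.unusedSectionVars false

namespace Helper5.IsocLib
open Isoc Module
open scoped Pointwise

section intmat
variable {p : ℕ} [hp : Fact p.Prime] {k : Type*} [Field k] [CharP k p] [PerfectRing k p]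

local notation "𝕎" => WittVector p k
local notation "𝕃" => FractionRing (WittVector p k)

variable {N : Type*} [AddCommGroup N] [Module (WittVector p k) N]
  [Module (FractionRing (WittVector p k)) N]
  [IsScalarTower (WittVector p k) (FractionRing (WittVector p k)) N]
variable {τ τ' τ'' : FractionRing (WittVector p k) →+* FractionRing (WittVector p k)}
variable {ι ι' ι'' : Type*} [Fintype ι] [Fintype ι'] [Fintype ι'']

/-- a matrix with integral entries -/
def IntMat (A : Matrix ι ι' 𝕃) : Prop := ∀ i j, IsInt (A i j)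

theorem IntMat.mul {A : Matrix ι ι' 𝕃} {B : Matrix ι' ι'' 𝕃} (hA : IntMat A) (hB : IntMat B) :
    IntMat (A * B) := fun i j => by
  rw [Matrix.mul_apply]
  exact IsInt.sum _ _ fun l _ => (hA i l).mul (hB l j)

theorem IntMat.map (hτ : PresW τ) {A : Matrix ι ι' 𝕃} (hA : IntMat A) : IntMat (A.map τ) :=
  fun i j => hτ.isInt (hA i j)

theorem IntMat.exists_eq_map {A : Matrix ι ι' 𝕃} (hA : IntMat A) :
    ∃ B : Matrix ι ι' 𝕎, A = B.map (algebraMap 𝕎 𝕃) := by
  choose B hB using hA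
  exact ⟨Matrix.of B, Matrix.ext fun i j => (hB i j).symm⟩

theorem IntMat.det [DecidableEq ι] {A : Matrix ι ι 𝕃} (hA : IntMat A) : IsInt A.det := by
  obtain ⟨B, rfl⟩ := hA.exists_eq_map
  exact ⟨B.det, RingHom.map_det _ _⟩

theorem IntMat.smul {A : Matrix ι ι' 𝕃} (hA : IntMat A) {c : 𝕃} (hc : IsInt c) :
    IntMat (c • A) := fun i j => by
  rw [Matrix.smul_apply, smul_eq_mul]
  exact hc.mul (hA i j)

theorem intMat_one [DecidableEq ι] : IntMat (1 : Matrix ι ι 𝕃) := fun i j => by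
  rw [Matrix.one_apply]
  split_ifs
  · exact isInt_one
  · exact isInt_zero

theorem IntMat.inv [DecidableEq ι] {A : Matrix ι ι 𝕃} (hA : IntMat A) (hd : IsOrdP A.det 0) :
    IntMat A⁻¹ := by
  obtain ⟨B, rfl⟩ := hA.exists_eq_map
  have hdet : (B.map (algebraMap 𝕎 𝕃)).det = algebraMap 𝕎 𝕃 B.det := (RingHom.map_det _ _).symm
  rw [hdet] at hd
  obtain ⟨u, hu⟩ := isOrdP_zero_iff.mp hd
  have hBu : IsUnit B.det := by
    rw [algebraMap_inj hu]; exact u.isUnit
  have hB : IsUnit B := (Matrix.isUnit_iff_isUnit_det B).mpr hBu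
  have h1 : B.map (algebraMap 𝕎 𝕃) * (B⁻¹).map (algebraMap 𝕎 𝕃) = 1 := by
    rw [← Matrix.map_mul, Matrix.mul_nonsing_inv B hBu, Matrix.map_one _ (map_zero _) (map_one _)]
  rw [Matrix.inv_eq_right_inv h1]
  exact fun i j => ⟨_, rfl⟩

variable {n : ℕ}

theorem intMat_toMatrix (b : Basis ι 𝕃 N) {M : Submodule 𝕎 N}
    (hb : Submodule.span 𝕎 (Set.range b) = M) (v : ι' → N) (hv : ∀ j, v j ∈ M) :
    IntMat (b.toMatrix v) := fun i j => by
  rw [Basis.toMatrix_apply]
  have := hb ▸ hv j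
  rw [Basis.mem_span_iff_repr_mem] at this
  exact this i

theorem mem_of_intMat_toMatrix (b : Basis ι 𝕃 N) {M : Submodule 𝕎 N}
    (hb : Submodule.span 𝕎 (Set.range b) = M) (v : ι' → N) (hv : IntMat (b.toMatrix v)) (j : ι') :
    v j ∈ M := by
  rw [← hb, Basis.mem_span_iff_repr_mem]
  intro i
  exact hv i j

/-- if `P ≤ P'` are spanned by bases and the transition matrix has unit determinant, `P = P'` -/
theorem eq_of_det_unit (b b' : Basis (Fin n) 𝕃 N) {P P' : Submodule 𝕎 N}
    (hb : Submodule.span 𝕎 (Set.range b) = P) (hb' : Submodule.span 𝕎 (Set.range b') = P')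
    (hle : P ≤ P') (hd : IsOrdP (b'.toMatrix b).det 0) : P = P' := by
  apply le_antisymm hle
  have h1 : IntMat (b'.toMatrix b) :=
    intMat_toMatrix b' hb' b (fun j => hle (hb ▸ Submodule.subset_span (Set.mem_range_self j)))
  have h2 : b.toMatrix b' = (b'.toMatrix b)⁻¹ :=
    (Matrix.inv_eq_left_inv (Basis.toMatrix_mul_toMatrix_flip b b')).symm
  have h3 : IntMat (b.toMatrix b') := h2 ▸ h1.inv hd
  rw [← hb', Submodule.span_le]
  rintro _ ⟨j, rfl⟩
  exact mem_of_intMat_toMatrix b hb b' h3 j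

theorem smat_intMat (b : Basis ι 𝕃 N) {M : Submodule 𝕎 N}
    (hb : Submodule.span 𝕎 (Set.range b) = M) (F : N →ₛₗ[τ] N) (h : img F M ≤ M) :
    IntMat (smat₂ b b F) := fun i j => by
  rw [smat₂_apply]
  have h1 : F (b j) ∈ M :=
    h (apply_mem_img (hb ▸ Submodule.subset_span (Set.mem_range_self j)))
  exact (mem_iff_repr b hb _).mp h1 i

end intmat

end Helper5.IsocLib
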