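import Mathlib
import Groth.Prelude.Def_Isoc
import Groth.Agent.Lib.Helper5.Isoc.Scalars
import Groth.Agent.Lib.Helper5.Isoc.PPow
import Groth.Agent.Lib.Helper5.Isoc.Img
import Groth.Agent.Lib.Helper5.Isoc.Lat
import Groth.Agent.Lib.Helper5.Isoc.Det
import Groth.Agent.Lib.Helper5.Isoc.IntMat

set_option autoImplicit false
set_option linter.unusedSectionVars false

namespace Helper5.IsocLib
open Isoc Module
open scoped Pointwise

section detlat
variable {p : ℕ} [hp : Fact p.Prime] {k : Type*} [Field k] [CharP k p] [PerfectRing k p]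

local notation "𝕎" => WittVector p k
local notation "𝕃" => FractionRing (WittVector p k)

variable {N : Type*} [AddCommGroup N] [Module (WittVector p k) N]
  [Module (FractionRing (WittVector p k)) N]
  [IsScalarTower (WittVector p k) (FractionRing (WittVector p k)) N]
variable {τ τ' τ'' : FractionRing (WittVector p k) →+* FractionRing (WittVector p k)}
variable {n : ℕ}

theorem img_smul_le {F : N →ₛₗ[τ] N} {M M' : Submodule 𝕎 N} {r : ℤ} (h : img F M ≤ pPow r M') :
    img (((p : 𝕃) ^ (-r)) • F) M ≤ M' := by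
  rw [img_le_iff]
  intro x hx
  rw [LinearMap.smul_apply]
  exact mem_pPow'.mp (h (apply_mem_img hx))

theorem ordP_det_ge (b : Basis (Fin n) 𝕃 N) {M : Submodule 𝕎 N}
    (hb : Submodule.span 𝕎 (Set.range b) = M) (F : N →ₛₗ[τ] N) {r d : ℤ}
    (h : img F M ≤ pPow r M) (hd : IsOrdP (detCoeff b F) d) : r * n ≤ d := by
  have h1 : IntMat (smat₂ b b (((p : 𝕃) ^ (-r)) • F)) := smat_intMat b hb _ (img_smul_le h)
  have h2 : IsInt (detCoeff b (((p : 𝕃) ^ (-r)) • F)) := h1.det
  have h3 := ordP_detCoeff_smul b F hd (-r)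
  have := ordP_nonneg_of_isInt h3 h2
  linarith

theorem img_eq_of_det_unit (hτ : PresW τ) (b : Basis (Fin n) 𝕃 N) {M : Submodule 𝕎 N}
    (hb : Submodule.span 𝕎 (Set.range b) = M) (F : N →ₛₗ[τ] N)
    (h : img F M ≤ M) (hd : IsOrdP (detCoeff b F) 0) : img F M = M := by
  apply le_antisymm h
  intro y hy
  have hA : IntMat (smat₂ b b F) := smat_intMat b hb F h
  rw [detCoeff_eq] at hd
  have hAi : IntMat (smat₂ b b F)⁻¹ := hA.inv hd
  have hdet : IsUnit (smat₂ b b F).det := (ordP_ne_zero hd).isUnit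
  have hv : ∀ i, IsInt (b.repr y i) := (mem_iff_repr b hb y).mp hy
  have hw : ∀ i, IsInt (((smat₂ b b F)⁻¹.mulVec (fun i => b.repr y i)) i) := by
    intro i
    rw [Matrix.mulVec, dotProduct]
    exact IsInt.sum _ _ fun j _ => (hAi i j).mul (hv j)
  have hsurj := hτ.bijective.2
  choose u hu using fun j => hsurj (((smat₂ b b F)⁻¹.mulVec (fun i => b.repr y i)) j)
  have hu_int : ∀ j, IsInt (u j) := fun j => hτ.isInt_iff.mp (by rw [hu]; exact hw j)
  have hxM : (∑ j, u j • b j) ∈ M := by
    rw [mem_iff_repr b hb]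
    intro i
    rw [Basis.repr_sum_self]
    exact hu_int i
  have hFx : F (∑ j, u j • b j) = y := by
    apply b.repr.injective
    ext i
    rw [repr_apply b b F]
    have : ∀ j, τ (b.repr (∑ j, u j • b j) j) =
        ((smat₂ b b F)⁻¹.mulVec (fun i => b.repr y i)) j := by
      intro j
      rw [Basis.repr_sum_self, hu]
    simp_rw [this]
    have h1 : (smat₂ b b F).mulVec ((smat₂ b b F)⁻¹.mulVec (fun i => b.repr y i)) =
        fun i => b.repr y i := by
      rw [Matrix.mulVec_mulVec, Matrix.mul_nonsing_inv _ hdet, Matrix.one_mulVec]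
    exact congrFun h1 i
  exact hFx ▸ apply_mem_img hxM

theorem det_unit_of_img_eq (hτ : PresW τ) (b : Basis (Fin n) 𝕃 N) {M : Submodule 𝕎 N}
    (hb : Submodule.span 𝕎 (Set.range b) = M) (F : N →ₛₗ[τ] N)
    (h : img F M = M) : IsOrdP (detCoeff b F) 0 := by
  have hA : IntMat (smat₂ b b F) := smat_intMat b hb F h.le
  have hbM : ∀ j, b j ∈ M := fun j => hb ▸ Submodule.subset_span (Set.mem_range_self j)
  have hex : ∀ j, ∃ x ∈ M, F x = b j := fun j => (mem_img hτ).mp (h.symm ▸ hbM j : b j ∈ img F M)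
  choose x hxM hx using hex
  have hC : IntMat (b.toMatrix x) := intMat_toMatrix b hb x hxM
  have h1 : smat₂ b b F * (b.toMatrix x).map τ = 1 := by
    refine Matrix.ext fun i j => ?_
    rw [Matrix.mul_apply, Matrix.one_apply]
    have := repr_apply b b F (x j) i
    rw [hx, Basis.repr_self, Finsupp.single_apply] at this
    simp only [Matrix.map_apply, Basis.toMatrix_apply]
    rw [← this]
    simp [eq_comm]
  have h2 : detCoeff b F * τ ((b.toMatrix x).det) = 1 := by
    have := congrArg Matrix.det h1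
    rw [Matrix.det_mul, Matrix.det_one] at this
    rw [detCoeff_eq, RingHom.map_det]
    exact this
  have hne1 : detCoeff b F ≠ 0 := left_ne_zero_of_mul_eq_one h2
  have hne2 : (b.toMatrix x).det ≠ 0 := by
    intro h0
    rw [h0, map_zero, mul_zero] at h2
    exact zero_ne_one h2
  obtain ⟨d, hd⟩ := exists_isOrdP hne1
  obtain ⟨e, he⟩ := exists_isOrdP hne2
  have h3 := ordP_mul hd (hτ.ordP he)
  rw [h2] at h3
  have h4 := ordP_unique h3 isOrdP_one
  have h5 : 0 ≤ d := ordP_nonneg_of_isInt hd (by rw [detCoeff_eq]; exact hA.det)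
  have h6 : 0 ≤ e := ordP_nonneg_of_isInt he hC.det
  have : d = 0 := by omega
  exact this ▸ hd

end detlat

end Helper5.IsocLib
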