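import Mathlib
import Groth.Prelude.Def_Isoc
import Groth.Agent.Lib.Helper5.Isoc.DetLat

set_option autoImplicit false
set_option linter.unusedSectionVars false

namespace Helper5.IsocLib
open Isoc Module
open scoped Pointwise

section ord
variable {p : ℕ} [hp : Fact p.Prime] {k : Type*} [Field k] [CharP k p] [PerfectRing k p]

local notation "𝕎" => WittVector p k
local notation "𝕃" => FractionRing (WittVector p k)

variable {N : Type*} [AddCommGroup N] [Module (WittVector p k) N]
  [Module (FractionRing (WittVector p k)) N]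
  [IsScalarTower (WittVector p k) (FractionRing (WittVector p k)) N]
variable {τ τ' τ'' : FractionRing (WittVector p k) →+* FractionRing (WittVector p k)}
variable {n : ℕ}

theorem exists_latBasis_fin {M : Submodule 𝕎 N} (hM : M.IsLattice 𝕃) (b : Basis (Fin n) 𝕃 N) :
    ∃ b' : Basis (Fin n) 𝕃 N, Submodule.span 𝕎 (Set.range b') = M := by
  obtain ⟨m, b', hb'⟩ := exists_latBasis hM
  have h1 : Module.finrank 𝕃 N = n := by rw [Module.finrank_eq_card_basis b, Fintype.card_fin]
  have h2 : Module.finrank 𝕃 N = m := by rw [Module.finrank_eq_card_basis b', Fintype.card_fin]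
  obtain rfl : m = n := h2.symm.trans h1
  exact ⟨b', hb'⟩

theorem latImg_mul_le (hτ : PresW τ) (F : N →ₛₗ[τ] N) {M : Submodule 𝕎 N} {s : ℕ} {r : ℤ}
    (h : latImg F s M ≤ pPow r M) (m : ℕ) : latImg F (m * s) M ≤ pPow (m * r) M := by
  induction m with
  | zero => simp [latImg_zero, pPow_zero]
  | succ m ih =>
    have e1 : (m + 1) * s = m * s + s := by ring
    rw [e1, latImg_add hτ]
    calc latImg F (m * s) (latImg F s M) ≤ latImg F (m * s) (pPow r M) := latImg_mono F _ h
      _ = pPow r (latImg F (m * s) M) := latImg_pPow F _ r M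
      _ ≤ pPow r (pPow (m * r) M) := pPow_mono ih
      _ = pPow (((m + 1 : ℕ) : ℤ) * r) M := by rw [← pPow_add]; congr 1; push_cast; ring

theorem latImg_mul_eq (hτ : PresW τ) (F : N →ₛₗ[τ] N) {M : Submodule 𝕎 N} {s : ℕ} {r : ℤ}
    (h : latImg F s M = pPow r M) (m : ℕ) : latImg F (m * s) M = pPow (m * r) M := by
  induction m with
  | zero => simp [latImg_zero, pPow_zero]
  | succ m ih =>
    have e1 : (m + 1) * s = m * s + s := by ring
    rw [e1, latImg_add hτ, h, latImg_pPow, ih, ← pPow_add]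
    congr 1; push_cast; ring

/-- the determinant bound: `F^s M ⊆ p^r M` forces `r h ≤ s d` -/
theorem ord_det_bound (hτ : PresW τ) (F : N →ₛₗ[τ] N) (b : Basis (Fin n) 𝕃 N) {d : ℤ}
    (hd : IsOrdP (detCoeff b F) d) {M : Submodule 𝕎 N} (hM : M.IsLattice 𝕃) {s : ℕ} {r : ℤ}
    (h : latImg F s M ≤ pPow r M) : r * n ≤ s * d := by
  obtain ⟨b', hb'⟩ := exists_latBasis_fin hM b
  have h1 : IsOrdP (detCoeff b' (iter F s)) (s * d) :=
    ordP_detCoeff_iter hτ b' F (ordP_detCoeff_indep hτ b b' F hd) s
  exact ordP_det_ge b' hb' (iter F s) h h1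

end ord

end Helper5.IsocLib
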