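import Mathlib
import Groth.Prelude.Def_Isoc
import Groth.Agent.Lib.Helper5.Isoc.Ord

set_option autoImplicit false
set_option linter.unusedSectionVars false

namespace Helper5.IsocLib
open Isoc Module Filter Topology
open scoped Pointwise

section slope
variable {p : ℕ} [hp : Fact p.Prime] {k : Type*} [Field k] [CharP k p] [PerfectRing k p]

local notation "𝕎" => WittVector p k
local notation "𝕃" => FractionRing (WittVector p k)

variable {N : Type*} [AddCommGroup N] [Module (WittVector p k) N]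
  [Module (FractionRing (WittVector p k)) N]
  [IsScalarTower (WittVector p k) (FractionRing (WittVector p k)) N]
variable {τ τ' τ'' : FractionRing (WittVector p k) →+* FractionRing (WittVector p k)}

theorem isIsoc_iter {F : N →ₛₗ[τ] N} (hF : IsIsoc F) (s : ℕ) : IsIsoc (iter F s) :=
  ⟨hF.finite, by rw [coe_iter]; exact hF.bijective.iterate s⟩

theorem lattice_ne_bot [Nontrivial N] {M : Submodule 𝕎 N} (hM : M.IsLattice 𝕃) : M ≠ ⊥ := by
  rintro rfl
  have := hM.span_eq_top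
  simp only [Submodule.bot_coe, Submodule.span_zero_singleton] at this
  exact bot_ne_top this

theorem nontrivial_of_lattice_ne_bot {M : Submodule 𝕎 N} (hM0 : M ≠ ⊥) : Nontrivial N := by
  obtain ⟨x, _, hx0⟩ := Submodule.exists_mem_ne_zero_of_ne_bot hM0
  exact ⟨⟨x, 0, hx0⟩⟩

theorem exists_isOrd (hτ : PresW τ) {F : N →ₛₗ[τ] N} (hF : Function.Injective F)
    {M : Submodule 𝕎 N} (hM : M.IsLattice 𝕃) (hM0 : M ≠ ⊥) (s : ℕ) : ∃ r : ℤ, IsOrd M F s r := by
  have h1 : (latImg F s M).FG := img_fg (hτ.pow s) (iter F s) hM.fg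
  have h2 : latImg F s M ≠ ⊥ := by
    intro h
    exact hM0 ((img_eq_bot_iff (iter F s) (by rw [coe_iter]; exact hF.iterate s)).mp h)
  exact exists_ord hM h1 h2

theorem isOrd_ne_bot {F : N →ₛₗ[τ] N} {M : Submodule 𝕎 N} {s : ℕ} {r : ℤ} (h : IsOrd M F s r) :
    M ≠ ⊥ := by
  rintro rfl
  apply h.2
  rw [latImg_eq_img, img_bot]
  exact bot_le

theorem isOrd_unique {F : N →ₛₗ[τ] N} {M : Submodule 𝕎 N} {s : ℕ} {r r' : ℤ}
    (h : IsOrd M F s r) (h' : IsOrd M F s r') : r = r' := ord_unique h h'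

theorem isOrd_zero {F : N →ₛₗ[τ] N} {M : Submodule 𝕎 N} (hM : M.IsLattice 𝕃) (hM0 : M ≠ ⊥) :
    IsOrd M F 0 0 := by
  refine ⟨by rw [latImg_zero, pPow_zero], ?_⟩
  rw [latImg_zero, zero_add]
  intro h
  have h1 : pPow 0 M ≤ pPow 1 M := by rw [pPow_zero]; exact h
  have := (pPow_le_pPow_iff hM hM0).mp h1
  omega

theorem isOrd_superadd (hτ : PresW τ) {F : N →ₛₗ[τ] N} {M : Submodule 𝕎 N} {m n : ℕ} {a b c : ℤ}
    (ha : IsOrd M F m a) (hb : IsOrd M F n b) (hc : IsOrd M F (m + n) c) : a + b ≤ c := by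
  have h1 : latImg F (m + n) M ≤ pPow (a + b) M := by
    rw [latImg_add hτ]
    calc latImg F m (latImg F n M) ≤ latImg F m (pPow b M) := latImg_mono F m hb.1
      _ = pPow b (latImg F m M) := latImg_pPow F m b M
      _ ≤ pPow b (pPow a M) := pPow_mono ha.1
      _ = pPow (a + b) M := by rw [← pPow_add, add_comm]
  exact (ord_le_iff hc _).mp h1

/-- comparison of orders relative to two lattices -/
theorem ord_compare (F : N →ₛₗ[τ] N) {M₁ M₂ : Submodule 𝕎 N}
    (hM₁ : M₁.IsLattice 𝕃) (hM₂ : M₂.IsLattice 𝕃) :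
    ∃ C : ℕ, ∀ (n : ℕ) (r₁ r₂ : ℤ), IsOrd M₁ F n r₁ → IsOrd M₂ F n r₂ → r₂ - C ≤ r₁ := by
  obtain ⟨c, hc⟩ := exists_pPow_le hM₁.fg hM₂.span_eq_top
  obtain ⟨c', hc'⟩ := exists_le_pPow hM₂.fg hM₁.span_eq_top
  refine ⟨c + c', fun n r₁ r₂ h₁ h₂ => ?_⟩
  have h1 : pPow c (latImg F n M₁) ≤ pPow (r₂ + -(c' : ℤ)) M₁ := by
    calc pPow c (latImg F n M₁) = latImg F n (pPow c M₁) := (latImg_pPow F n c M₁).symm
      _ ≤ latImg F n M₂ := latImg_mono F n hc
      _ ≤ pPow r₂ M₂ := h₂.1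
      _ ≤ pPow r₂ (pPow (-(c' : ℤ)) M₁) := pPow_mono hc'
      _ = pPow (r₂ + -(c' : ℤ)) M₁ := (pPow_add _ _ _).symm
  have h2 : latImg F n M₁ ≤ pPow (-(c : ℤ) + (r₂ + -(c' : ℤ))) M₁ := by
    have := pPow_mono (r := -(c : ℤ)) h1
    rwa [← pPow_add, ← pPow_add, neg_add_cancel, pPow_zero] at this
  have := (ord_le_iff h₁ _).mp h2
  push_cast
  omega

end slope

section slope2
variable {p : ℕ} [hp : Fact p.Prime] {k : Type*} [Field k] [CharP k p] [PerfectRing k p]

local notation "𝕎" => WittVector p k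
local notation "𝕃" => FractionRing (WittVector p k)

variable {N : Type*} [AddCommGroup N] [Module (WittVector p k) N]
  [Module (FractionRing (WittVector p k)) N]
  [IsScalarTower (WittVector p k) (FractionRing (WittVector p k)) N]
variable {τ τ' τ'' : FractionRing (WittVector p k) →+* FractionRing (WittVector p k)}

theorem tendsto_of_close {o₁ o₂ : ℕ → ℤ} {lam : ℝ} (C : ℕ)
    (h : ∀ n, 1 ≤ n → |o₁ n - o₂ n| ≤ C)
    (h₁ : Tendsto (fun n : ℕ => (o₁ n : ℝ) / n) atTop (𝓝 lam)) :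
    Tendsto (fun n : ℕ => (o₂ n : ℝ) / n) atTop (𝓝 lam) := by
  have h0 : Tendsto (fun n : ℕ => ((o₂ n : ℝ) - o₁ n) / n) atTop (𝓝 0) := by
    apply squeeze_zero_norm' (a := fun n : ℕ => (C : ℝ) / n)
    · filter_upwards [eventually_ge_atTop 1] with n hn
      rw [Real.norm_eq_abs, abs_div, Nat.abs_cast]
      apply div_le_div_of_nonneg_right _ (Nat.cast_nonneg n)
      have := h n hn
      have h2 : |(o₂ n : ℝ) - o₁ n| = ((|o₁ n - o₂ n| : ℤ) : ℝ) := by
        rw [abs_sub_comm]; push_cast; rfl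
      rw [h2]
      exact_mod_cast this
    · exact tendsto_const_div_atTop_nhds_zero_nat _
  have := h₁.add h0
  rw [add_zero] at this
  refine this.congr fun n => ?_
  ring

theorem exists_ord_seq (hτ : PresW τ) {F : N →ₛₗ[τ] N} (hF : Function.Injective F)
    {M : Submodule 𝕎 N} (hM : M.IsLattice 𝕃) (hM0 : M ≠ ⊥) :
    ∃ o : ℕ → ℤ, ∀ n, IsOrd M F n (o n) := by
  choose o ho using fun s => exists_isOrd hτ hF hM hM0 s
  exact ⟨o, ho⟩

/-- Fekete: the limit of `ord_M(F^n)/n` exists -/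
theorem exists_tendsto_ord (hτ : PresW τ) {F : N →ₛₗ[τ] N} (hF : IsIsoc F)
    {M : Submodule 𝕎 N} (hM : M.IsLattice 𝕃) (o : ℕ → ℤ)
    (ho : ∀ n, 1 ≤ n → IsOrd M F n (o n)) :
    ∃ lam : ℝ, Tendsto (fun n : ℕ => (o n : ℝ) / n) atTop (𝓝 lam) := by
  have hM0 : M ≠ ⊥ := isOrd_ne_bot (ho 1 le_rfl)
  have hNT : Nontrivial N := nontrivial_of_lattice_ne_bot hM0
  have hfin := hF.finite
  let b := Module.finBasis 𝕃 N
  have hpos : 0 < Module.finrank 𝕃 N := Module.finrank_pos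
  obtain ⟨d, hd⟩ := exists_ordP_detCoeff hτ b F hF.bijective.1
  set u : ℕ → ℝ := fun n => if n = 0 then 0 else -(o n : ℝ) with hu
  have hsub : Subadditive u := by
    intro m n
    by_cases hm : m = 0
    · subst hm; simp [hu]
    by_cases hn : n = 0
    · subst hn; simp [hu]
    have hmn : m + n ≠ 0 := by omega
    simp only [hu, hm, hn, hmn, if_false]
    have := isOrd_superadd hτ (ho m (by omega)) (ho n (by omega)) (ho (m + n) (by omega))
    have h2 : ((o m : ℝ) + o n) ≤ o (m + n) := by exact_mod_cast this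
    linarith
  have hbound : ∀ n, 1 ≤ n → o n ≤ n * |d| := by
    intro n hn
    have h1 := ord_det_bound hτ F b hd hM (ho n hn).1
    have h2 : (n : ℤ) * d ≤ n * |d| := by
      apply mul_le_mul_of_nonneg_left (le_abs_self d); positivity
    have h3 : (n : ℤ) * |d| ≤ n * |d| * (Module.finrank 𝕃 N : ℤ) := by
      have : (1 : ℤ) ≤ (Module.finrank 𝕃 N : ℤ) := by exact_mod_cast hpos
      have h4 : (0 : ℤ) ≤ n * |d| := by positivity
      nlinarith
    have h5 : o n * (Module.finrank 𝕃 N : ℤ) ≤ n * |d| * (Module.finrank 𝕃 N : ℤ) := by linarith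
    exact le_of_mul_le_mul_right h5 (by exact_mod_cast hpos)
  have hbdd : BddBelow (Set.range fun n => u n / n) := by
    refine ⟨-(|d| : ℝ), ?_⟩
    rintro _ ⟨n, rfl⟩
    by_cases hn : n = 0
    · subst hn; simp [hu]
    simp only [hu, hn, if_false]
    have h1 := hbound n (by omega)
    have h2 : (o n : ℝ) ≤ n * |(d : ℝ)| := by exact_mod_cast h1
    have hnpos : (0 : ℝ) < n := by exact_mod_cast Nat.pos_of_ne_zero hn
    rw [neg_div, neg_le_neg_iff, div_le_iff₀ hnpos]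
    linarith
  have hlim := hsub.tendsto_lim hbdd
  refine ⟨-hsub.lim, ?_⟩
  have := hlim.neg
  refine this.congr' ?_
  filter_upwards [eventually_ge_atTop 1] with n hn
  have hn0 : n ≠ 0 := by omega
  simp only [hu, hn0, if_false]
  ring

end slope2

end Helper5.IsocLib
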