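import Mathlib
import Groth.Prelude.Def_Isoc
import Groth.Agent.Lib.Helper5.Isoc.Slope

set_option autoImplicit false
set_option linter.unusedSectionVars false

namespace Helper5.IsocLib
open Isoc Module Filter Topology
open scoped Pointwise

section twist
variable {p : ℕ} [hp : Fact p.Prime] {k : Type*} [Field k] [CharP k p] [PerfectRing k p]

local notation "𝕎" => WittVector p k
local notation "𝕃" => FractionRing (WittVector p k)

variable {N : Type*} [AddCommGroup N] [Module (WittVector p k) N]
  [Module (FractionRing (WittVector p k)) N]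
  [IsScalarTower (WittVector p k) (FractionRing (WittVector p k)) N]
variable {N' : Type*} [AddCommGroup N'] [Module (WittVector p k) N']
  [Module (FractionRing (WittVector p k)) N']
  [IsScalarTower (WittVector p k) (FractionRing (WittVector p k)) N']
variable {τ τ' τ'' : FractionRing (WittVector p k) →+* FractionRing (WittVector p k)}

theorem latImg_one (F : N →ₛₗ[τ] N) (M : Submodule 𝕎 N) : latImg F 1 M = img F M := by
  rw [latImg, Function.iterate_one]; rfl

theorem img_zpow_smul (G : N →ₛₗ[τ] N') (m : ℤ) (M : Submodule 𝕎 N) :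
    img (((p : 𝕃) ^ m) • G) M = pPow m (img G M) := by
  apply le_antisymm
  · rw [img_le_iff]
    intro x hx
    rw [LinearMap.smul_apply]
    exact smul_mem_pPow (apply_mem_img hx)
  · have key : img G M ≤ pPow (-m) (img (((p : 𝕃) ^ m) • G) M) := by
      rw [img_le_iff]
      intro x hx
      rw [mem_pPow', neg_neg]
      have := apply_mem_img (G := ((p : 𝕃) ^ m) • G) hx
      rwa [LinearMap.smul_apply] at this
    have := pPow_mono (r := m) key
    rwa [← pPow_add, add_neg_cancel, pPow_zero] at this

theorem latImg_twist (hτ : PresW τ) (F : N →ₛₗ[τ] N) (m : ℤ) (n j : ℕ) (M : Submodule 𝕎 N) :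
    latImg (((p : 𝕃) ^ m) • iter F n) j M = pPow (m * j) (latImg F (n * j) M) := by
  induction j with
  | zero => simp [latImg_zero, pPow_zero]
  | succ j ih =>
    rw [add_comm j 1, latImg_add (hτ.pow n), ih, latImg_one, img_pPow, img_zpow_smul,
      ← latImg_eq_img, ← latImg_add hτ, ← pPow_add]
    congr 2
    · push_cast; ring
    · ring

theorem isOrd_twist (hτ : PresW τ) (F : N →ₛₗ[τ] N) (m : ℤ) (n j : ℕ) {M : Submodule 𝕎 N} {r : ℤ}
    (h : IsOrd M F (n * j) r) : IsOrd M (((p : 𝕃) ^ m) • iter F n) j (m * j + r) := by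
  constructor
  · rw [latImg_twist hτ, pPow_add]
    exact pPow_mono h.1
  · rw [latImg_twist hτ, add_assoc, pPow_add, pPow_le_iff]
    exact h.2

theorem isIsoc_twist {F : N →ₛₗ[τ] N} (hF : IsIsoc F) (m : ℤ) (n : ℕ) :
    IsIsoc (((p : 𝕃) ^ m) • iter F n) := by
  refine ⟨hF.finite, ?_⟩
  have h1 : Function.Bijective (iter F n) := (isIsoc_iter hF n).bijective
  have hne : ((p : 𝕃) ^ m) ≠ 0 := zpow_ne_zero _ pL_ne_zero
  constructor
  · intro x y hxy
    simp only [LinearMap.smul_apply] at hxy
    exact h1.1 (smul_right_injective N hne hxy)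
  · intro y
    obtain ⟨x, hx⟩ := h1.2 (((p : 𝕃) ^ m)⁻¹ • y)
    refine ⟨x, ?_⟩
    rw [LinearMap.smul_apply, hx, smul_smul, mul_inv_cancel₀ hne, one_smul]

theorem isFirstSlope_twist (hτ : PresW τ) {F : N →ₛₗ[τ] N} {lam : ℝ}
    (hlam : IsFirstSlope F lam) (m : ℤ) (n : ℕ) :
    IsFirstSlope (((p : 𝕃) ^ m) • iter F n) (n * lam + m) := by
  obtain ⟨M, hM, o, ho, hlim⟩ := hlam
  have hM0 : M ≠ ⊥ := isOrd_ne_bot (ho 1 le_rfl)
  refine ⟨M, hM, fun j => m * j + (if n * j = 0 then 0 else o (n * j)), ?_, ?_⟩
  · intro j hj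
    apply isOrd_twist hτ
    by_cases h0 : n * j = 0
    · rw [if_pos h0, h0]; exact isOrd_zero hM hM0
    · rw [if_neg h0]; exact ho _ (Nat.one_le_iff_ne_zero.mpr h0)
  · by_cases hn : n = 0
    · subst hn
      simp only [zero_mul, if_true, add_zero, Nat.cast_zero]
      rw [zero_add]
      refine tendsto_const_nhds.congr' ?_
      filter_upwards [eventually_ge_atTop 1] with j hj
      have : (j : ℝ) ≠ 0 := by exact_mod_cast (by omega : j ≠ 0)
      push_cast
      field_simp
    · have hnpos : 1 ≤ n := Nat.one_le_iff_ne_zero.mpr hn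
      have hsub : Tendsto (fun j : ℕ => n * j) atTop atTop :=
        tendsto_atTop_mono (fun j => Nat.le_mul_of_pos_left j hnpos) tendsto_id
      have h1 := hlim.comp hsub
      have h2 := (h1.const_mul (n : ℝ)).add_const (m : ℝ)
      refine h2.congr' ?_
      filter_upwards [eventually_ge_atTop 1] with j hj
      have hnj : n * j ≠ 0 := Nat.mul_ne_zero hn (by omega)
      have hj0 : (j : ℝ) ≠ 0 := by exact_mod_cast (by omega : j ≠ 0)
      have hn0 : (n : ℝ) ≠ 0 := by exact_mod_cast hn
      simp only [Function.comp_apply, if_neg hnj]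
      push_cast
      field_simp
      ring

end twist

end Helper5.IsocLib
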