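import Mathlib
import Groth.Prelude.Def_Isoc
import Groth.Agent.Lib.Helper5.Isoc.Twist

set_option autoImplicit false
set_option linter.unusedSectionVars false

namespace Helper5.IsocLib
open Isoc Module Filter Topology
open scoped Pointwise

section slope3
variable {p : ℕ} [hp : Fact p.Prime] {k : Type*} [Field k] [CharP k p] [PerfectRing k p]

local notation "𝕎" => WittVector p k
local notation "𝕃" => FractionRing (WittVector p k)

variable {N : Type*} [AddCommGroup N] [Module (WittVector p k) N]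
  [Module (FractionRing (WittVector p k)) N]
  [IsScalarTower (WittVector p k) (FractionRing (WittVector p k)) N]
variable {τ τ' τ'' : FractionRing (WittVector p k) →+* FractionRing (WittVector p k)}
variable {n : ℕ}

/-- the first slope can be computed on any lattice -/
theorem isFirstSlope_lattice (hτ : PresW τ) {F : N →ₛₗ[τ] N} (hF : Function.Injective F) {lam : ℝ}
    (hlam : IsFirstSlope F lam) {M' : Submodule 𝕎 N} (hM' : M'.IsLattice 𝕃) :
    ∃ o : ℕ → ℤ, (∀ n, IsOrd M' F n (o n)) ∧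
      Tendsto (fun n : ℕ => (o n : ℝ) / n) atTop (𝓝 lam) := by
  obtain ⟨M, hM, o, ho, hlim⟩ := hlam
  have hM0 : M ≠ ⊥ := isOrd_ne_bot (ho 1 le_rfl)
  have hNT : Nontrivial N := nontrivial_of_lattice_ne_bot hM0
  obtain ⟨o', ho'⟩ := exists_ord_seq hτ hF hM' (lattice_ne_bot hM')
  refine ⟨o', ho', ?_⟩
  obtain ⟨C, hC⟩ := ord_compare F hM hM'
  obtain ⟨C', hC'⟩ := ord_compare F hM' hM
  have hclose : ∀ n, 1 ≤ n → |o n - o' n| ≤ ((C + C' : ℕ) : ℤ) := by
    intro n hn
    have h1 := hC n _ _ (ho n hn) (ho' n)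
    have h2 := hC' n _ _ (ho' n) (ho n hn)
    rw [abs_le]
    push_cast
    constructor <;> omega
  exact tendsto_of_close (C + C') hclose hlim

theorem isFirstSlope_unique (hτ : PresW τ) {F : N →ₛₗ[τ] N} (hF : Function.Injective F)
    {lam lam' : ℝ} (h : IsFirstSlope F lam) (h' : IsFirstSlope F lam') : lam = lam' := by
  obtain ⟨M, hM, o, ho, hlim⟩ := h
  obtain ⟨o', ho', hlim'⟩ := isFirstSlope_lattice hτ hF h' hM
  have : ∀ n, 1 ≤ n → o n = o' n := fun n hn => isOrd_unique (ho n hn) (ho' n)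
  have h2 : Tendsto (fun n : ℕ => (o' n : ℝ) / n) atTop (𝓝 lam) := by
    refine hlim.congr' ?_
    filter_upwards [eventually_ge_atTop 1] with n hn
    rw [this n hn]
  exact tendsto_nhds_unique h2 hlim'

/-- a lattice with `F^s M ⊆ p^r M` bounds the first slope from below -/
theorem firstSlope_ge (hτ : PresW τ) {F : N →ₛₗ[τ] N} (hF : Function.Injective F) {lam : ℝ}
    (hlam : IsFirstSlope F lam) {M : Submodule 𝕎 N} (hM : M.IsLattice 𝕃) {s : ℕ} {r : ℤ}
    (hs : 0 < s) (h : latImg F s M ≤ pPow r M) : (r : ℝ) / s ≤ lam := by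
  obtain ⟨o, ho, hlim⟩ := isFirstSlope_lattice hτ hF hlam hM
  have hsub : Tendsto (fun m : ℕ => m * s) atTop atTop :=
    tendsto_atTop_mono (fun m => Nat.le_mul_of_pos_right m hs) tendsto_id
  have h1 := hlim.comp hsub
  refine ge_of_tendsto h1 ?_
  filter_upwards [eventually_ge_atTop 1] with m hm
  have h2 : (m : ℤ) * r ≤ o (m * s) := (ord_le_iff (ho (m * s)) _).mp (latImg_mul_le hτ F h m)
  have h3 : ((m : ℝ) * r) ≤ o (m * s) := by exact_mod_cast h2
  have hm0 : (0 : ℝ) < m := by exact_mod_cast hm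
  have hs0 : (0 : ℝ) < s := by exact_mod_cast hs
  simp only [Function.comp_apply]
  push_cast
  rw [div_le_div_iff₀ hs0 (by positivity)]
  nlinarith

theorem isOrd_of_latImg_eq {F : N →ₛₗ[τ] N} {M : Submodule 𝕎 N} (hM : M.IsLattice 𝕃)
    (hM0 : M ≠ ⊥) {s : ℕ} {r : ℤ} (h : latImg F s M = pPow r M) : IsOrd M F s r := by
  refine ⟨h.le, ?_⟩
  rw [h, pPow_le_pPow_iff hM hM0]
  omega

theorem isFirstSlope_of_latImg_eq (hτ : PresW τ) {F : N →ₛₗ[τ] N} (hF : IsIsoc F)
    {M : Submodule 𝕎 N} (hM : M.IsLattice 𝕃) (hM0 : M ≠ ⊥) {s : ℕ} {r : ℤ} (hs : 0 < s)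
    (h : latImg F s M = pPow r M) : IsFirstSlope F ((r : ℝ) / s) := by
  obtain ⟨o, ho⟩ := exists_ord_seq hτ hF.bijective.1 hM hM0
  obtain ⟨lam, hlim⟩ := exists_tendsto_ord hτ hF hM o (fun n _ => ho n)
  have hsub : Tendsto (fun m : ℕ => m * s) atTop atTop :=
    tendsto_atTop_mono (fun m => Nat.le_mul_of_pos_right m hs) tendsto_id
  have h1 := hlim.comp hsub
  have h2 : Tendsto ((fun n : ℕ => (o n : ℝ) / n) ∘ fun m : ℕ => m * s) atTop
      (𝓝 ((r : ℝ) / s)) := by
    refine tendsto_const_nhds.congr' ?_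
    filter_upwards [eventually_ge_atTop 1] with m hm
    have h3 : o (m * s) = m * r :=
      isOrd_unique (ho (m * s)) (isOrd_of_latImg_eq hM hM0 (latImg_mul_eq hτ F h m))
    have hm0 : (m : ℝ) ≠ 0 := by exact_mod_cast (by omega : m ≠ 0)
    have hs0 : (s : ℝ) ≠ 0 := by exact_mod_cast hs.ne'
    simp only [Function.comp_apply, h3]
    push_cast
    field_simp
  have : lam = (r : ℝ) / s := tendsto_nhds_unique h1 h2
  exact ⟨M, hM, o, fun n _ => ho n, this ▸ hlim⟩

/-- `F^s M = p^r M` forces `r h = s d` -/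
theorem det_eq_of_latImg_eq (hτ : PresW τ) (F : N →ₛₗ[τ] N) (b : Basis (Fin n) 𝕃 N) {d : ℤ}
    (hd : IsOrdP (detCoeff b F) d) {M : Submodule 𝕎 N} (hM : M.IsLattice 𝕃) {s : ℕ} {r : ℤ}
    (h : latImg F s M = pPow r M) : r * n = s * d := by
  obtain ⟨b', hb'⟩ := exists_latBasis_fin hM b
  have h1 : IsOrdP (detCoeff b' (iter F s)) (s * d) :=
    ordP_detCoeff_iter hτ b' F (ordP_detCoeff_indep hτ b b' F hd) s
  have h2 := ordP_detCoeff_smul b' (iter F s) h1 (-r)
  have h3 : img (((p : 𝕃) ^ (-r)) • iter F s) M = M := by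
    rw [img_zpow_smul, ← latImg_eq_img, h, ← pPow_add, neg_add_cancel, pPow_zero]
  have h4 := det_unit_of_img_eq (hτ.pow s) b' hb' _ h3
  have := ordP_unique h2 h4
  linarith

end slope3

end Helper5.IsocLib
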