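import Mathlib
import Groth.Prelude.Def_Isoc
import Groth.Agent.Lib.Helper5.Isoc.Slope3

set_option autoImplicit false
set_option linter.unusedSectionVars false

namespace Helper5.IsocLib
open Isoc Module Filter Topology
open scoped Pointwise

section chain
variable {p : ℕ} [hp : Fact p.Prime] {k : Type*} [Field k] [CharP k p] [PerfectRing k p]

local notation "𝕎" => WittVector p k
local notation "𝕃" => FractionRing (WittVector p k)

variable {N : Type*} [AddCommGroup N] [Module (WittVector p k) N]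
  [Module (FractionRing (WittVector p k)) N]
  [IsScalarTower (WittVector p k) (FractionRing (WittVector p k)) N]
variable {τ τ' τ'' : FractionRing (WittVector p k) →+* FractionRing (WittVector p k)}
variable {n : ℕ}

theorem fg_of_le_lattice {M P : Submodule 𝕎 N} (hM : M.IsLattice 𝕃) (h : P ≤ M) : P.FG := by
  have := hM
  have : IsNoetherian 𝕎 ↥P := isNoetherian_of_le h
  rw [← Module.Finite.iff_fg]
  infer_instance

theorem isLattice_of_between {M P : Submodule 𝕎 N} (hM : M.IsLattice 𝕃) {r : ℤ}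
    (hlow : pPow r M ≤ P) (hup : P ≤ M) : P.IsLattice 𝕃 := by
  have := pPow_isLattice r hM
  exact Submodule.IsLattice.of_le_of_isLattice_of_fg 𝕃 hlow (fg_of_le_lattice hM hup)

theorem det_toMatrix_ne_zero (b b' : Basis (Fin n) 𝕃 N) : (b.toMatrix b').det ≠ 0 :=
  right_ne_zero_of_mul_eq_one (det_toMatrix_mul b b')

/-- comparison of indices of two lattices `P ≤ P'` -/
theorem idx_compare (b bP bP' : Basis (Fin n) 𝕃 N) {P P' : Submodule 𝕎 N}
    (hbP : Submodule.span 𝕎 (Set.range bP) = P) (hbP' : Submodule.span 𝕎 (Set.range bP') = P')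
    (hle : P ≤ P') {t t' : ℤ} (ht : IsOrdP (b.toMatrix bP).det t)
    (ht' : IsOrdP (b.toMatrix bP').det t') : t' ≤ t ∧ (t = t' → P = P') := by
  have h1 : b.toMatrix bP = b.toMatrix bP' * bP'.toMatrix bP :=
    (Basis.toMatrix_mul_toMatrix b bP' bP).symm
  have h2 : IntMat (bP'.toMatrix bP) :=
    intMat_toMatrix bP' hbP' bP (fun j => hle (hbP ▸ Submodule.subset_span (Set.mem_range_self j)))
  obtain ⟨e, he⟩ := exists_isOrdP (det_toMatrix_ne_zero bP' bP)
  have h3 : 0 ≤ e := ordP_nonneg_of_isInt he h2.det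
  have h4 : t = t' + e := by
    have := ordP_mul ht' he
    rw [← Matrix.det_mul, ← h1] at this
    exact ordP_unique ht this
  refine ⟨by omega, fun heq => ?_⟩
  have he0 : e = 0 := by omega
  exact eq_of_det_unit bP bP' hbP hbP' hle (he0 ▸ he)

theorem idx_bounds (b bP : Basis (Fin n) 𝕃 N) {M P : Submodule 𝕎 N}
    (hb : Submodule.span 𝕎 (Set.range b) = M) (hbP : Submodule.span 𝕎 (Set.range bP) = P)
    (hlow : pPow 1 M ≤ P) (hup : P ≤ M) {t : ℤ} (ht : IsOrdP (b.toMatrix bP).det t) :
    0 ≤ t ∧ t ≤ n := by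
  have h1 : IntMat (b.toMatrix bP) :=
    intMat_toMatrix b hb bP (fun j => hup (hbP ▸ Submodule.subset_span (Set.mem_range_self j)))
  refine ⟨ordP_nonneg_of_isInt ht h1.det, ?_⟩
  have hv : ∀ j, ((p : 𝕃) • b j) ∈ P := by
    intro j
    apply hlow
    have := smul_mem_pPow (r := 1) (M := M)
      (hb ▸ Submodule.subset_span (Set.mem_range_self j) : b j ∈ M)
    rwa [zpow_one] at this
  have h2 : IntMat (bP.toMatrix (fun j => (p : 𝕃) • b j)) := intMat_toMatrix bP hbP _ hv
  have h3 : b.toMatrix bP * bP.toMatrix (fun j => (p : 𝕃) • b j) =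
      b.toMatrix (fun j => (p : 𝕃) • b j) := Basis.toMatrix_mul_toMatrix b bP _
  have h4 : b.toMatrix (fun j => (p : 𝕃) • b j) = (p : 𝕃) • (1 : Matrix (Fin n) (Fin n) 𝕃) := by
    refine Matrix.ext fun i j => ?_
    rw [Basis.toMatrix_apply, map_smul, Finsupp.smul_apply, Basis.repr_self, Matrix.smul_apply,
      Matrix.one_apply, Finsupp.single_apply]
    simp [eq_comm]
  have h5 : (b.toMatrix bP).det * (bP.toMatrix (fun j => (p : 𝕃) • b j)).det = (p : 𝕃) ^ n := by
    rw [← Matrix.det_mul, h3, h4, Matrix.det_smul, Matrix.det_one, mul_one, Fintype.card_fin]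
  have hne : (bP.toMatrix (fun j => (p : 𝕃) • b j)).det ≠ 0 := by
    intro h0
    rw [h0, mul_zero] at h5
    exact pow_ne_zero n pL_ne_zero h5.symm
  obtain ⟨e, he⟩ := exists_isOrdP hne
  have h6 : 0 ≤ e := ordP_nonneg_of_isInt he h2.det
  have h7 := ordP_mul ht he
  rw [h5] at h7
  have h8 : IsOrdP ((p : 𝕃) ^ n) (n : ℤ) := by
    have := isOrdP_zpow (p := p) (k := k) (n : ℤ)
    rwa [zpow_natCast] at this
  have := ordP_unique h7 h8
  omega

/-- an increasing chain of `n + 2` submodules between `pM` and `M` has a repetition -/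
theorem chain_stabilizes {M : Submodule 𝕎 N} (hM : M.IsLattice 𝕃) (b : Basis (Fin n) 𝕃 N)
    (P : ℕ → Submodule 𝕎 N) (hlow : ∀ j, pPow 1 M ≤ P j) (hup : ∀ j, P j ≤ M)
    (hmono : ∀ j, P j ≤ P (j + 1)) : ∃ j, j ≤ n ∧ P j = P (j + 1) := by
  obtain ⟨bM, hbM⟩ := exists_latBasis_fin hM b
  have hlat : ∀ j, (P j).IsLattice 𝕃 := fun j => isLattice_of_between hM (hlow j) (hup j)
  choose bP hbP using fun j => exists_latBasis_fin (hlat j) b
  choose t ht using fun j => exists_isOrdP (det_toMatrix_ne_zero bM (bP j))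
  by_contra hcon
  push Not at hcon
  have hstrict : ∀ j, j ≤ n → t (j + 1) + 1 ≤ t j := by
    intro j hj
    have := idx_compare bM (bP j) (bP (j + 1)) (hbP j) (hbP (j + 1)) (hmono j) (ht j) (ht (j + 1))
    by_contra hlt
    push Not at hlt
    have heq : t j = t (j + 1) := by omega
    exact hcon j hj (this.2 heq)
  have hdec : ∀ j, j ≤ n + 1 → t j ≤ n - j := by
    intro j
    induction j with
    | zero =>
      intro _
      have := (idx_bounds bM (bP 0) hbM (hbP 0) (hlow 0) (hup 0) (ht 0)).2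
      simpa using this
    | succ j ih =>
      intro hj
      have h1 := ih (by omega)
      have h2 := hstrict j (by omega)
      push_cast
      omega
  have h1 := hdec (n + 1) le_rfl
  have h2 := (idx_bounds bM (bP (n + 1)) hbM (hbP (n + 1)) (hlow _) (hup _) (ht _)).1
  push_cast at h1
  omega

/-- a decreasing chain of `n + 2` submodules between `pM` and `M` has a repetition -/
theorem chain_stabilizes_anti {M : Submodule 𝕎 N} (hM : M.IsLattice 𝕃) (b : Basis (Fin n) 𝕃 N)
    (P : ℕ → Submodule 𝕎 N) (hlow : ∀ j, pPow 1 M ≤ P j) (hup : ∀ j, P j ≤ M)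
    (hanti : ∀ j, P (j + 1) ≤ P j) : ∃ j, j ≤ n ∧ P j = P (j + 1) := by
  obtain ⟨bM, hbM⟩ := exists_latBasis_fin hM b
  have hlat : ∀ j, (P j).IsLattice 𝕃 := fun j => isLattice_of_between hM (hlow j) (hup j)
  choose bP hbP using fun j => exists_latBasis_fin (hlat j) b
  choose t ht using fun j => exists_isOrdP (det_toMatrix_ne_zero bM (bP j))
  by_contra hcon
  push Not at hcon
  have hstrict : ∀ j, j ≤ n → t j + 1 ≤ t (j + 1) := by
    intro j hj
    have := idx_compare bM (bP (j + 1)) (bP j) (hbP (j + 1)) (hbP j) (hanti j) (ht (j + 1)) (ht j)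
    by_contra hlt
    push Not at hlt
    have heq : t (j + 1) = t j := by omega
    exact hcon j hj (this.2 heq).symm
  have hinc : ∀ j, j ≤ n + 1 → (j : ℤ) ≤ t j := by
    intro j
    induction j with
    | zero =>
      intro _
      have := (idx_bounds bM (bP 0) hbM (hbP 0) (hlow 0) (hup 0) (ht 0)).1
      simpa using this
    | succ j ih =>
      intro hj
      have h1 := ih (by omega)
      have h2 := hstrict j (by omega)
      push_cast
      omega
  have h1 := hinc (n + 1) le_rfl
  have h2 := (idx_bounds bM (bP (n + 1)) hbM (hbP (n + 1)) (hlow _) (hup _) (ht _)).2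
  push_cast at h1
  omega

end chain

end Helper5.IsocLib
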