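import Mathlib
import Groth.Prelude.Def_Isoc
import Groth.Agent.Lib.Helper5.Isoc.Chain

set_option autoImplicit false
set_option linter.unusedSectionVars false

namespace Helper5.IsocLib
open Isoc Module Filter Topology
open scoped Pointwise

section complete
variable {p : ℕ} [hp : Fact p.Prime] {k : Type*} [Field k] [CharP k p] [PerfectRing k p]

local notation "𝕎" => WittVector p k
local notation "𝕃" => FractionRing (WittVector p k)

variable {N : Type*} [AddCommGroup N] [Module (WittVector p k) N]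
  [Module (FractionRing (WittVector p k)) N]
  [IsScalarTower (WittVector p k) (FractionRing (WittVector p k)) N]

/-- `p`-adic completeness of `𝕎` in elementary form -/
theorem W_complete (f : ℕ → 𝕎) (h : ∀ j, (p : 𝕎) ^ j ∣ f (j + 1) - f j) :
    ∃ ℓ : 𝕎, ∀ j, (p : 𝕎) ^ j ∣ ℓ - f j := by
  have hmn : ∀ m n, m ≤ n → (p : 𝕎) ^ m ∣ f n - f m := by
    intro m n hmn
    induction n, hmn using Nat.le_induction with
    | base => simp
    | succ n hn ih =>
      have h1 : (p : 𝕎) ^ m ∣ f (n + 1) - f n := (pow_dvd_pow _ hn).trans (h n)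
      have : f (n + 1) - f m = (f (n + 1) - f n) + (f n - f m) := by ring
      rw [this]
      exact dvd_add h1 ih
  have hcomp : IsPrecomplete (Ideal.span {(p : 𝕎)}) 𝕎 := inferInstance
  have key : ∀ (n : ℕ) (x y : 𝕎),
      x ≡ y [SMOD ((Ideal.span {(p : 𝕎)}) ^ n • ⊤ : Submodule 𝕎 𝕎)] ↔ (p : 𝕎) ^ n ∣ y - x := by
    intro n x y
    rw [SModEq.sub_mem, smul_eq_mul, Ideal.mul_top, Ideal.span_singleton_pow,
      Ideal.mem_span_singleton, ← dvd_neg, neg_sub]
  obtain ⟨ℓ, hℓ⟩ := hcomp.prec (f := f) (fun {m n} hmn' => (key m _ _).mpr (hmn m n hmn'))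
  exact ⟨ℓ, fun j => (key j _ _).mp (hℓ j)⟩

/-- `p`-adic completeness of lattices -/
theorem lattice_complete {M : Submodule 𝕎 N} (hM : M.IsLattice 𝕃) (y : ℕ → N)
    (hy : ∀ j, y j ∈ M) (hc : ∀ j : ℕ, y (j + 1) - y j ∈ pPow (j : ℤ) M) :
    ∃ z ∈ M, ∀ j : ℕ, z - y j ∈ pPow (j : ℤ) M := by
  obtain ⟨n, b, hb⟩ := exists_latBasis hM
  have hint : ∀ j i, IsInt (b.repr (y j) i) := fun j i => (mem_iff_repr b hb (y j)).mp (hy j) i
  choose c hcoef using hint
  -- differences divisible by `p^j`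
  have hdiv : ∀ i j, (p : 𝕎) ^ j ∣ c (j + 1) i - c j i := by
    intro i j
    have h1 := (mem_pPow_iff_repr b hb (j : ℤ) (y (j + 1) - y j)).mp (hc j) i
    obtain ⟨w, hw⟩ := h1
    refine ⟨w, ?_⟩
    apply algebraMap_inj
    rw [map_sub, hcoef, hcoef, map_mul, map_pow, algebraMap_p, hw, map_sub, Finsupp.sub_apply,
      zpow_neg, zpow_natCast, ← mul_assoc, mul_inv_cancel₀ (pow_ne_zero j pL_ne_zero), one_mul]
  choose ℓ hℓ using fun i => W_complete (fun j => c j i) (hdiv i)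
  refine ⟨∑ i, algebraMap 𝕎 𝕃 (ℓ i) • b i, ?_, ?_⟩
  · rw [mem_iff_repr b hb]
    intro i
    rw [Basis.repr_sum_self]
    exact ⟨ℓ i, rfl⟩
  · intro j
    rw [mem_pPow_iff_repr b hb]
    intro i
    rw [map_sub, Finsupp.sub_apply, Basis.repr_sum_self, ← hcoef]
    obtain ⟨w, hw⟩ := hℓ i j
    refine ⟨w, ?_⟩
    rw [← map_sub, hw, map_mul, map_pow, algebraMap_p, zpow_neg, zpow_natCast, ← mul_assoc,
      inv_mul_cancel₀ (pow_ne_zero j pL_ne_zero), one_mul]

end complete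

section chain2
variable {p : ℕ} [hp : Fact p.Prime] {k : Type*} [Field k] [CharP k p] [PerfectRing k p]

local notation "𝕎" => WittVector p k
local notation "𝕃" => FractionRing (WittVector p k)

variable {N : Type*} [AddCommGroup N] [Module (WittVector p k) N]
  [Module (FractionRing (WittVector p k)) N]
  [IsScalarTower (WittVector p k) (FractionRing (WittVector p k)) N]
variable {n : ℕ}

/-- an increasing chain of lattices below a lattice is eventually constant -/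
theorem chain_eventually_const_mono {M : Submodule 𝕎 N} (hM : M.IsLattice 𝕃)
    (b : Basis (Fin n) 𝕃 N) (P : ℕ → Submodule 𝕎 N) (hlat : ∀ i, (P i).IsLattice 𝕃)
    (hup : ∀ i, P i ≤ M) (hmono : ∀ i, P i ≤ P (i + 1)) :
    ∃ n₀, ∀ i, n₀ ≤ i → P i = P n₀ := by
  obtain ⟨bM, hbM⟩ := exists_latBasis_fin hM b
  choose bP hbP using fun j => exists_latBasis_fin (hlat j) b
  choose t ht using fun j => exists_isOrdP (det_toMatrix_ne_zero bM (bP j))
  have hmono' : ∀ i j, i ≤ j → P i ≤ P j := by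
    intro i j h
    induction j, h using Nat.le_induction with
    | base => exact le_rfl
    | succ j _ ih => exact ih.trans (hmono j)
  have hnonneg : ∀ j, 0 ≤ t j := by
    intro j
    have h1 : IntMat (bM.toMatrix (bP j)) := intMat_toMatrix bM hbM (bP j)
      (fun i => hup j ((hbP j) ▸ Submodule.subset_span (Set.mem_range_self i)))
    exact ordP_nonneg_of_isInt (ht j) h1.det
  obtain ⟨t₀, ⟨n₀, hn₀⟩, hmin⟩ := Int.exists_least_of_bdd (P := fun z => ∃ j, t j = z)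
    ⟨0, fun z ⟨j, hj⟩ => hj ▸ hnonneg j⟩ ⟨t 0, 0, rfl⟩
  refine ⟨n₀, fun i hi => ?_⟩
  have h1 := idx_compare bM (bP n₀) (bP i) (hbP n₀) (hbP i) (hmono' n₀ i hi) (ht n₀) (ht i)
  have h2 : t₀ ≤ t i := hmin (t i) ⟨i, rfl⟩
  exact (h1.2 (by omega)).symm

/-- a decreasing chain of lattices above a lattice is eventually constant -/
theorem chain_eventually_const_anti {M M₀ : Submodule 𝕎 N} (hM : M.IsLattice 𝕃)
    (hM₀ : M₀.IsLattice 𝕃) (b : Basis (Fin n) 𝕃 N) (P : ℕ → Submodule 𝕎 N)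
    (hlat : ∀ i, (P i).IsLattice 𝕃) (hlow : ∀ i, M₀ ≤ P i)
    (hanti : ∀ i, P (i + 1) ≤ P i) : ∃ n₀, ∀ i, n₀ ≤ i → P i = P n₀ := by
  obtain ⟨bM, hbM⟩ := exists_latBasis_fin hM b
  obtain ⟨b₀, hb₀⟩ := exists_latBasis_fin hM₀ b
  obtain ⟨t₀', ht₀'⟩ := exists_isOrdP (det_toMatrix_ne_zero bM b₀)
  choose bP hbP using fun j => exists_latBasis_fin (hlat j) b
  choose t ht using fun j => exists_isOrdP (det_toMatrix_ne_zero bM (bP j))
  have hanti' : ∀ i j, i ≤ j → P j ≤ P i := by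
    intro i j h
    induction j, h using Nat.le_induction with
    | base => exact le_rfl
    | succ j _ ih => exact (hanti j).trans ih
  have hbdd : ∀ j, t j ≤ t₀' := by
    intro j
    exact (idx_compare bM b₀ (bP j) hb₀ (hbP j) (hlow j) ht₀' (ht j)).1
  obtain ⟨t₀, ⟨n₀, hn₀⟩, hmax⟩ := Int.exists_greatest_of_bdd (P := fun z => ∃ j, t j = z)
    ⟨t₀', fun z ⟨j, hj⟩ => hj ▸ hbdd j⟩ ⟨t 0, 0, rfl⟩
  refine ⟨n₀, fun i hi => ?_⟩
  have h1 := idx_compare bM (bP i) (bP n₀) (hbP i) (hbP n₀) (hanti' n₀ i hi) (ht i) (ht n₀)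
  have h2 : t i ≤ t₀ := hmax (t i) ⟨i, rfl⟩
  exact h1.2 (by omega)

end chain2

end Helper5.IsocLib
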