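import Mathlib
import Groth.Prelude.Def_Isoc
import Groth.Agent.Lib.Helper5.Isoc.Chain

set_option autoImplicit false
set_option linter.unusedSectionVars false

namespace Helper5.IsocLib
open Isoc Module Filter Topology
open scoped Pointwise

section eff
variable {p : ℕ} [hp : Fact p.Prime] {k : Type*} [Field k] [CharP k p] [PerfectRing k p]

local notation "𝕎" => WittVector p k
local notation "𝕃" => FractionRing (WittVector p k)

variable {N : Type*} [AddCommGroup N] [Module (WittVector p k) N]
  [Module (FractionRing (WittVector p k)) N]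
  [IsScalarTower (WittVector p k) (FractionRing (WittVector p k)) N]
variable {τ τ' τ'' : FractionRing (WittVector p k) →+* FractionRing (WittVector p k)}
variable {n : ℕ}

theorem pPow_one_eq (A : Submodule 𝕎 N) : pPow 1 A = (Ideal.span {(p : 𝕎)} : Ideal 𝕎) • A := by
  rw [Submodule.ideal_span_singleton_smul]
  ext x
  rw [mem_pPow, Submodule.mem_smul_pointwise_iff_exists]
  have : ∀ y : N, ((p : 𝕃) ^ (1 : ℤ)) • y = (p : 𝕎) • y := by
    intro y
    rw [zpow_one, ← algebraMap_p, algebraMap_smul]
  simp_rw [this]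

theorem nakayama_le {A B : Submodule 𝕎 N} (hA : A.FG) (h : A ≤ B ⊔ pPow 1 A) : A ≤ B := by
  rw [pPow_one_eq] at h
  refine Submodule.le_of_le_smul_of_le_jacobson_bot hA ?_ h
  rw [IsLocalRing.jacobson_eq_maximalIdeal ⊥ bot_ne_top, Ideal.span_le]
  intro x hx
  rw [Set.mem_singleton_iff] at hx
  rw [hx]
  exact (IsLocalRing.mem_maximalIdeal _).mpr not_isUnit_p

theorem pPow_one_le (A : Submodule 𝕎 N) : pPow 1 A ≤ A := by
  have := pPow_anti (show (0 : ℤ) ≤ 1 by norm_num) A
  rwa [pPow_zero] at this

theorem latImg_isLattice (hτ : PresW τ) {F : N →ₛₗ[τ] N} (hF : IsIsoc F) {M : Submodule 𝕎 N}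
    (hM : M.IsLattice 𝕃) (s : ℕ) : (latImg F s M).IsLattice 𝕃 :=
  img_isLattice (hτ.pow s) (iter F s) (isIsoc_iter hF s).bijective.2 hM

theorem img_latImg (hτ : PresW τ) (F : N →ₛₗ[τ] N) (s : ℕ) (M : Submodule 𝕎 N) :
    img F (latImg F s M) = latImg F (s + 1) M := by
  rw [add_comm, latImg_add hτ, latImg_one]

/-- the partial sums `M + F M + ⋯ + F^j M` -/
noncomputable def partialSum (F : N →ₛₗ[τ] N) (M : Submodule 𝕎 N) : ℕ → Submodule 𝕎 N
  | 0 => M
  | (j + 1) => partialSum F M j ⊔ latImg F (j + 1) M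

theorem partialSum_zero (F : N →ₛₗ[τ] N) (M : Submodule 𝕎 N) : partialSum F M 0 = M := rfl

theorem partialSum_succ (F : N →ₛₗ[τ] N) (M : Submodule 𝕎 N) (j : ℕ) :
    partialSum F M (j + 1) = partialSum F M j ⊔ latImg F (j + 1) M := rfl

theorem partialSum_mono (F : N →ₛₗ[τ] N) (M : Submodule 𝕎 N) {i j : ℕ} (h : i ≤ j) :
    partialSum F M i ≤ partialSum F M j := by
  induction j with
  | zero => rw [Nat.le_zero.mp h]
  | succ j ih =>
    rcases Nat.of_le_succ h with h1 | h1
    · exact (ih h1).trans le_sup_left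
    · rw [h1]

theorem latImg_le_partialSum (F : N →ₛₗ[τ] N) (M : Submodule 𝕎 N) (j : ℕ) :
    latImg F j M ≤ partialSum F M j := by
  cases j with
  | zero => rw [latImg_zero]; exact le_rfl
  | succ j => exact le_sup_right

theorem partialSum_isLattice (hτ : PresW τ) {F : N →ₛₗ[τ] N} (hF : IsIsoc F) {M : Submodule 𝕎 N}
    (hM : M.IsLattice 𝕃) (j : ℕ) : (partialSum F M j).IsLattice 𝕃 := by
  induction j with
  | zero => exact hM
  | succ j ih =>
    have := latImg_isLattice hτ hF hM (j + 1)
    rw [partialSum_succ]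
    infer_instance

theorem img_partialSum_le (hτ : PresW τ) (F : N →ₛₗ[τ] N) (M : Submodule 𝕎 N) (j : ℕ) :
    img F (partialSum F M j) ≤ partialSum F M (j + 1) := by
  induction j with
  | zero =>
    rw [partialSum_succ, partialSum_zero, ← latImg_one]
    exact le_sup_right
  | succ j ih =>
    rw [partialSum_succ F M j, img_sup, img_latImg hτ, partialSum_succ F M (j + 1)]
    exact sup_le_sup ih le_rfl

theorem partialSum_succ_le (hτ : PresW τ) (F : N →ₛₗ[τ] N) (M : Submodule 𝕎 N) (j : ℕ) :
    partialSum F M (j + 1) ≤ M ⊔ img F (partialSum F M j) := by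
  induction j with
  | zero =>
    rw [partialSum_succ, partialSum_zero, ← latImg_one]
  | succ j ih =>
    rw [partialSum_succ F M (j + 1)]
    refine sup_le ?_ ?_
    · exact ih.trans (sup_le_sup le_rfl (img_mono F (partialSum_mono F M (Nat.le_succ j))))
    · rw [← img_latImg hτ]
      exact le_sup_of_le_right (img_mono F (latImg_le_partialSum F M (j + 1)))

/-- the effectiveness lemma: `F^(h+1) M ⊆ p⁻¹ M` forces an `F`-stable lattice -/
theorem effective_of_latImg_le (hτ : PresW τ) {F : N →ₛₗ[τ] N} (hF : IsIsoc F)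
    (b : Basis (Fin n) 𝕃 N) {M : Submodule 𝕎 N} (hM : M.IsLattice 𝕃)
    (h : latImg F (n + 1) M ≤ pPow (-1) M) : IsEffective F := by
  set T := partialSum F M (n + 1) with hT
  have hTlat : T.IsLattice 𝕃 := partialSum_isLattice hτ hF hM (n + 1)
  -- key estimate
  have hkey : pPow 1 (img F T) ≤ pPow 1 T ⊔ partialSum F M 1 := by
    have h1 : img F T ≤ T ⊔ latImg F (n + 2) M := by
      have := img_partialSum_le hτ F M (n + 1)
      rwa [partialSum_succ F M (n + 1)] at this
    have h2 : pPow 1 (latImg F (n + 2) M) ≤ partialSum F M 1 := by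
      have e : latImg F (n + 2) M = img F (latImg F (n + 1) M) := (img_latImg hτ F (n + 1) M).symm
      rw [e]
      calc pPow 1 (img F (latImg F (n + 1) M)) ≤ pPow 1 (img F (pPow (-1) M)) :=
            pPow_mono (img_mono F h)
        _ = img F M := by rw [img_pPow, ← pPow_add]; simp [pPow_zero]
        _ = latImg F 1 M := (latImg_one F M).symm
        _ ≤ partialSum F M 1 := latImg_le_partialSum F M 1
    calc pPow 1 (img F T) ≤ pPow 1 (T ⊔ latImg F (n + 2) M) := pPow_mono h1
      _ = pPow 1 T ⊔ pPow 1 (latImg F (n + 2) M) := pPow_sup _ _ _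
      _ ≤ pPow 1 T ⊔ partialSum F M 1 := sup_le_sup le_rfl h2
  -- the chain
  obtain ⟨j, hj, hPj⟩ := chain_stabilizes hTlat b
    (fun j => partialSum F M (min j (n + 1)) ⊔ pPow 1 T)
    (fun j => le_sup_right)
    (fun j => sup_le (partialSum_mono F M (min_le_right _ _)) (pPow_one_le T))
    (fun j => sup_le_sup (partialSum_mono F M (min_le_min (Nat.le_succ j) le_rfl)) le_rfl)
  simp only [min_eq_left (show j ≤ n + 1 by omega), min_eq_left (show j + 1 ≤ n + 1 by omega)] at hPj
  have hstep : partialSum F M (j + 1) ≤ partialSum F M j ⊔ pPow 1 T := by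
    rw [hPj]; exact le_sup_left
  have hind : ∀ i, j + 1 ≤ i → i ≤ n + 1 → partialSum F M i ≤ partialSum F M j ⊔ pPow 1 T := by
    intro i hi
    induction i, hi using Nat.le_induction with
    | base => intro _; exact hstep
    | succ i hi ih =>
      intro hi'
      have h1 := ih (by omega)
      calc partialSum F M (i + 1) ≤ M ⊔ img F (partialSum F M i) := partialSum_succ_le hτ F M i
        _ ≤ M ⊔ img F (partialSum F M j ⊔ pPow 1 T) := sup_le_sup le_rfl (img_mono F h1)
        _ = M ⊔ (img F (partialSum F M j) ⊔ pPow 1 (img F T)) := by rw [img_sup, img_pPow]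
        _ ≤ partialSum F M (j + 1) ⊔ pPow 1 T := by
          refine sup_le ?_ (sup_le ?_ ?_)
          · exact le_sup_of_le_left (partialSum_mono F M (Nat.zero_le _))
          · exact le_sup_of_le_left (img_partialSum_le hτ F M j)
          · refine hkey.trans (sup_le le_sup_right ?_)
            exact le_sup_of_le_left (partialSum_mono F M (by omega))
        _ ≤ partialSum F M j ⊔ pPow 1 T := sup_le hstep le_sup_right
  have hTle : T ≤ partialSum F M n ⊔ pPow 1 T :=
    (hind (n + 1) (by omega) le_rfl).trans (sup_le_sup (partialSum_mono F M hj) le_rfl)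
  have hfinal : T ≤ partialSum F M n := nakayama_le hTlat.fg hTle
  refine ⟨partialSum F M n, partialSum_isLattice hτ hF hM n, ?_⟩
  rw [latImg_one]
  exact (img_partialSum_le hτ F M n).trans hfinal

end eff

end Helper5.IsocLib
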