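import Mathlib
import Groth.Prelude.Def_Isoc
import Groth.Agent.Lib.Helper5.Isoc.Effective

set_option autoImplicit false
set_option linter.unusedSectionVars false

namespace Helper5.IsocLib
open Isoc Module Filter Topology
open scoped Pointwise

section eff2
variable {p : ℕ} [hp : Fact p.Prime] {k : Type*} [Field k] [CharP k p] [PerfectRing k p]

local notation "𝕎" => WittVector p k
local notation "𝕃" => FractionRing (WittVector p k)

variable {N : Type*} [AddCommGroup N] [Module (WittVector p k) N]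
  [Module (FractionRing (WittVector p k)) N]
  [IsScalarTower (WittVector p k) (FractionRing (WittVector p k)) N]
variable {τ τ' τ'' : FractionRing (WittVector p k) →+* FractionRing (WittVector p k)}
variable {n : ℕ}

/-- positive first slope gives a stable lattice directly -/
theorem effective_of_firstSlope_pos (hτ : PresW τ) {H : N →ₛₗ[τ] N} (hH : IsIsoc H) {β : ℝ}
    (hβ : IsFirstSlope H β) (h0 : 0 < β) : IsEffective H := by
  obtain ⟨M₀, hM₀, o, ho, hlim⟩ := hβ
  have hev : ∀ᶠ j : ℕ in atTop, 0 < (o j : ℝ) / j := hlim.eventually (lt_mem_nhds h0)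
  obtain ⟨j₁, hj₁⟩ := (hev.and (eventually_ge_atTop 1)).exists
  obtain ⟨hpos, hj1⟩ := hj₁
  have hjpos : (0 : ℝ) < j₁ := by exact_mod_cast hj1
  have ho0 : 0 ≤ o j₁ := by
    have : (0 : ℝ) < o j₁ := by
      by_contra hle
      push Not at hle
      have := div_nonpos_of_nonpos_of_nonneg hle hjpos.le
      linarith
    exact_mod_cast this.le
  obtain ⟨j₀, rfl⟩ : ∃ j₀, j₁ = j₀ + 1 := ⟨j₁ - 1, by omega⟩
  refine ⟨partialSum H M₀ j₀, partialSum_isLattice hτ hH hM₀ j₀, ?_⟩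
  rw [latImg_one]
  refine (img_partialSum_le hτ H M₀ j₀).trans ?_
  rw [partialSum_succ]
  refine sup_le le_rfl ?_
  calc latImg H (j₀ + 1) M₀ ≤ pPow (o (j₀ + 1)) M₀ := (ho _ hj1).1
    _ ≤ pPow 0 M₀ := pPow_anti ho0 M₀
    _ = M₀ := pPow_zero M₀
    _ ≤ partialSum H M₀ j₀ := partialSum_mono H M₀ (Nat.zero_le _)

theorem effective_of_firstSlope_nonneg (hτ : PresW τ) {G : N →ₛₗ[τ] N} (hG : IsIsoc G)
    (b : Basis (Fin n) 𝕃 N) {β : ℝ} (hβ : IsFirstSlope G β) (h0 : 0 ≤ β) : IsEffective G := by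
  have h1 := isFirstSlope_twist hτ hβ 1 (n + 1)
  have h2 : (0 : ℝ) < ((n + 1 : ℕ) : ℝ) * β + ((1 : ℤ) : ℝ) := by
    push_cast
    have : (0 : ℝ) ≤ ((n : ℝ) + 1) * β := by positivity
    linarith
  obtain ⟨M', hM', hst⟩ := effective_of_firstSlope_pos (hτ.pow (n + 1)) (isIsoc_twist hG 1 (n + 1))
    h1 h2
  rw [latImg_one, img_zpow_smul, ← latImg_eq_img] at hst
  have h3 : latImg G (n + 1) M' ≤ pPow (-1) M' := by
    have := pPow_neg_le_iff (r := -1) (M := latImg G (n + 1) M') (M' := M')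
    rw [neg_neg] at this
    exact this.mp hst
  exact effective_of_latImg_le hτ hG b hM' h3

/-- if `r / s ≤ λ₁` there is a lattice with `F^s M ⊆ p^r M` -/
theorem exists_lattice_of_le_firstSlope (hτ : PresW τ) {F : N →ₛₗ[τ] N} (hF : IsIsoc F) {lam : ℝ}
    (hlam : IsFirstSlope F lam) {r : ℤ} {s : ℕ} (hs : 0 < s) (hrs : (r : ℝ) / s ≤ lam) :
    ∃ M : Submodule 𝕎 N, M.IsLattice 𝕃 ∧ latImg F s M ≤ pPow r M := by
  have hfin := hF.finite
  have h1 := isFirstSlope_twist hτ hlam (-r) s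
  have hs0 : (0 : ℝ) < s := by exact_mod_cast hs
  have h2 : (0 : ℝ) ≤ (s : ℝ) * lam + ((-r : ℤ) : ℝ) := by
    rw [div_le_iff₀ hs0] at hrs
    push_cast
    linarith
  obtain ⟨M, hM, hst⟩ := effective_of_firstSlope_nonneg (hτ.pow s) (isIsoc_twist hF (-r) s)
    (Module.finBasis 𝕃 N) h1 h2
  refine ⟨M, hM, ?_⟩
  rw [latImg_one, img_zpow_smul, ← latImg_eq_img] at hst
  exact pPow_neg_le_iff.mp hst

end eff2

end Helper5.IsocLib
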