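import Mathlib
import Groth.Prelude.Def_Isoc
import Groth.Agent.Lib.Helper5.Isoc.Effective2

set_option autoImplicit false
set_option linter.unusedSectionVars false

namespace Helper5.IsocLib
open Isoc Module Filter Topology
open scoped Pointwise

section eff3
variable {p : ℕ} [hp : Fact p.Prime] {k : Type*} [Field k] [CharP k p] [PerfectRing k p]

local notation "𝕎" => WittVector p k
local notation "𝕃" => FractionRing (WittVector p k)

variable {N : Type*} [AddCommGroup N] [Module (WittVector p k) N]
  [Module (FractionRing (WittVector p k)) N]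
  [IsScalarTower (WittVector p k) (FractionRing (WittVector p k)) N]
variable {τ τ' τ'' : FractionRing (WittVector p k) →+* FractionRing (WittVector p k)}
variable {n : ℕ}

theorem latImg_eq_of_le_of_det (hτ : PresW τ) (F : N →ₛₗ[τ] N) (b : Basis (Fin n) 𝕃 N) {d : ℤ}
    (hd : IsOrdP (detCoeff b F) d) {M : Submodule 𝕎 N} (hM : M.IsLattice 𝕃) {s : ℕ} {r : ℤ}
    (h : latImg F s M ≤ pPow r M) (hdet : r * n = s * d) : latImg F s M = pPow r M := by
  obtain ⟨b', hb'⟩ := exists_latBasis_fin hM b
  have h1 : IsOrdP (detCoeff b' (iter F s)) (s * d) :=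
    ordP_detCoeff_iter hτ b' F (ordP_detCoeff_indep hτ b b' F hd) s
  have h2 := ordP_detCoeff_smul b' (iter F s) h1 (-r)
  have h3 : (-r * n + s * d) = 0 := by linarith
  rw [h3] at h2
  have h4 : img (((p : 𝕃) ^ (-r)) • iter F s) M ≤ M := img_smul_le h
  have h5 := img_eq_of_det_unit (hτ.pow s) b' hb' _ h4 h2
  rw [img_zpow_smul, ← latImg_eq_img] at h5
  have := congrArg (pPow r) h5
  rwa [← pPow_add, add_neg_cancel, pPow_zero] at this

theorem finrank_pos_of_isFirstSlope {F : N →ₛₗ[τ] N} {lam : ℝ} (hlam : IsFirstSlope F lam)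
    (b : Basis (Fin n) 𝕃 N) : 0 < n := by
  obtain ⟨M, hM, o, ho, -⟩ := hlam
  have hM0 : M ≠ ⊥ := isOrd_ne_bot (ho 1 le_rfl)
  have hNT : Nontrivial N := nontrivial_of_lattice_ne_bot hM0
  by_contra h0
  have hn : n = 0 := by omega
  subst hn
  have : Subsingleton N := by
    have hfin : Module.finrank 𝕃 N = 0 := by rw [Module.finrank_eq_card_basis b]; simp
    have := Module.Finite.of_basis b
    exact Module.finrank_zero_iff.mp hfin
  exact not_subsingleton N this

end eff3

end Helper5.IsocLib
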