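import Mathlib
import Groth.Prelude.Def_Isoc
import Groth.Agent.Lib.Helper5.Isoc.Effective3

set_option autoImplicit false
set_option linter.unusedSectionVars false

namespace Helper5.IsocLib
open Isoc Module Filter Topology
open scoped Pointwise

section rational
variable {p : ℕ} [hp : Fact p.Prime] {k : Type*} [Field k] [CharP k p] [PerfectRing k p]

local notation "𝕎" => WittVector p k
local notation "𝕃" => FractionRing (WittVector p k)

variable {N : Type*} [AddCommGroup N] [Module (WittVector p k) N]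
  [Module (FractionRing (WittVector p k)) N]
  [IsScalarTower (WittVector p k) (FractionRing (WittVector p k)) N]
variable {τ τ' τ'' : FractionRing (WittVector p k) →+* FractionRing (WittVector p k)}
variable {n : ℕ}

theorem latImg_le_of_stable (hτ : PresW τ) (G : N →ₛₗ[τ] N) {M : Submodule 𝕎 N}
    (hst : latImg G 1 M ≤ M) (i : ℕ) : latImg G i M ≤ M := by
  induction i with
  | zero => rw [latImg_zero]
  | succ i ih =>
    rw [latImg_add hτ]
    exact (latImg_mono G i hst).trans ih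

theorem latImg_succ_le_of_stable (hτ : PresW τ) (G : N →ₛₗ[τ] N) {M : Submodule 𝕎 N}
    (hst : latImg G 1 M ≤ M) (i : ℕ) : latImg G (i + 1) M ≤ latImg G i M := by
  rw [latImg_add hτ]
  exact latImg_mono G i hst

/-- a semilinear endomorphism of a lattice which is nilpotent mod `p` has `G^n M ⊆ p M` -/
theorem nilpotent_bound (hτ : PresW τ) (G : N →ₛₗ[τ] N) (b : Basis (Fin n) 𝕃 N)
    {M : Submodule 𝕎 N} (hM : M.IsLattice 𝕃) (hst : latImg G 1 M ≤ M) {j : ℕ}
    (hj : latImg G j M ≤ pPow 1 M) : latImg G n M ≤ pPow 1 M := by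
  set V : ℕ → Submodule 𝕎 N := fun i => latImg G i M ⊔ pPow 1 M with hV
  have hanti1 : ∀ i, V (i + 1) ≤ V i := fun i =>
    sup_le_sup (latImg_succ_le_of_stable hτ G hst i) le_rfl
  have hanti : ∀ i i', i ≤ i' → V i' ≤ V i := by
    intro i i' h
    induction i', h using Nat.le_induction with
    | base => exact le_rfl
    | succ i' _ ih => exact (hanti1 i').trans ih
  obtain ⟨i₀, hi₀, hVi₀⟩ := chain_stabilizes_anti hM b V (fun i => le_sup_right)
    (fun i => sup_le (latImg_le_of_stable hτ G hst i) (pPow_one_le M)) hanti1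
  have hΦ : ∀ i, V (i + 1) = img G (V i) ⊔ pPow 1 M := by
    intro i
    simp only [hV]
    rw [img_sup, img_latImg hτ, img_pPow, sup_assoc]
    congr 1
    rw [← latImg_one]
    exact (sup_eq_right.mpr (pPow_mono hst)).symm
  have hstab : ∀ m, V (i₀ + m) = V i₀ := by
    intro m
    induction m with
    | zero => rfl
    | succ m ih => rw [← add_assoc, hΦ, ih, ← hΦ, ← hVi₀]
  have hVj : V j = pPow 1 M := by
    simp only [hV]
    exact sup_eq_right.mpr hj
  have h1 : V i₀ ≤ pPow 1 M := by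
    have e : V (i₀ + j) = V i₀ := hstab j
    rw [← e, ← hVj]
    exact hanti j (i₀ + j) (by omega)
  exact le_sup_left.trans ((hanti i₀ n hi₀).trans h1)

end rational

section rational2
variable {p : ℕ} [hp : Fact p.Prime] {k : Type*} [Field k] [CharP k p] [PerfectRing k p]

local notation "𝕎" => WittVector p k
local notation "𝕃" => FractionRing (WittVector p k)

variable {N : Type*} [AddCommGroup N] [Module (WittVector p k) N]
  [Module (FractionRing (WittVector p k)) N]
  [IsScalarTower (WittVector p k) (FractionRing (WittVector p k)) N]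
variable {τ τ' τ'' : FractionRing (WittVector p k) →+* FractionRing (WittVector p k)}
variable {n : ℕ}

/-- a stable lattice on which `G` is not nilpotent mod `p` computes first slope `0` -/
theorem firstSlope_eq_zero_of_not_nilpotent (hτ : PresW τ) {G : N →ₛₗ[τ] N}
    (hG : Function.Injective G) {β : ℝ} (hβ : IsFirstSlope G β) {M : Submodule 𝕎 N}
    (hM : M.IsLattice 𝕃) (hst : latImg G 1 M ≤ M) (hnil : ∀ j, ¬ latImg G j M ≤ pPow 1 M) :
    β = 0 := by
  obtain ⟨o, ho, hlim⟩ := isFirstSlope_lattice hτ hG hβ hM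
  have h0 : ∀ j, o j = 0 := by
    intro j
    refine isOrd_unique (ho j) ⟨?_, ?_⟩
    · rw [pPow_zero]; exact latImg_le_of_stable hτ G hst j
    · rw [zero_add]; exact hnil j
  have : Tendsto (fun n : ℕ => (o n : ℝ) / n) atTop (𝓝 0) := by
    refine tendsto_const_nhds.congr fun j => ?_
    rw [h0 j]; simp
  exact tendsto_nhds_unique hlim this

theorem firstSlope_rational (hτ : PresW τ) {F : N →ₛₗ[τ] N} (hF : IsIsoc F)
    (b : Basis (Fin n) 𝕃 N) {d : ℤ} (hd : IsOrdP (detCoeff b F) d) {lam : ℝ}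
    (hlam : IsFirstSlope F lam) :
    ∃ (r : ℤ) (s : ℕ) (M : Submodule 𝕎 N), 0 < s ∧ s ≤ n ∧ lam = (r : ℝ) / s ∧
      M.IsLattice 𝕃 ∧ IsOrd M F s r ∧ r * n ≤ s * d := by
  have hn : 0 < n := finrank_pos_of_isFirstSlope hlam b
  obtain ⟨s, hs0, hsn, habs⟩ := Real.exists_nat_abs_mul_sub_round_le lam hn
  set r : ℤ := round ((s : ℝ) * lam) with hr
  -- `G = p^{-r} F^s`
  have hτs : PresW (τ ^ s) := hτ.pow s
  have hG : IsIsoc (((p : 𝕃) ^ (-r)) • iter F s) := isIsoc_twist hF (-r) s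
  have hβ : IsFirstSlope (((p : 𝕃) ^ (-r)) • iter F s) ((s : ℝ) * lam + ((-r : ℤ) : ℝ)) :=
    isFirstSlope_twist hτ hlam (-r) s
  set β : ℝ := (s : ℝ) * lam + ((-r : ℤ) : ℝ) with hβdef
  have hβabs : |β| ≤ 1 / ((n : ℝ) + 1) := by
    have : β = (s : ℝ) * lam - r := by rw [hβdef]; push_cast; ring
    rw [this]; exact habs
  have hnpos : (0 : ℝ) < (n : ℝ) + 1 := by positivity
  -- `H = p G^{n+1}` has nonnegative first slope, hence is effective
  have hH := isFirstSlope_twist hτs hβ 1 (n + 1)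
  have hHnn : (0 : ℝ) ≤ ((n + 1 : ℕ) : ℝ) * β + ((1 : ℤ) : ℝ) := by
    have h1 : -(1 / ((n : ℝ) + 1)) ≤ β := (abs_le.mp hβabs).1
    have h2 : ((n : ℝ) + 1) * (-(1 / ((n : ℝ) + 1))) = -1 := by field_simp
    push_cast
    nlinarith
  obtain ⟨M₁, hM₁, hst₁⟩ := effective_of_firstSlope_nonneg (hτs.pow (n + 1))
    (isIsoc_twist hG 1 (n + 1)) b hH hHnn
  rw [latImg_one, img_zpow_smul, ← latImg_eq_img] at hst₁
  have hst₁' : latImg (((p : 𝕃) ^ (-r)) • iter F s) (n + 1) M₁ ≤ pPow (-1) M₁ := by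
    have := pPow_neg_le_iff (r := -1)
      (M := latImg (((p : 𝕃) ^ (-r)) • iter F s) (n + 1) M₁) (M' := M₁)
    rw [neg_neg] at this
    exact this.mp hst₁
  obtain ⟨M₂, hM₂, hst₂⟩ := effective_of_latImg_le hτs hG b hM₁ hst₁'
  -- `β ≥ 0`
  have hβ0 : 0 ≤ β := by
    have := firstSlope_ge hτs hG.bijective.1 hβ hM₂ (s := 1) (r := 0) one_pos
      (by rw [pPow_zero]; exact hst₂)
    simpa using this
  -- non-nilpotency
  have hnil : ∀ j, ¬ latImg (((p : 𝕃) ^ (-r)) • iter F s) j M₂ ≤ pPow 1 M₂ := by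
    intro j hj
    have h1 := nilpotent_bound hτs _ b hM₂ hst₂ hj
    have h2 := firstSlope_ge hτs hG.bijective.1 hβ hM₂ hn h1
    have h3 : β ≤ 1 / ((n : ℝ) + 1) := (abs_le.mp hβabs).2
    have hn0 : (0 : ℝ) < n := by exact_mod_cast hn
    have h4 : 1 / ((n : ℝ) + 1) < ((1 : ℤ) : ℝ) / n := by
      push_cast
      exact one_div_lt_one_div_of_lt hn0 (by linarith)
    linarith
  have hβz : β = 0 := firstSlope_eq_zero_of_not_nilpotent hτs hG.bijective.1 hβ hM₂ hst₂ hnil
  -- conclusion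
  have hM₂0 : M₂ ≠ ⊥ := by
    rintro rfl
    apply hnil 0
    rw [latImg_zero]; exact bot_le
  obtain ⟨r', hr'⟩ := exists_isOrd hτ hF.bijective.1 hM₂ hM₂0 (s * 1)
  have h5 := isOrd_twist hτ F (-r) s 1 hr'
  have h6 : IsOrd M₂ (((p : 𝕃) ^ (-r)) • iter F s) 1 0 := by
    refine ⟨?_, ?_⟩
    · rw [pPow_zero]; exact hst₂
    · rw [zero_add]; exact hnil 1
  have h7 := isOrd_unique h5 h6
  have hr'r : r' = r := by push_cast at h7; linarith
  rw [mul_one, hr'r] at hr'
  have hs0' : (s : ℝ) ≠ 0 := by exact_mod_cast hs0.ne'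
  refine ⟨r, s, M₂, hs0, hsn, ?_, hM₂, hr', ord_det_bound hτ F b hd hM₂ hr'.1⟩
  have : (s : ℝ) * lam = r := by
    have := hβz
    rw [hβdef] at this
    push_cast at this
    linarith
  rw [← this]
  field_simp

end rational2

end Helper5.IsocLib
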