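import Mathlib
import Groth.Prelude.Def_Isoc
import Groth.Agent.Lib.Helper5.Isoc.Rational

set_option autoImplicit false
set_option linter.unusedSectionVars false

namespace Helper5.IsocLib
open Isoc Module Filter Topology
open scoped Pointwise

section morph
variable {p : ℕ} [hp : Fact p.Prime] {k : Type*} [Field k] [CharP k p] [PerfectRing k p]

local notation "𝕎" => WittVector p k
local notation "𝕃" => FractionRing (WittVector p k)

variable {N : Type*} [AddCommGroup N] [Module (WittVector p k) N]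
  [Module (FractionRing (WittVector p k)) N]
  [IsScalarTower (WittVector p k) (FractionRing (WittVector p k)) N]
variable {N' : Type*} [AddCommGroup N'] [Module (WittVector p k) N']
  [Module (FractionRing (WittVector p k)) N']
  [IsScalarTower (WittVector p k) (FractionRing (WittVector p k)) N']
variable {τ τ' τ'' : FractionRing (WittVector p k) →+* FractionRing (WittVector p k)}

theorem presW_id : PresW (p := p) (k := k) (RingHom.id 𝕃) := presW_one

theorem img_comm (hτ : PresW τ) (hτ'' : PresW τ'') (φ : N →ₛₗ[τ''] N') (G₁ : N →ₛₗ[τ] N)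
    (G₂ : N' →ₛₗ[τ'] N') (h : ∀ x, φ (G₁ x) = G₂ (φ x)) (M : Submodule 𝕎 N) :
    img φ (img G₁ M) = img G₂ (img φ M) := by
  apply le_antisymm
  · rw [img_le_iff]
    intro z hz
    obtain ⟨x, hx, rfl⟩ := (mem_img hτ).mp hz
    rw [h]
    exact apply_mem_img (apply_mem_img hx)
  · rw [img_le_iff]
    intro z hz
    obtain ⟨x, hx, rfl⟩ := (mem_img hτ'').mp hz
    rw [← h]
    exact apply_mem_img (apply_mem_img hx)

theorem iterate_comm (φ : N →ₛₗ[τ''] N') (F₁ : N →ₛₗ[τ] N) (F₂ : N' →ₛₗ[τ'] N')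
    (h : ∀ x, φ (F₁ x) = F₂ (φ x)) (s : ℕ) (x : N) : φ ((⇑F₁)^[s] x) = (⇑F₂)^[s] (φ x) := by
  induction s generalizing x with
  | zero => rfl
  | succ s ih => rw [Function.iterate_succ_apply, ih, h, ← Function.iterate_succ_apply]

theorem latImg_comm (hτ : PresW τ) (hτ'' : PresW τ'') (φ : N →ₛₗ[τ''] N') (F₁ : N →ₛₗ[τ] N)
    (F₂ : N' →ₛₗ[τ'] N') (h : ∀ x, φ (F₁ x) = F₂ (φ x)) (s : ℕ) (M : Submodule 𝕎 N) :
    img φ (latImg F₁ s M) = latImg F₂ s (img φ M) := by
  rw [latImg_eq_img, latImg_eq_img]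
  exact img_comm (hτ.pow s) hτ'' φ (iter F₁ s) (iter F₂ s) (iterate_comm φ F₁ F₂ h s) M

/-- quotients of isoclinic isocrystals are isoclinic of the same slope -/
theorem isIsoclinic_of_surjective (hτ : PresW τ) {F₁ : N →ₛₗ[τ] N} {F₂ : N' →ₛₗ[τ'] N'}
    (φ : N →ₗ[𝕃] N') (hφ : Function.Surjective φ) (h : ∀ x, φ (F₁ x) = F₂ (φ x)) {μ : ℚ}
    (hμ : IsIsoclinic F₁ μ) : IsIsoclinic F₂ μ := by
  obtain ⟨M, hM, r, s, hs, hrs, hFM⟩ := hμ
  refine ⟨img φ M, img_isLattice presW_id φ hφ hM, r, s, hs, hrs, ?_⟩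
  rw [← latImg_comm hτ presW_id φ F₁ F₂ h, hFM, img_pPow]

end morph

end Helper5.IsocLib
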