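import Mathlib
import Groth.Prelude.Def_Isoc
import Groth.Agent.Lib.Helper5.Isoc.Morph

set_option autoImplicit false
set_option linter.unusedSectionVars false

namespace Helper5.IsocLib
open Isoc Module Filter Topology
open scoped Pointwise

section sub
variable {p : ℕ} [hp : Fact p.Prime] {k : Type*} [Field k] [CharP k p] [PerfectRing k p]

local notation "𝕎" => WittVector p k
local notation "𝕃" => FractionRing (WittVector p k)

variable {N : Type*} [AddCommGroup N] [Module (WittVector p k) N]
  [Module (FractionRing (WittVector p k)) N]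
  [IsScalarTower (WittVector p k) (FractionRing (WittVector p k)) N]
variable {N' : Type*} [AddCommGroup N'] [Module (WittVector p k) N']
  [Module (FractionRing (WittVector p k)) N']
  [IsScalarTower (WittVector p k) (FractionRing (WittVector p k)) N']
variable {τ τ' τ'' : FractionRing (WittVector p k) →+* FractionRing (WittVector p k)}
variable {n : ℕ}

/-- an injective semilinear endomorphism of a finite-dimensional space is surjective -/
theorem surjective_of_injective (hτ : PresW τ) (b : Basis (Fin n) 𝕃 N) (F : N →ₛₗ[τ] N)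
    (hF : Function.Injective F) : Function.Surjective F := by
  intro y
  have hdet : IsUnit (smat₂ b b F).det := by
    have := detCoeff_ne_zero hτ b F hF
    rw [detCoeff_eq] at this
    exact this.isUnit
  have hsurj := hτ.bijective.2
  choose u hu using fun j => hsurj (((smat₂ b b F)⁻¹.mulVec (fun i => b.repr y i)) j)
  refine ⟨∑ j, u j • b j, ?_⟩
  apply b.repr.injective
  ext i
  rw [repr_apply b b F]
  have : ∀ j, τ (b.repr (∑ j, u j • b j) j) =
      ((smat₂ b b F)⁻¹.mulVec (fun i => b.repr y i)) j := by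
    intro j
    rw [Basis.repr_sum_self, hu]
  simp_rw [this]
  have h1 : (smat₂ b b F).mulVec ((smat₂ b b F)⁻¹.mulVec (fun i => b.repr y i)) =
      fun i => b.repr y i := by
    rw [Matrix.mulVec_mulVec, Matrix.mul_nonsing_inv _ hdet, Matrix.one_mulVec]
  exact congrFun h1 i

theorem isIsoc_restrict (hτ : PresW τ) {F : N →ₛₗ[τ] N} (hF : IsIsoc F)
    (P : Submodule 𝕃 N) (hP : ∀ x ∈ P, F x ∈ P) : IsIsoc (F.restrict hP) := by
  have hfin := hF.finite
  have hfinP : Module.Finite 𝕃 P := inferInstance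
  have hinj : Function.Injective (F.restrict hP) := by
    intro x y hxy
    apply Subtype.ext
    apply hF.bijective.1
    have := congrArg Subtype.val hxy
    simpa using this
  exact ⟨hfinP, hinj, surjective_of_injective hτ (Module.finBasis 𝕃 P) _ hinj⟩

theorem img_eq_map (φ : N →ₗ[𝕃] N') (M : Submodule 𝕎 N) :
    img φ M = M.map (φ.restrictScalars 𝕎) := by
  rw [img]
  exact Submodule.span_eq (M.map (φ.restrictScalars 𝕎))

theorem img_injective (hτ : PresW τ) (φ : N →ₛₗ[τ] N') (hφ : Function.Injective φ)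
    {A B : Submodule 𝕎 N} (h : img φ A = img φ B) : A = B := by
  have key : ∀ A B : Submodule 𝕎 N, img φ A = img φ B → A ≤ B := by
    intro A B h x hx
    have h1 : φ x ∈ img φ B := h ▸ apply_mem_img hx
    obtain ⟨x', hx', he⟩ := (mem_img hτ).mp h1
    exact hφ he ▸ hx'
  exact le_antisymm (key A B h) (key B A h.symm)

theorem img_inf (hτ : PresW τ) (G : N →ₛₗ[τ] N') (hG : Function.Injective G)
    (A B : Submodule 𝕎 N) : img G (A ⊓ B) = img G A ⊓ img G B := by
  apply le_antisymm
  · exact le_inf (img_mono G inf_le_left) (img_mono G inf_le_right)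
  · intro y hy
    obtain ⟨x, hx, rfl⟩ := (mem_img hτ).mp hy.1
    obtain ⟨x', hx', he⟩ := (mem_img hτ).mp hy.2
    have : x' = x := hG he
    exact apply_mem_img ⟨hx, this ▸ hx'⟩

theorem pPow_inf (r : ℤ) (A B : Submodule 𝕎 N) : pPow r (A ⊓ B) = pPow r A ⊓ pPow r B := by
  ext x
  simp only [Submodule.mem_inf, mem_pPow']

theorem pPow_restrictScalars (r : ℤ) (P : Submodule 𝕃 N) :
    pPow r (P.restrictScalars 𝕎) = P.restrictScalars 𝕎 := by
  ext x
  rw [mem_pPow', Submodule.restrictScalars_mem, Submodule.restrictScalars_mem]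
  constructor
  · intro h
    have := P.smul_mem ((p : 𝕃) ^ r) h
    rwa [smul_smul, ← zpow_add₀ pL_ne_zero, add_neg_cancel, zpow_zero, one_smul] at this
  · exact P.smul_mem _

theorem iterate_restrict (F : N →ₛₗ[τ] N) (P : Submodule 𝕃 N) (hP : ∀ x ∈ P, F x ∈ P) (s : ℕ)
    (x : P) : (((⇑(F.restrict hP))^[s] x : P) : N) = (⇑F)^[s] (x : N) :=
  iterate_comm (τ'' := RingHom.id 𝕃) P.subtype (F.restrict hP) F (fun _ => rfl) s x

theorem latImg_restrictScalars (hτ : PresW τ) {F : N →ₛₗ[τ] N} (hF : IsIsoc F)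
    (P : Submodule 𝕃 N) (hP : ∀ x ∈ P, F x ∈ P) (s : ℕ) :
    latImg F s (P.restrictScalars 𝕎) = P.restrictScalars 𝕎 := by
  have hsurj : Function.Surjective (⇑(F.restrict hP))^[s] :=
    (isIsoc_restrict hτ hF P hP).bijective.2.iterate s
  apply le_antisymm
  · rw [latImg_eq_img, img_le_iff]
    intro x hx
    have := iterate_restrict F P hP s ⟨x, hx⟩
    rw [Submodule.restrictScalars_mem, iter_apply]
    simp only at this
    rw [← this]
    exact Subtype.mem _
  · intro y hy
    obtain ⟨x, hx⟩ := hsurj ⟨y, hy⟩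
    have h1 := iterate_restrict F P hP s x
    rw [hx] at h1
    simp only at h1
    rw [latImg_eq_img, h1]
    exact apply_mem_img (G := iter F s) (M := P.restrictScalars 𝕎) x.2

end sub

section sub2
variable {p : ℕ} [hp : Fact p.Prime] {k : Type*} [Field k] [CharP k p] [PerfectRing k p]

local notation "𝕎" => WittVector p k
local notation "𝕃" => FractionRing (WittVector p k)

variable {N : Type*} [AddCommGroup N] [Module (WittVector p k) N]
  [Module (FractionRing (WittVector p k)) N]
  [IsScalarTower (WittVector p k) (FractionRing (WittVector p k)) N]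
variable {τ τ' τ'' : FractionRing (WittVector p k) →+* FractionRing (WittVector p k)}
variable {n : ℕ}

/-- a "lattice in `P`" (as a submodule of `N`) on which `F^s = p^r` gives isoclinicity of the
restriction -/
theorem isIsoclinic_restrict_of (hτ : PresW τ) (F : N →ₛₗ[τ] N) (P : Submodule 𝕃 N)
    (hP : ∀ x ∈ P, F x ∈ P) {M' : Submodule 𝕎 N} (hfg : M'.FG)
    (hspan : Submodule.span 𝕃 (M' : Set N) = P) {μ : ℚ} {r : ℤ} {s : ℕ} (hs : 0 < s)
    (hrs : (r : ℚ) / s = μ) (h : latImg F s M' = pPow r M') :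
    IsIsoclinic (F.restrict hP) μ := by
  have hM'P : ∀ y ∈ M', y ∈ P := fun y hy => hspan ▸ Submodule.subset_span hy
  set MP : Submodule 𝕎 P := M'.comap (P.subtype.restrictScalars 𝕎) with hMP
  have himg : img P.subtype MP = M' := by
    apply le_antisymm
    · rw [img_le_iff]
      intro x hx
      exact hx
    · intro y hy
      have : (⟨y, hM'P y hy⟩ : P) ∈ MP := hy
      exact apply_mem_img (G := P.subtype) this
  have hlat : MP.IsLattice 𝕃 := by
    refine ⟨?_, ?_⟩
    · apply Submodule.fg_of_fg_map_injective (P.subtype.restrictScalars 𝕎)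
        (fun x y hxy => Subtype.ext hxy)
      rw [← img_eq_map, himg]
      exact hfg
    · rw [eq_top_iff]
      rintro x -
      have hx : (x : N) ∈ Submodule.span 𝕃 (M' : Set N) := hspan ▸ x.2
      obtain ⟨c, hc⟩ := exists_pow_smul_mem' hx
      have h1 : ((p : 𝕃) ^ c) • x ∈ MP := hc
      have h2 : x = ((p : 𝕃) ^ c)⁻¹ • (((p : 𝕃) ^ c) • x) := by
        rw [smul_smul, inv_mul_cancel₀ (pow_ne_zero c pL_ne_zero), one_smul]
      rw [h2]
      exact Submodule.smul_mem _ _ (Submodule.subset_span h1)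
  refine ⟨MP, hlat, r, s, hs, hrs, ?_⟩
  apply img_injective presW_id P.subtype (fun x y hxy => Subtype.ext hxy)
  rw [latImg_comm hτ presW_id P.subtype (F.restrict hP) F (fun _ => rfl), himg, h, img_pPow, himg]

theorem exists_of_isIsoclinic_restrict (hτ : PresW τ) (F : N →ₛₗ[τ] N) (P : Submodule 𝕃 N)
    (hP : ∀ x ∈ P, F x ∈ P) {μ : ℚ} (h : IsIsoclinic (F.restrict hP) μ) :
    ∃ M' : Submodule 𝕎 N, M'.FG ∧ Submodule.span 𝕃 (M' : Set N) = P ∧
      ∃ (r : ℤ) (s : ℕ), 0 < s ∧ (r : ℚ) / s = μ ∧ latImg F s M' = pPow r M' := by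
  obtain ⟨MP, hMP, r, s, hs, hrs, hFM⟩ := h
  refine ⟨img P.subtype MP, img_fg presW_id _ hMP.fg, ?_, r, s, hs, hrs, ?_⟩
  · have h1 : ((img P.subtype MP : Submodule 𝕎 N) : Set N) = P.subtype '' (MP : Set P) := by
      ext y
      simp only [SetLike.mem_coe, mem_img presW_id, Set.mem_image]
    rw [h1, ← Submodule.map_span, hMP.span_eq_top, Submodule.map_top, Submodule.range_subtype]
  · rw [← latImg_comm hτ presW_id P.subtype (F.restrict hP) F (fun _ => rfl), hFM, img_pPow]

/-- sub-isocrystals of isoclinic isocrystals are isoclinic of the same slope -/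
theorem isIsoclinic_restrict (hτ : PresW τ) {F : N →ₛₗ[τ] N} (hF : IsIsoc F) {μ : ℚ}
    (hμ : IsIsoclinic F μ) (P : Submodule 𝕃 N) (hP : ∀ x ∈ P, F x ∈ P) :
    IsIsoclinic (F.restrict hP) μ := by
  obtain ⟨M, hM, r, s, hs, hrs, hFM⟩ := hμ
  refine isIsoclinic_restrict_of hτ F P hP (M' := M ⊓ P.restrictScalars 𝕎)
    (fg_of_le_lattice hM inf_le_left) ?_ hs hrs ?_
  · apply le_antisymm
    · rw [Submodule.span_le]
      intro x hx
      exact hx.2
    · intro x hx
      obtain ⟨c, hc⟩ := exists_pow_smul_mem hM.span_eq_top x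
      have h1 : ((p : 𝕃) ^ c) • x ∈ M ⊓ P.restrictScalars 𝕎 := ⟨hc, P.smul_mem _ hx⟩
      have h2 : x = ((p : 𝕃) ^ c)⁻¹ • (((p : 𝕃) ^ c) • x) := by
        rw [smul_smul, inv_mul_cancel₀ (pow_ne_zero c pL_ne_zero), one_smul]
      rw [h2]
      exact Submodule.smul_mem _ _ (Submodule.subset_span h1)
  · have hinj : Function.Injective (iter F s) := (isIsoc_iter hF s).bijective.1
    rw [latImg_eq_img, img_inf (hτ.pow s) _ hinj, ← latImg_eq_img, ← latImg_eq_img, hFM,
      latImg_restrictScalars hτ hF P hP, pPow_inf, pPow_restrictScalars]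

end sub2

end Helper5.IsocLib
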