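import Mathlib
import Groth.Prelude.Def_Isoc
import Groth.Agent.Lib.Helper5.Isoc.Sub

set_option autoImplicit false
set_option linter.unusedSectionVars false

namespace Helper5.IsocLib
open Isoc Module Filter Topology
open scoped Pointwise

section hom
variable {p : ℕ} [hp : Fact p.Prime] {k : Type*} [Field k] [CharP k p] [PerfectRing k p]

local notation "𝕎" => WittVector p k
local notation "𝕃" => FractionRing (WittVector p k)

variable {N : Type*} [AddCommGroup N] [Module (WittVector p k) N]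
  [Module (FractionRing (WittVector p k)) N]
  [IsScalarTower (WittVector p k) (FractionRing (WittVector p k)) N]
variable {N' : Type*} [AddCommGroup N'] [Module (WittVector p k) N']
  [Module (FractionRing (WittVector p k)) N']
  [IsScalarTower (WittVector p k) (FractionRing (WittVector p k)) N']
variable {τ τ' τ'' : FractionRing (WittVector p k) →+* FractionRing (WittVector p k)}

/-- a finitely generated submodule scaled by `F^s` by a different power of `p` than a lattice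
must vanish -/
theorem eq_bot_of_scaling (hτ' : PresW τ') {F₂ : N' →ₛₗ[τ'] N'} (hF₂ : Function.Injective F₂)
    {M₂ M' : Submodule 𝕎 N'} (hM₂ : M₂.IsLattice 𝕃) (hM' : M'.FG) {s : ℕ} {a b : ℤ}
    (ha : latImg F₂ s M' = pPow a M') (hb : latImg F₂ s M₂ = pPow b M₂) (hab : a ≠ b) :
    M' = ⊥ := by
  obtain ⟨c, hc⟩ := exists_le_pPow hM' hM₂.span_eq_top
  by_contra hne
  obtain ⟨x, hxM', hx0⟩ := Submodule.exists_mem_ne_zero_of_ne_bot hne
  obtain ⟨r₀, hr₀⟩ := exists_not_mem_pPow hM₂ hx0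
  apply hr₀
  have hma : ∀ m : ℕ, latImg F₂ (m * s) M' = pPow (m * a) M' := latImg_mul_eq hτ' F₂ ha
  have hmb : ∀ m : ℕ, latImg F₂ (m * s) M₂ = pPow (m * b) M₂ := latImg_mul_eq hτ' F₂ hb
  rcases lt_or_gt_of_ne hab with hlt | hgt
  · -- `a < b`
    obtain ⟨m, hm⟩ : ∃ m : ℕ, r₀ + c ≤ m := ⟨(r₀ + c).toNat, Int.self_le_toNat _⟩
    have h1 : pPow (m * a) M' ≤ pPow (-(c : ℤ)) (pPow (m * b) M₂) := by
      rw [← hma, ← hmb, ← latImg_pPow]
      exact latImg_mono F₂ _ hc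
    have h2 : M' ≤ pPow (-(m * a) + -(c : ℤ) + m * b) M₂ := by
      have := pPow_mono (r := -((m : ℤ) * a)) h1
      rwa [← pPow_add, neg_add_cancel, pPow_zero, ← pPow_add, ← pPow_add] at this
    refine pPow_anti ?_ M₂ (h2 hxM')
    nlinarith
  · -- `b < a`
    obtain ⟨m, hm⟩ : ∃ m : ℕ, r₀ + c ≤ m := ⟨(r₀ + c).toNat, Int.self_le_toNat _⟩
    have hinj : Function.Injective (⇑(iter F₂ (m * s))) := hF₂.iterate (m * s)
    have h1 : iter F₂ (m * s) x ∈ pPow (m * a) M' := by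
      rw [← hma, latImg_eq_img]; exact apply_mem_img hxM'
    have h2 : pPow (m * a) M' ≤
        img (iter F₂ (m * s)) (pPow (m * a + -(c : ℤ) + -(m * b)) M₂) := by
      rw [← latImg_eq_img, latImg_pPow, hmb, ← pPow_add]
      calc pPow (m * a) M' ≤ pPow (m * a) (pPow (-(c : ℤ)) M₂) := pPow_mono hc
        _ = pPow (m * a + -(c : ℤ) + -(m * b) + m * b) M₂ := by
          rw [← pPow_add]; congr 1; ring
    obtain ⟨x', hx', he⟩ := (mem_img (hτ'.pow (m * s))).mp (h2 h1)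
    have hxx : x' = x := hinj he
    rw [hxx] at hx'
    refine pPow_anti ?_ M₂ hx'
    nlinarith

/-- there are no nonzero morphisms between isoclinic isocrystals of different slopes -/
theorem hom_eq_zero (hτ : PresW τ) (hτ' : PresW τ') {F₁ : N →ₛₗ[τ] N} {F₂ : N' →ₛₗ[τ'] N'}
    (hF₂ : Function.Injective F₂) {μ₁ μ₂ : ℚ} (hμ₁ : IsIsoclinic F₁ μ₁) (hμ₂ : IsIsoclinic F₂ μ₂)
    (hne : μ₁ ≠ μ₂) (f : N →ₗ[𝕃] N') (hf : ∀ x, f (F₁ x) = F₂ (f x)) : f = 0 := by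
  obtain ⟨M₁, hM₁, r₁, s₁, hs₁, hrs₁, h₁⟩ := hμ₁
  obtain ⟨M₂, hM₂, r₂, s₂, hs₂, hrs₂, h₂⟩ := hμ₂
  have h₁' : latImg F₁ (s₂ * s₁) M₁ = pPow (s₂ * r₁) M₁ := latImg_mul_eq hτ F₁ h₁ s₂
  have h₂' : latImg F₂ (s₁ * s₂) M₂ = pPow (s₁ * r₂) M₂ := latImg_mul_eq hτ' F₂ h₂ s₁
  rw [mul_comm s₁ s₂] at h₂'
  have hab : (s₂ : ℤ) * r₁ ≠ s₁ * r₂ := by
    intro h
    apply hne
    rw [← hrs₁, ← hrs₂]
    have hs₁' : (s₁ : ℚ) ≠ 0 := by exact_mod_cast hs₁.ne'
    have hs₂' : (s₂ : ℚ) ≠ 0 := by exact_mod_cast hs₂.ne'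
    rw [div_eq_div_iff hs₁' hs₂']
    have : ((s₂ : ℤ) * r₁ : ℚ) = ((s₁ : ℤ) * r₂ : ℚ) := by exact_mod_cast h
    push_cast at this
    linarith
  have hM' : latImg F₂ (s₂ * s₁) (img f M₁) = pPow (s₂ * r₁) (img f M₁) := by
    rw [← latImg_comm hτ presW_id f F₁ F₂ hf, h₁', img_pPow]
  have hbot := eq_bot_of_scaling hτ' hF₂ hM₂ (img_fg presW_id f hM₁.fg) hM' h₂' hab
  apply LinearMap.ext_on hM₁.span_eq_top
  intro x hx
  have : f x ∈ img f M₁ := apply_mem_img hx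
  rw [hbot, Submodule.mem_bot] at this
  rw [this, LinearMap.zero_apply]

end hom

end Helper5.IsocLib
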