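import Mathlib
import Groth.Prelude.Def_Isoc
import Groth.Agent.Lib.Helper5.Isoc.Hom

set_option autoImplicit false
set_option linter.unusedSectionVars false

namespace Helper5.IsocLib
open Isoc Module Filter Topology
open scoped Pointwise

section slopepart
variable {p : ℕ} [hp : Fact p.Prime] {k : Type*} [Field k] [CharP k p] [PerfectRing k p]

local notation "𝕎" => WittVector p k
local notation "𝕃" => FractionRing (WittVector p k)

variable {N : Type*} [AddCommGroup N] [Module (WittVector p k) N]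
  [Module (FractionRing (WittVector p k)) N]
  [IsScalarTower (WittVector p k) (FractionRing (WittVector p k)) N]
variable {τ τ' τ'' : FractionRing (WittVector p k) →+* FractionRing (WittVector p k)}

/-- `P` is `F`-stable and carries a "lattice" on which `F^s = p^r` with `r / s = μ` -/
def Good (F : N →ₛₗ[τ] N) (μ : ℚ) (P : Submodule 𝕃 N) : Prop :=
  (∀ x ∈ P, F x ∈ P) ∧ ∃ M' : Submodule 𝕎 N, M'.FG ∧ Submodule.span 𝕃 (M' : Set N) = P ∧
    ∃ (r : ℤ) (s : ℕ), 0 < s ∧ (r : ℚ) / s = μ ∧ latImg F s M' = pPow r M'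

theorem good_iff (hτ : PresW τ) (F : N →ₛₗ[τ] N) (μ : ℚ) (P : Submodule 𝕃 N) :
    Good F μ P ↔ ∃ hP : ∀ x ∈ P, F x ∈ P, IsIsoclinic (F.restrict hP) μ := by
  constructor
  · rintro ⟨hP, M', hfg, hspan, r, s, hs, hrs, h⟩
    exact ⟨hP, isIsoclinic_restrict_of hτ F P hP hfg hspan hs hrs h⟩
  · rintro ⟨hP, h⟩
    exact ⟨hP, exists_of_isIsoclinic_restrict hτ F P hP h⟩

theorem good_bot (F : N →ₛₗ[τ] N) (μ : ℚ) : Good F μ ⊥ := by
  refine ⟨fun x hx => ?_, ⊥, Submodule.fg_bot, by simp, μ.num, μ.den, μ.den_pos, ?_, ?_⟩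
  · rw [Submodule.mem_bot] at hx ⊢
    rw [hx, map_zero]
  · exact Rat.num_div_den μ
  · rw [latImg_eq_img, img_bot, pPow_bot]

theorem good_sup (hτ : PresW τ) (F : N →ₛₗ[τ] N) (μ : ℚ) {P₁ P₂ : Submodule 𝕃 N}
    (h₁ : Good F μ P₁) (h₂ : Good F μ P₂) : Good F μ (P₁ ⊔ P₂) := by
  obtain ⟨hP₁, M₁, hfg₁, hspan₁, r₁, s₁, hs₁, hrs₁, hF₁⟩ := h₁
  obtain ⟨hP₂, M₂, hfg₂, hspan₂, r₂, s₂, hs₂, hrs₂, hF₂⟩ := h₂
  refine ⟨?_, M₁ ⊔ M₂, hfg₁.sup hfg₂, ?_, s₂ * r₁, s₂ * s₁, Nat.mul_pos hs₂ hs₁, ?_, ?_⟩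
  · intro x hx
    obtain ⟨y, hy, z, hz, rfl⟩ := Submodule.mem_sup.mp hx
    rw [map_add]
    exact Submodule.add_mem _ (Submodule.mem_sup_left (hP₁ y hy))
      (Submodule.mem_sup_right (hP₂ z hz))
  · apply le_antisymm
    · rw [Submodule.span_le]
      intro x hx
      obtain ⟨y, hy, z, hz, rfl⟩ := Submodule.mem_sup.mp hx
      exact Submodule.add_mem _
        (Submodule.mem_sup_left (hspan₁ ▸ Submodule.subset_span hy))
        (Submodule.mem_sup_right (hspan₂ ▸ Submodule.subset_span hz))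
    · refine sup_le ?_ ?_
      · rw [← hspan₁]
        exact Submodule.span_mono (fun x hx => Submodule.mem_sup_left hx)
      · rw [← hspan₂]
        exact Submodule.span_mono (fun x hx => Submodule.mem_sup_right hx)
  · have hs₂' : (s₂ : ℚ) ≠ 0 := by exact_mod_cast hs₂.ne'
    have hs₁' : (s₁ : ℚ) ≠ 0 := by exact_mod_cast hs₁.ne'
    rw [← hrs₁]
    push_cast
    field_simp
  · have e : (s₂ : ℤ) * r₁ = s₁ * r₂ := by
      have hs₂' : (s₂ : ℚ) ≠ 0 := by exact_mod_cast hs₂.ne'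
      have hs₁' : (s₁ : ℚ) ≠ 0 := by exact_mod_cast hs₁.ne'
      have h := hrs₁.trans hrs₂.symm
      rw [div_eq_div_iff hs₁' hs₂'] at h
      have : ((s₂ : ℤ) * r₁ : ℚ) = ((s₁ : ℤ) * r₂ : ℚ) := by push_cast; linarith
      exact_mod_cast this
    have h1 : latImg F (s₂ * s₁) M₁ = pPow (s₂ * r₁) M₁ := latImg_mul_eq hτ F hF₁ s₂
    have h2 : latImg F (s₁ * s₂) M₂ = pPow (s₁ * r₂) M₂ := latImg_mul_eq hτ F hF₂ s₁
    rw [mul_comm s₁ s₂, ← e] at h2
    rw [latImg_eq_img, img_sup, ← latImg_eq_img, ← latImg_eq_img, h1, h2, pPow_sup]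

theorem good_finset_sup (hτ : PresW τ) (F : N →ₛₗ[τ] N) (μ : ℚ)
    (t : Finset (Submodule 𝕃 N)) (ht : ∀ P ∈ t, Good F μ P) : Good F μ (t.sup id) := by
  classical
  induction t using Finset.induction_on with
  | empty => simpa using good_bot F μ
  | insert P t _ ih =>
    rw [Finset.sup_insert]
    exact good_sup hτ F μ (ht P (Finset.mem_insert_self P t))
      (ih fun Q hQ => ht Q (Finset.mem_insert_of_mem hQ))

/-- the slope part is `F`-stable and isoclinic -/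
theorem slopePart_isoclinic (hτ : PresW τ) {F : N →ₛₗ[τ] N} (hF : IsIsoc F) (μ : ℚ) :
    ∃ hP : ∀ x ∈ slopePart F μ, F x ∈ slopePart F μ, IsIsoclinic (F.restrict hP) μ := by
  have hfin := hF.finite
  rw [← good_iff hτ]
  obtain ⟨t, ht, hsup⟩ := CompleteLattice.WellFoundedGT.isSupFiniteCompact (Submodule 𝕃 N)
    {P : Submodule 𝕃 N | ∃ hP : ∀ x ∈ P, F x ∈ P, IsIsoclinic (F.restrict hP) μ}
  rw [slopePart, hsup]
  exact good_finset_sup hτ F μ t (fun P hP => (good_iff hτ F μ P).mpr (ht hP))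

theorem good_le_slopePart (hτ : PresW τ) (F : N →ₛₗ[τ] N) (μ : ℚ) {P : Submodule 𝕃 N}
    (h : Good F μ P) : P ≤ slopePart F μ :=
  le_sSup ((good_iff hτ F μ P).mp h)

end slopepart

end Helper5.IsocLib
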