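import Mathlib
import Groth.Prelude.Def_Isoc
import Groth.Agent.Lib.Helper5.Isoc.SlopePart
import Groth.Agent.Lib.Helper5.Isoc.Complete

set_option autoImplicit false
set_option linter.unusedSectionVars false

namespace Helper5.IsocLib
open Isoc Module Filter Topology
open scoped Pointwise

section fitting
variable {p : ℕ} [hp : Fact p.Prime] {k : Type*} [Field k] [CharP k p] [PerfectRing k p]

local notation "𝕎" => WittVector p k
local notation "𝕃" => FractionRing (WittVector p k)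

variable {N : Type*} [AddCommGroup N] [Module (WittVector p k) N]
  [Module (FractionRing (WittVector p k)) N]
  [IsScalarTower (WittVector p k) (FractionRing (WittVector p k)) N]
variable {N' : Type*} [AddCommGroup N'] [Module (WittVector p k) N']
  [Module (FractionRing (WittVector p k)) N']
  [IsScalarTower (WittVector p k) (FractionRing (WittVector p k)) N']
variable {τ : FractionRing (WittVector p k) →+* FractionRing (WittVector p k)}
variable {n : ℕ}

/-- preimage of a `𝕎`-submodule under a semilinear map preserving `𝕎` -/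
noncomputable def pre (hτ : PresW τ) (G : N →ₛₗ[τ] N') (M' : Submodule 𝕎 N') : Submodule 𝕎 N where
  carrier := {x | G x ∈ M'}
  add_mem' := by
    intro x y hx hy
    simp only [Set.mem_ofPred_eq] at hx hy ⊢
    rw [map_add]; exact M'.add_mem hx hy
  zero_mem' := by
    simp only [Set.mem_ofPred_eq]
    rw [map_zero]; exact M'.zero_mem
  smul_mem' := by
    intro w x hx
    simp only [Set.mem_ofPred_eq] at hx ⊢
    obtain ⟨σ, hσ⟩ := map_wsmul hτ G
    rw [hσ]
    exact M'.smul_mem _ hx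

theorem mem_pre (hτ : PresW τ) (G : N →ₛₗ[τ] N') (M' : Submodule 𝕎 N') (x : N) :
    x ∈ pre hτ G M' ↔ G x ∈ M' := Iff.rfl

/-- the kernel chain `{x ∈ M | G^i x ∈ p^j M}` -/
noncomputable def kerCh (hτ : PresW τ) (G : N →ₛₗ[τ] N) (M : Submodule 𝕎 N) (j i : ℕ) : Submodule 𝕎 N :=
  M ⊓ pre (hτ.pow i) (iter G i) (pPow (j : ℤ) M)

theorem mem_kerCh (hτ : PresW τ) (G : N →ₛₗ[τ] N) (M : Submodule 𝕎 N) (j i : ℕ) (x : N) :
    x ∈ kerCh hτ G M j i ↔ x ∈ M ∧ (⇑G)^[i] x ∈ pPow (j : ℤ) M := Iff.rfl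

theorem pPow_natCast_le (j : ℕ) (M : Submodule 𝕎 N) : pPow (j : ℤ) M ≤ M := by
  have := pPow_anti (show (0 : ℤ) ≤ j by positivity) M
  rwa [pPow_zero] at this

theorem iterate_mem_of_stable (hτ : PresW τ) (G : N →ₛₗ[τ] N) {M : Submodule 𝕎 N}
    (hst : latImg G 1 M ≤ M) (i : ℕ) {x : N} (hx : x ∈ M) : (⇑G)^[i] x ∈ M := by
  have := latImg_le_of_stable hτ G hst i
  rw [latImg_eq_img, img_le_iff] at this
  exact this x hx

theorem iterate_mem_pPow_of_stable (hτ : PresW τ) (G : N →ₛₗ[τ] N) {M : Submodule 𝕎 N}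
    (hst : latImg G 1 M ≤ M) (i : ℕ) (r : ℤ) {x : N} (hx : x ∈ pPow r M) :
    (⇑G)^[i] x ∈ pPow r M := by
  have h1 : latImg G i (pPow r M) ≤ pPow r M := by
    rw [latImg_pPow]; exact pPow_mono (latImg_le_of_stable hτ G hst i)
  rw [latImg_eq_img, img_le_iff] at h1
  exact h1 x hx

theorem kerCh_mono (hτ : PresW τ) (G : N →ₛₗ[τ] N) {M : Submodule 𝕎 N}
    (hst : latImg G 1 M ≤ M) (j i : ℕ) : kerCh hτ G M j i ≤ kerCh hτ G M j (i + 1) := by
  intro x hx
  rw [mem_kerCh] at hx ⊢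
  refine ⟨hx.1, ?_⟩
  rw [Function.iterate_succ_apply']
  have := iterate_mem_pPow_of_stable hτ G hst 1 (j : ℤ) hx.2
  rwa [Function.iterate_one] at this

theorem kerCh_isLattice (hτ : PresW τ) (G : N →ₛₗ[τ] N) {M : Submodule 𝕎 N}
    (hM : M.IsLattice 𝕃) (hst : latImg G 1 M ≤ M) (j i : ℕ) :
    (kerCh hτ G M j i).IsLattice 𝕃 := by
  refine isLattice_of_between hM (r := (j : ℤ)) ?_ inf_le_left
  intro x hx
  rw [mem_kerCh]
  exact ⟨pPow_natCast_le j M hx, iterate_mem_pPow_of_stable hτ G hst i _ hx⟩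

/-- the image chain `G^i M + p^j M` -/
noncomputable def imCh (G : N →ₛₗ[τ] N) (M : Submodule 𝕎 N) (j i : ℕ) : Submodule 𝕎 N :=
  latImg G i M ⊔ pPow (j : ℤ) M

theorem imCh_anti (hτ : PresW τ) (G : N →ₛₗ[τ] N) {M : Submodule 𝕎 N}
    (hst : latImg G 1 M ≤ M) (j i : ℕ) : imCh G M j (i + 1) ≤ imCh G M j i :=
  sup_le_sup (latImg_succ_le_of_stable hτ G hst i) le_rfl

theorem imCh_isLattice (hτ : PresW τ) (G : N →ₛₗ[τ] N) {M : Submodule 𝕎 N}
    (hM : M.IsLattice 𝕃) (hst : latImg G 1 M ≤ M) (j i : ℕ) :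
    (imCh G M j i).IsLattice 𝕃 :=
  isLattice_of_between hM (r := (j : ℤ)) le_sup_right
    (sup_le (latImg_le_of_stable hτ G hst i) (pPow_natCast_le j M))

/-- stabilisation thresholds at level `j` -/
theorem exists_threshold (hτ : PresW τ) (G : N →ₛₗ[τ] N) (b : Basis (Fin n) 𝕃 N)
    {M : Submodule 𝕎 N} (hM : M.IsLattice 𝕃) (hst : latImg G 1 M ≤ M) (j : ℕ) :
    ∃ n₀, ∀ i, n₀ ≤ i → imCh G M j i = imCh G M j n₀ ∧ kerCh hτ G M j i = kerCh hτ G M j n₀ := by
  obtain ⟨n₁, hn₁⟩ := chain_eventually_const_anti hM (pPow_isLattice (j : ℤ) hM) b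
    (imCh G M j) (imCh_isLattice hτ G hM hst j) (fun i => le_sup_right) (imCh_anti hτ G hst j)
  obtain ⟨n₂, hn₂⟩ := chain_eventually_const_mono hM b (kerCh hτ G M j)
    (kerCh_isLattice hτ G hM hst j) (fun i => inf_le_left) (kerCh_mono hτ G hst j)
  refine ⟨max n₁ n₂, fun i hi => ⟨?_, ?_⟩⟩
  · rw [hn₁ i (le_trans (le_max_left _ _) hi), hn₁ (max n₁ n₂) (le_max_left _ _)]
  · rw [hn₂ i (le_trans (le_max_right _ _) hi), hn₂ (max n₁ n₂) (le_max_right _ _)]

end fitting

section fitting2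
variable {p : ℕ} [hp : Fact p.Prime] {k : Type*} [Field k] [CharP k p] [PerfectRing k p]

local notation "𝕎" => WittVector p k
local notation "𝕃" => FractionRing (WittVector p k)

variable {N : Type*} [AddCommGroup N] [Module (WittVector p k) N]
  [Module (FractionRing (WittVector p k)) N]
  [IsScalarTower (WittVector p k) (FractionRing (WittVector p k)) N]
variable {τ : FractionRing (WittVector p k) →+* FractionRing (WittVector p k)}
variable {n : ℕ}

/-- `n₀` is a stabilisation threshold at level `j` -/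
def IsThr (hτ : PresW τ) (G : N →ₛₗ[τ] N) (M : Submodule 𝕎 N) (j n₀ : ℕ) : Prop :=
  ∀ i, n₀ ≤ i → imCh G M j i = imCh G M j n₀ ∧ kerCh hτ G M j i = kerCh hτ G M j n₀

theorem IsThr.mono (hτ : PresW τ) {G : N →ₛₗ[τ] N} {M : Submodule 𝕎 N} {j n₀ n₁ : ℕ}
    (h : IsThr hτ G M j n₀) (h01 : n₀ ≤ n₁) : IsThr hτ G M j n₁ := by
  intro i hi
  have h1 := h i (h01.trans hi)
  have h2 := h n₁ h01
  exact ⟨h1.1.trans h2.1.symm, h1.2.trans h2.2.symm⟩

theorem latImg_anti_of_stable (hτ : PresW τ) (G : N →ₛₗ[τ] N) {M : Submodule 𝕎 N}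
    (hst : latImg G 1 M ≤ M) {i i' : ℕ} (h : i ≤ i') : latImg G i' M ≤ latImg G i M := by
  induction i', h using Nat.le_induction with
  | base => exact le_rfl
  | succ i' _ ih => exact (latImg_succ_le_of_stable hτ G hst i').trans ih

theorem level_sum (hτ : PresW τ) (G : N →ₛₗ[τ] N) {M : Submodule 𝕎 N}
    (hst : latImg G 1 M ≤ M) {j n₀ : ℕ} (hthr : IsThr hτ G M j n₀) {x : N} (hx : x ∈ M) :
    ∃ y ∈ latImg G n₀ M, x - y ∈ kerCh hτ G M j n₀ := by
  have h1 : (⇑G)^[n₀] x ∈ imCh G M j (n₀ + n₀) := by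
    rw [(hthr (n₀ + n₀) (by omega)).1]
    exact Submodule.mem_sup_left (apply_mem_img (G := iter G n₀) hx)
  obtain ⟨u, hu, v, hv, huv⟩ := Submodule.mem_sup.mp h1
  rw [latImg_add hτ, latImg_eq_img G n₀ (latImg G n₀ M)] at hu
  obtain ⟨y, hy, rfl⟩ := (mem_img (hτ.pow n₀)).mp hu
  refine ⟨y, hy, ?_⟩
  rw [mem_kerCh]
  refine ⟨M.sub_mem hx (latImg_le_of_stable hτ G hst n₀ hy), ?_⟩
  have : (⇑G)^[n₀] (x - y) = v := by
    have := (iter G n₀).map_sub x y
    rw [iter_apply, iter_apply, iter_apply] at this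
    rw [this, ← huv, iter_apply]
    abel
  rw [this]
  exact hv

theorem level_inf (hτ : PresW τ) (G : N →ₛₗ[τ] N) {M : Submodule 𝕎 N}
    (hst : latImg G 1 M ≤ M) {j n₀ : ℕ} (hthr : IsThr hτ G M j n₀) :
    imCh G M j n₀ ⊓ kerCh hτ G M j n₀ ≤ pPow (j : ℤ) M := by
  intro x hx
  obtain ⟨hx1, hx2⟩ := Submodule.mem_inf.mp hx
  obtain ⟨u, hu, v, hv, rfl⟩ := Submodule.mem_sup.mp hx1
  rw [latImg_eq_img] at hu
  obtain ⟨y, hy, rfl⟩ := (mem_img (hτ.pow n₀)).mp hu
  rw [mem_kerCh] at hx2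
  have h1 : (⇑G)^[n₀] ((iter G n₀) y + v) = (⇑G)^[n₀ + n₀] y + (⇑G)^[n₀] v := by
    have := (iter G n₀).map_add ((iter G n₀) y) v
    simp only [iter_apply] at this
    rw [iter_apply, this, Function.iterate_add_apply]
  have h2 : (⇑G)^[n₀] v ∈ pPow (j : ℤ) M := iterate_mem_pPow_of_stable hτ G hst n₀ _ hv
  have h3 : (⇑G)^[n₀ + n₀] y ∈ pPow (j : ℤ) M := by
    have := (pPow (j : ℤ) M).sub_mem hx2.2 h2
    rwa [h1, add_sub_cancel_right] at this
  have h4 : y ∈ kerCh hτ G M j (n₀ + n₀) := (mem_kerCh _ _ _ _ _ _).mpr ⟨hy, h3⟩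
  rw [(hthr (n₀ + n₀) (by omega)).2, mem_kerCh] at h4
  exact (pPow (j : ℤ) M).add_mem h4.2 hv

end fitting2

section fitting3
variable {p : ℕ} [hp : Fact p.Prime] {k : Type*} [Field k] [CharP k p] [PerfectRing k p]

local notation "𝕎" => WittVector p k
local notation "𝕃" => FractionRing (WittVector p k)

variable {N : Type*} [AddCommGroup N] [Module (WittVector p k) N]
  [Module (FractionRing (WittVector p k)) N]
  [IsScalarTower (WittVector p k) (FractionRing (WittVector p k)) N]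
variable {τ : FractionRing (WittVector p k) →+* FractionRing (WittVector p k)}
variable {n : ℕ}

theorem kerCh_le_of_le (hτ : PresW τ) (G : N →ₛₗ[τ] N) (M : Submodule 𝕎 N) {j j' : ℕ}
    (h : j ≤ j') (i : ℕ) : kerCh hτ G M j' i ≤ kerCh hτ G M j i := by
  intro x hx
  rw [mem_kerCh] at hx ⊢
  exact ⟨hx.1, pPow_anti (by exact_mod_cast h) M hx.2⟩

/-- Fitting decomposition of a `G`-stable lattice over the complete ring `𝕎` -/
theorem fitting (hτ : PresW τ) {G : N →ₛₗ[τ] N} (hG : IsIsoc G) (b : Basis (Fin n) 𝕃 N)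
    {M : Submodule 𝕎 N} (hM : M.IsLattice 𝕃) (hst : latImg G 1 M ≤ M) {x : N} (hx : x ∈ M) :
    ∃ y, (∀ i, y ∈ latImg G i M) ∧ ∀ j : ℕ, ∃ i, (⇑G)^[i] (x - y) ∈ pPow (j : ℤ) M := by
  choose thr hthr using fun j => exists_threshold hτ G b hM hst j
  -- monotone thresholds
  set nn : ℕ → ℕ := fun j => j + ∑ i ∈ Finset.range (j + 1), thr i with hnn
  have hnn_ge_thr : ∀ j, thr j ≤ nn j := by
    intro j
    have : thr j ≤ ∑ i ∈ Finset.range (j + 1), thr i :=
      Finset.single_le_sum (f := thr) (fun i _ => Nat.zero_le _) (Finset.self_mem_range_succ j)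
    simp only [hnn]; omega
  have hnn_ge : ∀ j, j ≤ nn j := fun j => by simp only [hnn]; omega
  have hnn_mono : ∀ j, nn j ≤ nn (j + 1) := by
    intro j
    simp only [hnn]
    rw [Finset.sum_range_succ _ (j + 1)]
    omega
  have hT : ∀ j, IsThr hτ G M j (nn j) := fun j => IsThr.mono hτ (hthr j) (hnn_ge_thr j)
  choose y hy hz using fun j => level_sum hτ G hst (hT j) hx
  have hyM : ∀ j, y j ∈ M := fun j => latImg_le_of_stable hτ G hst _ (hy j)
  -- compatibility
  have hcompat : ∀ j : ℕ, y (j + 1) - y j ∈ pPow (j : ℤ) M := by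
    intro j
    apply level_inf hτ G hst (hT j)
    refine ⟨?_, ?_⟩
    · apply Submodule.sub_mem
      · exact Submodule.mem_sup_left (latImg_anti_of_stable hτ G hst (hnn_mono j) (hy (j + 1)))
      · exact Submodule.mem_sup_left (hy j)
    · have e : y (j + 1) - y j = (x - y j) - (x - y (j + 1)) := by abel
      rw [e]
      apply Submodule.sub_mem _ (hz j)
      have h1 := kerCh_le_of_le hτ G M (Nat.le_succ j) (nn (j + 1)) (hz (j + 1))
      rwa [((hT j) (nn (j + 1)) (hnn_mono j)).2] at h1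
  obtain ⟨yl, hylM, hyl⟩ := lattice_complete hM y hyM hcompat
  refine ⟨yl, ?_, ?_⟩
  · intro i
    obtain ⟨c, hc⟩ := exists_pPow_le hM.fg (latImg_isLattice hτ hG hM i).span_eq_top
    have h1 : y (max c i) ∈ latImg G i M :=
      latImg_anti_of_stable hτ G hst ((le_max_right c i).trans (hnn_ge _)) (hy (max c i))
    have h2 : yl - y (max c i) ∈ latImg G i M := by
      apply hc
      exact pPow_anti (by exact_mod_cast le_max_left c i) M (hyl (max c i))
    have := Submodule.add_mem _ h2 h1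
    rwa [sub_add_cancel] at this
  · intro j
    refine ⟨nn j, ?_⟩
    have e : x - yl = (x - y j) - (yl - y j) := by abel
    have h1 : (⇑G)^[nn j] (x - y j) ∈ pPow (j : ℤ) M := ((mem_kerCh _ _ _ _ _ _).mp (hz j)).2
    have h2 : (⇑G)^[nn j] (yl - y j) ∈ pPow (j : ℤ) M :=
      iterate_mem_pPow_of_stable hτ G hst _ _ (hyl j)
    have h3 := (iter G (nn j)).map_sub (x - y j) (yl - y j)
    simp only [iter_apply] at h3
    rw [e, h3]
    exact Submodule.sub_mem _ h1 h2

end fitting3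

section nil
variable {p : ℕ} [hp : Fact p.Prime] {k : Type*} [Field k] [CharP k p] [PerfectRing k p]

local notation "𝕎" => WittVector p k
local notation "𝕃" => FractionRing (WittVector p k)

variable {N : Type*} [AddCommGroup N] [Module (WittVector p k) N]
  [Module (FractionRing (WittVector p k)) N]
  [IsScalarTower (WittVector p k) (FractionRing (WittVector p k)) N]
variable {τ τ' : FractionRing (WittVector p k) →+* FractionRing (WittVector p k)}
variable {n : ℕ}

theorem iterate_add' (G : N →ₛₗ[τ] N) (i : ℕ) (x y : N) :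
    (⇑G)^[i] (x + y) = (⇑G)^[i] x + (⇑G)^[i] y := (iter G i).map_add x y

theorem iterate_smul' (G : N →ₛₗ[τ] N) (i : ℕ) (c : 𝕃) (x : N) :
    (⇑G)^[i] (c • x) = (τ ^ i) c • (⇑G)^[i] x := (iter G i).map_smulₛₗ c x

/-- the subspace of vectors on which `G` is topologically nilpotent -/
noncomputable def nilSpace (hτ : PresW τ) (G : N →ₛₗ[τ] N) (M : Submodule 𝕎 N)
    (hst : latImg G 1 M ≤ M) : Submodule 𝕃 N where
  carrier := {x | ∀ j : ℕ, ∃ i, (⇑G)^[i] x ∈ pPow (j : ℤ) M}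
  add_mem' := by
    intro x y hx hy j
    obtain ⟨i₁, h₁⟩ := hx j
    obtain ⟨i₂, h₂⟩ := hy j
    refine ⟨i₂ + i₁, ?_⟩
    rw [iterate_add']
    refine Submodule.add_mem _ ?_ ?_
    · rw [Function.iterate_add_apply]
      exact iterate_mem_pPow_of_stable hτ G hst i₂ _ h₁
    · rw [add_comm, Function.iterate_add_apply]
      exact iterate_mem_pPow_of_stable hτ G hst i₁ _ h₂
  zero_mem' := by
    intro j
    exact ⟨0, by simp⟩
  smul_mem' := by
    intro c x hx j
    obtain ⟨m, hm⟩ := exists_pow_mul_isInt c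
    obtain ⟨i, hi⟩ := hx (j + m)
    refine ⟨i, ?_⟩
    rw [iterate_smul']
    have hc : c = ((p : 𝕃) ^ m)⁻¹ * ((p : 𝕃) ^ m * c) := by
      rw [← mul_assoc, inv_mul_cancel₀ (pow_ne_zero m pL_ne_zero), one_mul]
    obtain ⟨w, hw⟩ := (hτ.pow i).isInt hm
    have h1 : (τ ^ i) c = ((p : 𝕃) ^ m)⁻¹ * algebraMap 𝕎 𝕃 w := by
      conv_lhs => rw [hc]
      rw [map_mul, map_inv₀, map_pow, map_natCast, hw]
    rw [h1, mul_smul, algebraMap_smul]
    have h2 : w • (⇑G)^[i] x ∈ pPow ((j + m : ℕ) : ℤ) M := Submodule.smul_mem _ _ hi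
    rw [mem_pPow'] at h2 ⊢
    rw [smul_smul]
    convert h2 using 2
    push_cast
    rw [neg_add, zpow_add₀ pL_ne_zero, zpow_neg (p : 𝕃) (m : ℤ), zpow_natCast]

theorem mem_nilSpace (hτ : PresW τ) (G : N →ₛₗ[τ] N) (M : Submodule 𝕎 N)
    (hst : latImg G 1 M ≤ M) (x : N) :
    x ∈ nilSpace hτ G M hst ↔ ∀ j : ℕ, ∃ i, (⇑G)^[i] x ∈ pPow (j : ℤ) M := Iff.rfl

/-- the part of the lattice on which `G` is bijective -/
noncomputable def bijPart (G : N →ₛₗ[τ] N) (M : Submodule 𝕎 N) : Submodule 𝕎 N :=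
  ⨅ i, latImg G i M

theorem mem_bijPart (G : N →ₛₗ[τ] N) (M : Submodule 𝕎 N) (x : N) :
    x ∈ bijPart G M ↔ ∀ i, x ∈ latImg G i M := by
  rw [bijPart, Submodule.mem_iInf]

theorem bijPart_le (G : N →ₛₗ[τ] N) (M : Submodule 𝕎 N) : bijPart G M ≤ M := by
  intro x hx
  have := (mem_bijPart G M x).mp hx 0
  rwa [latImg_zero] at this

theorem img_bijPart (hτ : PresW τ) (G : N →ₛₗ[τ] N) (hG : Function.Injective G)
    {M : Submodule 𝕎 N} (hst : latImg G 1 M ≤ M) : img G (bijPart G M) = bijPart G M := by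
  apply le_antisymm
  · rw [img_le_iff]
    intro x hx
    rw [mem_bijPart] at hx ⊢
    intro i
    cases i with
    | zero =>
      rw [latImg_zero]
      have := hx 0
      rw [latImg_zero] at this
      apply hst
      rw [latImg_one]
      exact apply_mem_img this
    | succ i =>
      rw [← img_latImg hτ]
      exact apply_mem_img (hx i)
  · intro y hy
    rw [mem_bijPart] at hy
    have h1 := hy 1
    rw [latImg_one] at h1
    obtain ⟨x₁, hx₁, rfl⟩ := (mem_img hτ).mp h1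
    refine apply_mem_img ?_
    rw [mem_bijPart]
    intro i
    have h2 := hy (i + 1)
    rw [← img_latImg hτ] at h2
    obtain ⟨x', hx', he⟩ := (mem_img hτ).mp h2
    exact hG he ▸ hx'

end nil

section nil2
variable {p : ℕ} [hp : Fact p.Prime] {k : Type*} [Field k] [CharP k p] [PerfectRing k p]

local notation "𝕎" => WittVector p k
local notation "𝕃" => FractionRing (WittVector p k)

variable {N : Type*} [AddCommGroup N] [Module (WittVector p k) N]
  [Module (FractionRing (WittVector p k)) N]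
  [IsScalarTower (WittVector p k) (FractionRing (WittVector p k)) N]
variable {τ τ' : FractionRing (WittVector p k) →+* FractionRing (WittVector p k)}
variable {n : ℕ}

theorem nil_sup_bij (hτ : PresW τ) {G : N →ₛₗ[τ] N} (hG : IsIsoc G) (b : Basis (Fin n) 𝕃 N)
    {M : Submodule 𝕎 N} (hM : M.IsLattice 𝕃) (hst : latImg G 1 M ≤ M) :
    nilSpace hτ G M hst ⊔ Submodule.span 𝕃 (bijPart G M : Set N) = ⊤ := by
  rw [eq_top_iff]
  rintro x -
  obtain ⟨c, hc⟩ := exists_pow_smul_mem hM.span_eq_top x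
  obtain ⟨y, hy, hz⟩ := fitting hτ hG b hM hst hc
  have hne : ((p : 𝕃) ^ c) ≠ 0 := pow_ne_zero c pL_ne_zero
  have e : x = ((p : 𝕃) ^ c)⁻¹ • (((p : 𝕃) ^ c) • x - y) + ((p : 𝕃) ^ c)⁻¹ • y := by
    rw [← smul_add, sub_add_cancel, smul_smul, inv_mul_cancel₀ hne, one_smul]
  rw [e]
  refine Submodule.add_mem _ (Submodule.mem_sup_left ?_) (Submodule.mem_sup_right ?_)
  · exact Submodule.smul_mem _ _ ((mem_nilSpace hτ G M hst _).mpr hz)
  · exact Submodule.smul_mem _ _ (Submodule.subset_span ((mem_bijPart G M y).mpr hy))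

theorem nilSpace_ne_top (hτ : PresW τ) (G : N →ₛₗ[τ] N) {M : Submodule 𝕎 N}
    (hM : M.IsLattice 𝕃) (hst : latImg G 1 M ≤ M) (hnil : ∀ j, ¬ latImg G j M ≤ pPow 1 M) :
    nilSpace hτ G M hst ≠ ⊤ := by
  intro htop
  have hall : ∀ x : N, ∃ i, (⇑G)^[i] x ∈ pPow 1 M := by
    intro x
    have hx : x ∈ nilSpace hτ G M hst := by rw [htop]; trivial
    have := (mem_nilSpace hτ G M hst x).mp hx 1
    simpa using this
  choose f hf using hall
  obtain ⟨S, hS⟩ := hM.fg
  apply hnil (S.sup f)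
  rw [← hS, latImg_eq_img, img_span (hτ.pow _), Submodule.span_le]
  rintro _ ⟨x, hx, rfl⟩
  have hle : f x ≤ S.sup f := Finset.le_sup (f := f) hx
  obtain ⟨d, hd⟩ := Nat.exists_eq_add_of_le hle
  rw [iter_apply, hd, add_comm, Function.iterate_add_apply, hS]
  exact iterate_mem_pPow_of_stable hτ G hst d 1 (hf x)

theorem iterate_comm' (F : N →ₛₗ[τ'] N) (G : N →ₛₗ[τ] N) (hcomm : ∀ x, F (G x) = G (F x))
    (i : ℕ) (x : N) : F ((⇑G)^[i] x) = (⇑G)^[i] (F x) := by
  induction i generalizing x with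
  | zero => rfl
  | succ i ih => rw [Function.iterate_succ_apply, ih, hcomm, ← Function.iterate_succ_apply]

theorem nilSpace_stable (hτ : PresW τ) (hτ' : PresW τ') (F : N →ₛₗ[τ'] N) (G : N →ₛₗ[τ] N)
    (hcomm : ∀ x, F (G x) = G (F x)) {M : Submodule 𝕎 N} (hM : M.IsLattice 𝕃)
    (hst : latImg G 1 M ≤ M) : ∀ x ∈ nilSpace hτ G M hst, F x ∈ nilSpace hτ G M hst := by
  obtain ⟨c, hc⟩ := exists_le_pPow (img_fg hτ' F hM.fg) hM.span_eq_top
  intro x hx
  rw [mem_nilSpace] at hx ⊢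
  intro j
  obtain ⟨i, hi⟩ := hx (j + c)
  refine ⟨i, ?_⟩
  rw [← iterate_comm' F G hcomm]
  have h1 : F ((⇑G)^[i] x) ∈ img F (pPow ((j + c : ℕ) : ℤ) M) := apply_mem_img hi
  rw [img_pPow] at h1
  have h2 := pPow_mono (r := ((j + c : ℕ) : ℤ)) hc h1
  rw [← pPow_add] at h2
  convert h2 using 2
  push_cast; ring

end nil2

section goodbij
variable {p : ℕ} [hp : Fact p.Prime] {k : Type*} [Field k] [CharP k p] [PerfectRing k p]

local notation "𝕎" => WittVector p k
local notation "𝕃" => FractionRing (WittVector p k)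

variable {N : Type*} [AddCommGroup N] [Module (WittVector p k) N]
  [Module (FractionRing (WittVector p k)) N]
  [IsScalarTower (WittVector p k) (FractionRing (WittVector p k)) N]
variable {τ τ' : FractionRing (WittVector p k) →+* FractionRing (WittVector p k)}
variable {n : ℕ}

theorem twist_comm (F : N →ₛₗ[τ] N) (r : ℤ) (s : ℕ) (x : N) :
    F ((((p : 𝕃) ^ r) • iter F s) x) = (((p : 𝕃) ^ r) • iter F s) (F x) := by
  rw [LinearMap.smul_apply, LinearMap.smul_apply, map_smulₛₗ, map_p_zpow, iter_apply, iter_apply,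
    ← Function.iterate_succ_apply' (⇑F), Function.iterate_succ_apply]

/-- the bijective part spans a good subspace of slope `r / s` -/
theorem good_bij (hτ : PresW τ) {F : N →ₛₗ[τ] N} (hF : IsIsoc F) {M : Submodule 𝕎 N}
    (hM : M.IsLattice 𝕃) (r : ℤ) {s : ℕ} (hs : 0 < s)
    (hst : latImg (((p : 𝕃) ^ (-r)) • iter F s) 1 M ≤ M) :
    Good F ((r : ℚ) / s)
      (Submodule.span 𝕃 (bijPart (((p : 𝕃) ^ (-r)) • iter F s) M : Set N)) := by
  set G := ((p : 𝕃) ^ (-r)) • iter F s with hG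
  have hτs : PresW (τ ^ s) := hτ.pow s
  have hGi : IsIsoc G := isIsoc_twist hF (-r) s
  have himg : img G (bijPart G M) = bijPart G M := img_bijPart hτs G hGi.bijective.1 hst
  obtain ⟨c, hc⟩ := exists_le_pPow (img_fg hτ F hM.fg) hM.span_eq_top
  -- `F` maps the bijective part into `p^{-c}` times itself
  have hFb : ∀ x ∈ bijPart G M, ((p : 𝕃) ^ c) • F x ∈ bijPart G M := by
    intro x hx
    rw [mem_bijPart] at hx ⊢
    intro i
    have hxi := hx i
    rw [latImg_eq_img] at hxi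
    obtain ⟨m, hm, rfl⟩ := (mem_img (hτs.pow i)).mp hxi
    rw [iter_apply, iterate_comm' F G (twist_comm F (-r) s)]
    have h1 : ((p : 𝕃) ^ c) • F m ∈ M := by
      have := hc (apply_mem_img (G := F) hm)
      rw [mem_pPow', neg_neg, zpow_natCast] at this
      exact this
    have h2 := apply_mem_img (G := iter G i) h1
    rw [map_smulₛₗ, map_pow, map_natCast, iter_apply] at h2
    rw [latImg_eq_img]
    exact h2
  refine ⟨?_, bijPart G M, fg_of_le_lattice hM (bijPart_le G M), rfl, r, s, hs, rfl, ?_⟩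
  · intro x hx
    induction hx using Submodule.span_induction with
    | mem x hx =>
      have h1 := hFb x hx
      have hne : ((p : 𝕃) ^ c) ≠ 0 := pow_ne_zero c pL_ne_zero
      have e : F x = ((p : 𝕃) ^ c)⁻¹ • (((p : 𝕃) ^ c) • F x) := by
        rw [smul_smul, inv_mul_cancel₀ hne, one_smul]
      rw [e]
      exact Submodule.smul_mem _ _ (Submodule.subset_span h1)
    | zero => rw [map_zero]; exact Submodule.zero_mem _
    | add x y _ _ ihx ihy => rw [map_add]; exact Submodule.add_mem _ ihx ihy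
    | smul a x _ ih => rw [map_smulₛₗ]; exact Submodule.smul_mem _ _ ih
  · have h1 : img G (bijPart G M) = pPow (-r) (latImg F s (bijPart G M)) := by
      rw [hG, img_zpow_smul, ← latImg_eq_img]
    rw [himg] at h1
    have := congrArg (pPow r) h1
    rw [← pPow_add, add_neg_cancel, pPow_zero] at this
    exact this.symm

end goodbij

end Helper5.IsocLib
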