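import Mathlib
import Groth.Prelude.Def_Isoc
import Groth.Agent.Lib.Helper5.Isoc.Fitting

set_option autoImplicit false
set_option linter.unusedSectionVars false

universe u v

namespace Helper5.IsocLib
open Isoc Module Filter Topology
open scoped Pointwise

section span
variable {p : ℕ} [hp : Fact p.Prime] {k : Type u} [Field k] [CharP k p] [PerfectRing k p]

local notation "𝕎" => WittVector p k
local notation "𝕃" => FractionRing (WittVector p k)

variable {N : Type*} [AddCommGroup N] [Module (WittVector p k) N]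
  [Module (FractionRing (WittVector p k)) N]
  [IsScalarTower (WittVector p k) (FractionRing (WittVector p k)) N]
variable {N' : Type*} [AddCommGroup N'] [Module (WittVector p k) N']
  [Module (FractionRing (WittVector p k)) N']
  [IsScalarTower (WittVector p k) (FractionRing (WittVector p k)) N']
variable {τ τ' : FractionRing (WittVector p k) →+* FractionRing (WittVector p k)}
variable {n : ℕ}

theorem good_map (hτ : PresW τ) (F₁ : N →ₛₗ[τ] N) (F₂ : N' →ₛₗ[τ'] N') (φ : N →ₗ[𝕃] N')
    (h : ∀ x, φ (F₁ x) = F₂ (φ x)) {μ : ℚ} {P : Submodule 𝕃 N} (hP : Good F₁ μ P) :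
    Good F₂ μ (P.map φ) := by
  obtain ⟨hst, M', hfg, hspan, r, s, hs, hrs, hFM⟩ := hP
  refine ⟨?_, img φ M', img_fg presW_id φ hfg, ?_, r, s, hs, hrs, ?_⟩
  · rintro _ ⟨x, hx, rfl⟩
    rw [← h]
    exact ⟨F₁ x, hst x hx, rfl⟩
  · have h1 : ((img φ M' : Submodule 𝕎 N') : Set N') = φ '' (M' : Set N) := by
      ext y
      simp only [SetLike.mem_coe, mem_img presW_id, Set.mem_image]
    rw [h1, ← Submodule.map_span, hspan]
  · rw [← latImg_comm hτ presW_id φ F₁ F₂ h, hFM, img_pPow]

theorem exists_lattice (b : Basis (Fin n) 𝕃 N) : ∃ M : Submodule 𝕎 N, M.IsLattice 𝕃 := by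
  refine ⟨Submodule.span 𝕎 (Set.range b), Submodule.fg_span (Set.finite_range _), ?_⟩
  rw [eq_top_iff, ← b.span_eq]
  exact Submodule.span_mono Submodule.subset_span

theorem exists_firstSlope (hτ : PresW τ) {F : N →ₛₗ[τ] N} (hF : IsIsoc F) [Nontrivial N]
    (b : Basis (Fin n) 𝕃 N) : ∃ lam, IsFirstSlope F lam := by
  obtain ⟨M, hM⟩ := exists_lattice b
  obtain ⟨o, ho⟩ := exists_ord_seq hτ hF.bijective.1 hM (lattice_ne_bot hM)
  obtain ⟨lam, hlam⟩ := exists_tendsto_ord hτ hF hM o (fun n _ => ho n)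
  exact ⟨lam, M, hM, o, fun n _ => ho n, hlam⟩

end span

section span2
variable {p : ℕ} [hp : Fact p.Prime] {k : Type u} [Field k] [CharP k p] [PerfectRing k p]

local notation "𝕎" => WittVector p k
local notation "𝕃" => FractionRing (WittVector p k)

variable {τ : FractionRing (WittVector p k) →+* FractionRing (WittVector p k)}

theorem iSup_slopePart_aux (hτ : PresW τ) (n : ℕ) :
    ∀ (N : Type v) [AddCommGroup N] [Module (WittVector p k) N]
      [Module (FractionRing (WittVector p k)) N]
      [IsScalarTower (WittVector p k) (FractionRing (WittVector p k)) N]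
      (F : N →ₛₗ[τ] N), IsIsoc F → Module.finrank 𝕃 N = n → ⨆ μ : ℚ, slopePart F μ = ⊤ := by
  induction n using Nat.strong_induction_on with
  | _ n ih =>
    intro N _ _ _ _ F hF hn
    have hfin := hF.finite
    by_cases hsub : Subsingleton N
    · exact Subsingleton.elim _ _
    have hNT : Nontrivial N := not_subsingleton_iff_nontrivial.mp hsub
    let b : Basis (Fin n) 𝕃 N := Module.finBasisOfFinrankEq 𝕃 N hn
    obtain ⟨d, hd⟩ := exists_ordP_detCoeff hτ b F hF.bijective.1
    obtain ⟨lam, hlam⟩ := exists_firstSlope hτ hF b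
    obtain ⟨r, s, M, hs, -, hlamrs, hM, hord, -⟩ := firstSlope_rational hτ hF b hd hlam
    have hτs : PresW (τ ^ s) := hτ.pow s
    have hGi : IsIsoc (((p : 𝕃) ^ (-r)) • iter F s) := isIsoc_twist hF (-r) s
    have hst : latImg (((p : 𝕃) ^ (-r)) • iter F s) 1 M ≤ M := by
      rw [latImg_one, img_zpow_smul, ← latImg_eq_img]
      exact pPow_neg_le_iff.mpr hord.1
    have hβ := isFirstSlope_twist hτ hlam (-r) s
    have hβ0 : (s : ℝ) * lam + ((-r : ℤ) : ℝ) = 0 := by
      have hs0 : (s : ℝ) ≠ 0 := by exact_mod_cast hs.ne'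
      rw [hlamrs]
      push_cast
      field_simp
      ring
    rw [hβ0] at hβ
    have hM0 : M ≠ ⊥ := lattice_ne_bot hM
    have hnil : ∀ j, ¬ latImg (((p : 𝕃) ^ (-r)) • iter F s) j M ≤ pPow 1 M := by
      intro j hj
      rcases Nat.eq_zero_or_pos j with rfl | hjpos
      · rw [latImg_zero] at hj
        have h1 : pPow 0 M ≤ pPow 1 M := by rw [pPow_zero]; exact hj
        have := (pPow_le_pPow_iff hM hM0).mp h1
        omega
      · have := firstSlope_ge hτs hGi.bijective.1 hβ hM hjpos hj
        have hj0 : (0 : ℝ) < j := by exact_mod_cast hjpos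
        have : (0 : ℝ) < ((1 : ℤ) : ℝ) / j := by push_cast; positivity
        linarith
    -- the nilpotent part
    have hN₂ne := nilSpace_ne_top hτs _ hM hst hnil
    have hN₂st := nilSpace_stable hτs hτ F _ (twist_comm F (-r) s) hM hst
    have hlt : Module.finrank 𝕃 (nilSpace hτs (((p : 𝕃) ^ (-r)) • iter F s) M hst) < n := by
      rw [← hn]
      exact Submodule.finrank_lt hN₂ne
    have hIH := ih _ hlt (nilSpace hτs (((p : 𝕃) ^ (-r)) • iter F s) M hst)
      (F.restrict hN₂st) (isIsoc_restrict hτ hF _ hN₂st) rfl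
    have hN₂le : nilSpace hτs (((p : 𝕃) ^ (-r)) • iter F s) M hst ≤ ⨆ μ : ℚ, slopePart F μ := by
      have h1 : nilSpace hτs (((p : 𝕃) ^ (-r)) • iter F s) M hst =
          (⊤ : Submodule 𝕃 (nilSpace hτs (((p : 𝕃) ^ (-r)) • iter F s) M hst)).map
            (Submodule.subtype _) := by
        rw [Submodule.map_top, Submodule.range_subtype]
      rw [h1, ← hIH, Submodule.map_iSup]
      refine iSup_le fun μ => le_iSup_of_le μ ?_
      apply good_le_slopePart hτ
      refine good_map hτ (F.restrict hN₂st) F (Submodule.subtype _) (fun _ => rfl) ?_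
      rw [good_iff hτ]
      exact slopePart_isoclinic hτ (isIsoc_restrict hτ hF _ hN₂st) μ
    have hN₁le : Submodule.span 𝕃 (bijPart (((p : 𝕃) ^ (-r)) • iter F s) M : Set N) ≤
        ⨆ μ : ℚ, slopePart F μ :=
      le_iSup_of_le ((r : ℚ) / s) (good_le_slopePart hτ F _ (good_bij hτ hF hM r hs hst))
    rw [eq_top_iff, ← nil_sup_bij hτs hGi b hM hst]
    exact sup_le hN₂le hN₁le

theorem iSup_slopePart_eq_top (hτ : PresW τ) {N : Type v} [AddCommGroup N]
    [Module (WittVector p k) N] [Module (FractionRing (WittVector p k)) N]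
    [IsScalarTower (WittVector p k) (FractionRing (WittVector p k)) N]
    {F : N →ₛₗ[τ] N} (hF : IsIsoc F) : ⨆ μ : ℚ, slopePart F μ = ⊤ :=
  iSup_slopePart_aux hτ _ N F hF rfl

end span2

end Helper5.IsocLib
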