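import Mathlib
import Groth.Prelude.Def_Isoc
import Groth.Agent.Lib.Helper5.Isoc.Span

set_option autoImplicit false
set_option linter.unusedSectionVars false

universe u v

namespace Helper5.IsocLib
open Isoc Module Filter Topology
open scoped Pointwise

section indep
variable {p : ℕ} [hp : Fact p.Prime] {k : Type u} [Field k] [CharP k p] [PerfectRing k p]

local notation "𝕎" => WittVector p k
local notation "𝕃" => FractionRing (WittVector p k)

variable {N : Type v} [AddCommGroup N] [Module (WittVector p k) N]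
  [Module (FractionRing (WittVector p k)) N]
  [IsScalarTower (WittVector p k) (FractionRing (WittVector p k)) N]
variable {τ : FractionRing (WittVector p k) →+* FractionRing (WittVector p k)}

theorem good_of_le (hτ : PresW τ) {F : N →ₛₗ[τ] N} (hF : IsIsoc F) {μ : ℚ}
    {P R : Submodule 𝕃 N} (hP : Good F μ P) (hRP : R ≤ P) (hR : ∀ x ∈ R, F x ∈ R) :
    Good F μ R := by
  obtain ⟨hPst, hiso⟩ := (good_iff hτ F μ P).mp hP
  have hFP := isIsoc_restrict hτ hF P hPst
  have hR' : ∀ x ∈ R.comap P.subtype, (F.restrict hPst) x ∈ R.comap P.subtype := by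
    intro x hx
    exact hR _ hx
  have h1 := isIsoclinic_restrict hτ hFP hiso (R.comap P.subtype) hR'
  have h2 : Good (F.restrict hPst) μ (R.comap P.subtype) :=
    (good_iff hτ _ μ _).mpr ⟨hR', h1⟩
  have h3 := good_map hτ (F.restrict hPst) F P.subtype (fun _ => rfl) h2
  rwa [Submodule.map_comap_subtype, inf_eq_right.mpr hRP] at h3

theorem good_inf_eq_bot (hτ : PresW τ) {F : N →ₛₗ[τ] N} (hF : IsIsoc F) {μ ν : ℚ}
    (hne : μ ≠ ν) {P Q : Submodule 𝕃 N} (hP : Good F μ P) (hQ : Good F ν Q) : P ⊓ Q = ⊥ := by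
  have hRst : ∀ x ∈ P ⊓ Q, F x ∈ P ⊓ Q := fun x hx => ⟨hP.1 x hx.1, hQ.1 x hx.2⟩
  have hR := good_of_le hτ hF hP inf_le_left hRst
  obtain ⟨hRst', hisoR⟩ := (good_iff hτ F μ _).mp hR
  obtain ⟨hQst, hisoQ⟩ := (good_iff hτ F ν Q).mp hQ
  have hz := hom_eq_zero hτ hτ (isIsoc_restrict hτ hF Q hQst).bijective.1 hisoR hisoQ hne
    (Submodule.inclusion (inf_le_right : P ⊓ Q ≤ Q)) (fun x => Subtype.ext rfl)
  rw [eq_bot_iff]
  intro x hx
  have h1 : Submodule.inclusion (inf_le_right : P ⊓ Q ≤ Q) ⟨x, hx⟩ = 0 := by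
    rw [hz, LinearMap.zero_apply]
  have h2 : x = 0 := congrArg Subtype.val h1
  rw [h2]; exact Submodule.zero_mem _

theorem isIsoc_mapQ (hτ : PresW τ) {F : N →ₛₗ[τ] N} (hF : IsIsoc F) (Q : Submodule 𝕃 N)
    (hQ : Q ≤ Q.comap F) : IsIsoc (Q.mapQ Q F hQ) := by
  have hfin := hF.finite
  refine ⟨inferInstance, ?_, ?_⟩
  · rw [← LinearMap.ker_eq_bot, eq_bot_iff]
    intro x hx
    induction x using Submodule.Quotient.induction_on with
    | H x =>
      rw [LinearMap.mem_ker, Submodule.mapQ_apply, Submodule.Quotient.mk_eq_zero] at hx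
      have hQst : ∀ x ∈ Q, F x ∈ Q := fun x hx => hQ hx
      obtain ⟨y, hy⟩ := (isIsoc_restrict hτ hF Q hQst).bijective.2 ⟨F x, hx⟩
      have h1 : F (y : N) = F x := congrArg Subtype.val hy
      have h2 : (y : N) = x := hF.bijective.1 h1
      rw [Submodule.mem_bot, Submodule.Quotient.mk_eq_zero, ← h2]
      exact y.2
  · intro y
    induction y using Submodule.Quotient.induction_on with
    | H y =>
      obtain ⟨x, rfl⟩ := hF.bijective.2 y
      exact ⟨Submodule.Quotient.mk x, rfl⟩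

theorem stable_finset_sup (F : N →ₛₗ[τ] N) (Q : ℚ → Submodule 𝕃 N)
    (hQ : ∀ ν, ∀ x ∈ Q ν, F x ∈ Q ν) (T : Finset ℚ) : ∀ x ∈ T.sup Q, F x ∈ T.sup Q := by
  classical
  induction T using Finset.induction_on with
  | empty =>
    intro x hx
    rw [Finset.sup_empty, Submodule.mem_bot] at hx ⊢
    rw [hx, map_zero]
  | insert ν T _ ih =>
    intro x hx
    rw [Finset.sup_insert] at hx ⊢
    obtain ⟨y, hy, z, hz, rfl⟩ := Submodule.mem_sup.mp hx
    rw [map_add]
    exact Submodule.add_mem _ (Submodule.mem_sup_left (hQ ν y hy))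
      (Submodule.mem_sup_right (ih z hz))

theorem good_inf_sup_eq_bot (hτ : PresW τ) {F : N →ₛₗ[τ] N} (hF : IsIsoc F)
    (Q : ℚ → Submodule 𝕃 N) (hQ : ∀ ν, Good F ν (Q ν)) (T : Finset ℚ) :
    ∀ μ, μ ∉ T → ∀ P : Submodule 𝕃 N, Good F μ P → P ⊓ T.sup Q = ⊥ := by
  classical
  induction T using Finset.induction_on with
  | empty =>
    intro μ _ P _
    rw [Finset.sup_empty, inf_bot_eq]
  | insert ν T hν ih =>
    intro μ hμ P hP
    rw [Finset.mem_insert, not_or] at hμ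
    rw [Finset.sup_insert, eq_bot_iff]
    have hst := stable_finset_sup F Q (fun ν => (hQ ν).1) T
    have hst' : T.sup Q ≤ (T.sup Q).comap F := fun x hx => hst x hx
    have hFq := isIsoc_mapQ hτ hF (T.sup Q) hst'
    have hcomm : ∀ x, (T.sup Q).mkQ (F x) = (T.sup Q).mapQ (T.sup Q) F hst' ((T.sup Q).mkQ x) :=
      fun x => rfl
    have hP' := good_map hτ F _ (T.sup Q).mkQ hcomm hP
    have hQ' := good_map hτ F _ (T.sup Q).mkQ hcomm (hQ ν)
    have hbot := good_inf_eq_bot hτ hFq hμ.1 hP' hQ'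
    rintro x ⟨hxP, hxQ⟩
    obtain ⟨y, hy, z, hz, rfl⟩ := Submodule.mem_sup.mp hxQ
    have h1 : (T.sup Q).mkQ (y + z) = (T.sup Q).mkQ y := by
      rw [map_add, (Submodule.mkQ_apply _ z), (Submodule.Quotient.mk_eq_zero _).mpr hz, add_zero]
    have h2 : (T.sup Q).mkQ (y + z) ∈ P.map (T.sup Q).mkQ ⊓ (Q ν).map (T.sup Q).mkQ :=
      ⟨Submodule.mem_map_of_mem hxP, h1 ▸ Submodule.mem_map_of_mem hy⟩
    rw [hbot, Submodule.mem_bot, Submodule.mkQ_apply, Submodule.Quotient.mk_eq_zero] at h2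
    have h3 : y + z ∈ P ⊓ T.sup Q := ⟨hxP, h2⟩
    rwa [ih μ hμ.2 P hP] at h3

theorem iSupIndep_slopePart (hτ : PresW τ) {F : N →ₛₗ[τ] N} (hF : IsIsoc F) :
    iSupIndep (fun μ : ℚ => slopePart F μ) := by
  classical
  have hgood : ∀ ν, Good F ν (slopePart F ν) := fun ν =>
    (good_iff hτ F ν _).mpr (slopePart_isoclinic hτ hF ν)
  rw [iSupIndep_iff_supIndep]
  intro s
  rw [Finset.supIndep_iff_disjoint_erase]
  intro μ _
  rw [disjoint_iff]
  exact good_inf_sup_eq_bot hτ hF (fun ν => slopePart F ν) hgood (s.erase μ) μ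
    (Finset.notMem_erase μ s) _ (hgood μ)

theorem isInternal_slopePart (hτ : PresW τ) {F : N →ₛₗ[τ] N} (hF : IsIsoc F) :
    DirectSum.IsInternal (fun μ : ℚ => slopePart F μ) := by
  rw [DirectSum.isInternal_submodule_iff_iSupIndep_and_iSup_eq_top]
  exact ⟨iSupIndep_slopePart hτ hF, iSup_slopePart_eq_top hτ hF⟩

end indep

end Helper5.IsocLib
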