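import Mathlib
import Groth.Prelude.Def_Isoc
import Groth.Agent.Lib.Helper5.Isoc.SlopePart

set_option autoImplicit false
set_option linter.unusedSectionVars false

namespace Helper5.IsocLib
open Isoc Module Filter Topology
open scoped Pointwise

section std
variable {p : ℕ} [hp : Fact p.Prime] {k : Type*} [Field k] [CharP k p] [PerfectRing k p]

local notation "𝕎" => WittVector p k
local notation "𝕃" => FractionRing (WittVector p k)

variable {τ : FractionRing (WittVector p k) →+* FractionRing (WittVector p k)}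

theorem std_single (τ : 𝕃 →+* 𝕃) (d : ℤ) (m : ℕ) (i : Fin (m + 1)) :
    stdIsoc τ d (m + 1) (Pi.single i 1) =
      (if (finRotate (m + 1) i).val = 0 then (p : 𝕃) ^ d else 1) •
        (Pi.single (finRotate (m + 1) i) 1 : Fin (m + 1) → 𝕃) := by
  funext i'
  rw [stdIsoc_apply, Pi.smul_apply, smul_eq_mul, Pi.single_apply, Pi.single_apply]
  by_cases h : i' = finRotate (m + 1) i
  · subst h
    simp
  · have h2 : (finRotate (m + 1)).symm i' ≠ i := by
      intro h3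
      apply h
      rw [← h3, Equiv.apply_symm_apply]
    rw [if_neg h2, if_neg h, map_zero, mul_zero, mul_zero]

theorem std_single_lt (τ : 𝕃 →+* 𝕃) (d : ℤ) (m : ℕ) {i : ℕ} (hi : i < m) :
    stdIsoc τ d (m + 1) (Pi.single (⟨i, by omega⟩ : Fin (m + 1)) 1) =
      (Pi.single (⟨i + 1, by omega⟩ : Fin (m + 1)) 1 : Fin (m + 1) → 𝕃) := by
  rw [std_single, finRotate_of_lt hi]
  simp

theorem std_single_last (τ : 𝕃 →+* 𝕃) (d : ℤ) (m : ℕ) :
    stdIsoc τ d (m + 1) (Pi.single (⟨m, by omega⟩ : Fin (m + 1)) 1) =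
      ((p : 𝕃) ^ d) • (Pi.single (⟨0, by omega⟩ : Fin (m + 1)) 1 : Fin (m + 1) → 𝕃) := by
  rw [std_single, finRotate_last']
  simp

theorem std_iterate_single (τ : 𝕃 →+* 𝕃) (d : ℤ) (m : ℕ) (j i : ℕ) (h : i + j ≤ m) :
    (⇑(stdIsoc τ d (m + 1)))^[j] (Pi.single (⟨i, by omega⟩ : Fin (m + 1)) 1) =
      (Pi.single (⟨i + j, by omega⟩ : Fin (m + 1)) 1 : Fin (m + 1) → 𝕃) := by
  induction j generalizing i with
  | zero => rfl
  | succ j ih =>
    rw [Function.iterate_succ_apply, std_single_lt τ d m (by omega), ih (i + 1) (by omega)]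
    have e : (⟨i + 1 + j, by omega⟩ : Fin (m + 1)) = ⟨i + (j + 1), by omega⟩ :=
      Fin.ext (by simp only; omega)
    rw [e]

theorem std_iterate_full (τ : 𝕃 →+* 𝕃) (d : ℤ) (m : ℕ) (i : Fin (m + 1)) :
    (⇑(stdIsoc τ d (m + 1)))^[m + 1] (Pi.single i 1) =
      ((p : 𝕃) ^ d) • (Pi.single i 1 : Fin (m + 1) → 𝕃) := by
  obtain ⟨i, hi⟩ := i
  have key : (⇑(stdIsoc τ d (m + 1)))^[m + 1] =
      (⇑(stdIsoc τ d (m + 1)))^[i] ∘ (⇑(stdIsoc τ d (m + 1))) ∘
        (⇑(stdIsoc τ d (m + 1)))^[m - i] := by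
    rw [← Function.iterate_succ', ← Function.iterate_add]
    congr 1
    omega
  rw [key, Function.comp_apply, Function.comp_apply]
  have h1 := std_iterate_single τ d m (m - i) i (by omega)
  rw [h1]
  have h2 : (⟨i + (m - i), by omega⟩ : Fin (m + 1)) = ⟨m, by omega⟩ := by
    ext; simp only; omega
  rw [h2, std_single_last]
  have h3 : (⇑(stdIsoc τ d (m + 1)))^[i]
      (((p : 𝕃) ^ d) • (Pi.single (⟨0, by omega⟩ : Fin (m + 1)) 1 : Fin (m + 1) → 𝕃)) =
      ((p : 𝕃) ^ d) • (⇑(stdIsoc τ d (m + 1)))^[i]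
        (Pi.single (⟨0, by omega⟩ : Fin (m + 1)) 1 : Fin (m + 1) → 𝕃) := by
    have := (iter (stdIsoc τ d (m + 1)) i).map_smulₛₗ ((p : 𝕃) ^ d)
      (Pi.single (⟨0, by omega⟩ : Fin (m + 1)) 1 : Fin (m + 1) → 𝕃)
    rw [map_p_zpow] at this
    exact this
  rw [h3, std_iterate_single τ d m i 0 (by omega)]
  have e : (⟨0 + i, by omega⟩ : Fin (m + 1)) = ⟨i, hi⟩ := Fin.ext (by simp)
  rw [e]

theorem std_injective (τ : 𝕃 →+* 𝕃) (d : ℤ) (h : ℕ) : Function.Injective (stdIsoc τ d h) := by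
  intro x y hxy
  funext i
  have := congrFun hxy (finRotate h i)
  rw [stdIsoc_apply, stdIsoc_apply, Equiv.symm_apply_apply] at this
  have hc : (if (finRotate h i).val = 0 then (p : 𝕃) ^ d else 1) ≠ 0 := by
    split_ifs
    · exact zpow_ne_zero _ pL_ne_zero
    · exact one_ne_zero
  exact τ.injective (mul_left_cancel₀ hc this)

end std

section std2
variable {p : ℕ} [hp : Fact p.Prime] {k : Type*} [Field k] [CharP k p] [PerfectRing k p]

local notation "𝕎" => WittVector p k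
local notation "𝕃" => FractionRing (WittVector p k)

variable {τ : FractionRing (WittVector p k) →+* FractionRing (WittVector p k)}

/-- the standard lattice `𝕎^h` in `𝕃^h` -/
noncomputable def stdLat (h : ℕ) : Submodule 𝕎 (Fin h → 𝕃) :=
  Submodule.span 𝕎 (Set.range fun i : Fin h => (Pi.single i 1 : Fin h → 𝕃))

theorem stdLat_isLattice (h : ℕ) : (stdLat (p := p) (k := k) h).IsLattice 𝕃 := by
  refine ⟨Submodule.fg_span (Set.finite_range _), ?_⟩
  rw [eq_top_iff, ← (Pi.basisFun 𝕃 (Fin h)).span_eq]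
  apply Submodule.span_mono
  rintro _ ⟨i, rfl⟩
  rw [Pi.basisFun_apply]
  exact Submodule.subset_span ⟨i, rfl⟩

theorem std_latImg (hτ : PresW τ) (d : ℤ) (m : ℕ) :
    latImg (stdIsoc τ d (m + 1)) (m + 1) (stdLat (m + 1)) = pPow d (stdLat (m + 1)) := by
  rw [latImg_eq_img, stdLat, img_span (hτ.pow (m + 1)), pPow, Submodule.smul_span]
  congr 1
  ext y
  simp only [Set.mem_image, Set.mem_range, exists_exists_eq_and, Set.mem_smul_set]
  constructor
  · rintro ⟨i, rfl⟩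
    exact ⟨i, by rw [iter_apply, std_iterate_full]⟩
  · rintro ⟨i, rfl⟩
    exact ⟨i, by rw [iter_apply, std_iterate_full]⟩

theorem std_isIsoc (hτ : PresW τ) (d : ℤ) (h : ℕ) : IsIsoc (stdIsoc τ d h) :=
  ⟨inferInstance, std_injective τ d h,
    surjective_of_injective hτ (Pi.basisFun 𝕃 (Fin h)) _ (std_injective τ d h)⟩

theorem std_isIsoclinic (hτ : PresW τ) (d : ℤ) (m : ℕ) :
    IsIsoclinic (stdIsoc τ d (m + 1)) ((d : ℚ) / ((m + 1 : ℕ) : ℚ)) :=
  ⟨stdLat (m + 1), stdLat_isLattice _, d, m + 1, Nat.succ_pos m, rfl, std_latImg hτ d m⟩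

/-- the determinant order of `F` on an isoclinic isocrystal of slope `μ` is `μ · height` -/
theorem det_of_isIsoclinic {N : Type*} [AddCommGroup N] [Module (WittVector p k) N]
    [Module (FractionRing (WittVector p k)) N]
    [IsScalarTower (WittVector p k) (FractionRing (WittVector p k)) N]
    (hτ : PresW τ) (F : N →ₛₗ[τ] N) {n : ℕ} (b : Basis (Fin n) 𝕃 N) {d : ℤ}
    (hd : IsOrdP (detCoeff b F) d) {μ : ℚ} (hμ : IsIsoclinic F μ) : (d : ℚ) = μ * n := by
  obtain ⟨M, hM, r, s, hs, hrs, hFM⟩ := hμ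
  have h1 := det_eq_of_latImg_eq hτ F b hd hM hFM
  have hs' : (s : ℚ) ≠ 0 := by exact_mod_cast hs.ne'
  have h2 : ((r * n : ℤ) : ℚ) = ((s * d : ℤ) : ℚ) := by rw [h1]
  push_cast at h2
  rw [← hrs]
  field_simp
  linarith

/-- the standard isocrystal is simple -/
theorem std_simple (hτ : PresW τ) (d : ℤ) (h : ℕ) (hh : 0 < h) (hdh : Int.gcd d h = 1)
    (P : Submodule 𝕃 (Fin h → 𝕃)) (hP : ∀ x ∈ P, stdIsoc τ d h x ∈ P) : P = ⊥ ∨ P = ⊤ := by
  obtain ⟨m, rfl⟩ : ∃ m, h = m + 1 := ⟨h - 1, by omega⟩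
  have hiso := isIsoclinic_restrict hτ (std_isIsoc hτ d (m + 1)) (std_isIsoclinic hτ d m) P hP
  have hisoc := isIsoc_restrict hτ (std_isIsoc hτ d (m + 1)) P hP
  let bP := Module.finBasis 𝕃 P
  obtain ⟨d', hd'⟩ := exists_ordP_detCoeff hτ bP _ hisoc.bijective.1
  have h1 := det_of_isIsoclinic hτ _ bP hd' hiso
  -- `d' * (m+1) = d * finrank P`
  have h2 : d' * ((m + 1 : ℕ) : ℤ) = d * (Module.finrank 𝕃 P : ℤ) := by
    have hm : (((m + 1 : ℕ) : ℤ) : ℚ) ≠ 0 := by positivity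
    have : ((d' * ((m + 1 : ℕ) : ℤ) : ℤ) : ℚ) = ((d * (Module.finrank 𝕃 P : ℤ) : ℤ) : ℚ) := by
      push_cast
      rw [h1]
      field_simp
      push_cast
      ring
    exact_mod_cast this
  have h3 : ((m + 1 : ℕ) : ℤ) ∣ (Module.finrank 𝕃 P : ℤ) := by
    have h4 : ((m + 1 : ℕ) : ℤ) ∣ d * (Module.finrank 𝕃 P : ℤ) := ⟨d', by rw [← h2]; ring⟩
    have hcop : IsCoprime ((m + 1 : ℕ) : ℤ) d := by
      rw [Int.isCoprime_iff_gcd_eq_one, Int.gcd_comm]
      exact hdh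
    exact hcop.dvd_of_dvd_mul_left h4
  have h5 : Module.finrank 𝕃 P ≤ m + 1 := by
    have := Submodule.finrank_le P
    simpa using this
  have h6 : (m + 1) ∣ Module.finrank 𝕃 P := by exact_mod_cast h3
  rcases Nat.eq_zero_or_pos (Module.finrank 𝕃 P) with h0 | hpos
  · left
    exact Submodule.finrank_eq_zero.mp h0
  · right
    have : Module.finrank 𝕃 P = m + 1 := le_antisymm h5 (Nat.le_of_dvd hpos h6)
    apply Submodule.eq_top_of_finrank_eq
    rw [this]
    simp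

end std2

end Helper5.IsocLib
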