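import Mathlib
import Groth.Prelude.Def_Isoc
import Groth.Agent.Lib.Helper5.Isoc.Indep
import Groth.Agent.Lib.Helper5.Isoc.Std

set_option autoImplicit false
set_option linter.unusedSectionVars false

universe u v

namespace Helper5.IsocLib
open Isoc Module Filter Topology
open scoped Pointwise

theorem det_blockDiagonal'_aux {α : Type*} [Fintype α] [DecidableEq α] [LinearOrder α]
    {m' : α → Type*} [∀ i, Fintype (m' i)] [∀ i, DecidableEq (m' i)] {R : Type*} [CommRing R]
    (d : ∀ i, Matrix (m' i) (m' i) R) :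
    (Matrix.blockDiagonal' d).det = ∏ i, (d i).det := by
  rw [(Matrix.blockTriangular_blockDiagonal' d).det_fintype]
  refine Finset.prod_congr rfl fun k _ => ?_
  have h1 : Matrix.toSquareBlock (Matrix.blockDiagonal' d) Sigma.fst k =
      (d k).submatrix (Equiv.sigmaSubtype k) (Equiv.sigmaSubtype k) := by
    ext ⟨⟨i, x⟩, hi⟩ ⟨⟨j, y⟩, hj⟩
    simp only at hi hj
    subst hi
    subst hj
    rw [Matrix.toSquareBlock_def, Matrix.of_apply, Matrix.submatrix_apply]
    simp [Matrix.blockDiagonal'_apply_eq]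
  rw [h1, Matrix.det_submatrix_equiv_self]

section newton
variable {p : ℕ} [hp : Fact p.Prime] {k : Type u} [Field k] [CharP k p] [PerfectRing k p]

local notation "𝕎" => WittVector p k
local notation "𝕃" => FractionRing (WittVector p k)

variable {N : Type v} [AddCommGroup N] [Module (WittVector p k) N]
  [Module (FractionRing (WittVector p k)) N]
  [IsScalarTower (WittVector p k) (FractionRing (WittVector p k)) N]
variable {τ : FractionRing (WittVector p k) →+* FractionRing (WittVector p k)}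

theorem detCoeff_collected {ι : Type*} [Fintype ι] [DecidableEq ι] [LinearOrder ι]
    (A : ι → Submodule 𝕃 N) (hA : DirectSum.IsInternal A) (F : N →ₛₗ[τ] N)
    (hst : ∀ i, ∀ x ∈ A i, F x ∈ A i) (d : ι → ℕ) (v : ∀ i, Basis (Fin (d i)) 𝕃 (A i))
    {n : ℕ} (e : (Σ i, Fin (d i)) ≃ Fin n) :
    detCoeff ((hA.collectedBasis v).reindex e) F =
      ∏ i, detCoeff (v i) (F.restrict (hst i)) := by
  unfold detCoeff
  rw [← det_blockDiagonal'_aux]
  have h1 : (Matrix.of fun i j => ((hA.collectedBasis v).reindex e).repr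
      (F (((hA.collectedBasis v).reindex e) j)) i) =
      (Matrix.blockDiagonal' fun i => Matrix.of fun a c =>
        (v i).repr ((F.restrict (hst i)) (v i c)) a).submatrix e.symm e.symm := by
    ext i j
    rw [Matrix.of_apply, Matrix.submatrix_apply, Basis.reindex_apply, Basis.repr_reindex_apply]
    obtain ⟨i₁, a⟩ := e.symm i
    obtain ⟨j₁, c⟩ := e.symm j
    have hmem : F ((hA.collectedBasis v) ⟨j₁, c⟩) ∈ A j₁ :=
      hst j₁ _ (hA.collectedBasis_mem v ⟨j₁, c⟩)
    by_cases hij : j₁ = i₁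
    · subst hij
      rw [Matrix.blockDiagonal'_apply_eq, Matrix.of_apply,
        hA.collectedBasis_repr_of_mem v hmem]
      congr 2
      apply Subtype.ext
      simp [hA.collectedBasis_coe]
    · rw [Matrix.blockDiagonal'_apply_ne _ _ _ (Ne.symm hij),
        hA.collectedBasis_repr_of_mem_ne v hij hmem]
  rw [h1, Matrix.det_submatrix_equiv_self]

theorem finsum_newton (hτ : PresW τ) {F : N →ₛₗ[τ] N} (hF : IsIsoc F) {h : ℕ}
    (b : Basis (Fin h) 𝕃 N) {d : ℤ} (hd : IsOrdP (detCoeff b F) d) :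
    ∑ᶠ μ : ℚ, μ * (newtonMult F μ : ℚ) = d := by
  classical
  have hfinN := hF.finite
  have hInt := isInternal_slopePart hτ hF
  have hindep := iSupIndep_slopePart hτ hF
  have hfin : {μ : ℚ | slopePart F μ ≠ ⊥}.Finite :=
    WellFoundedGT.finite_ne_bot_of_iSupIndep hindep
  have hft : Fintype {μ : ℚ // slopePart F μ ≠ ⊥} := hfin.fintype
  let hft' : Fintype {μ : ℚ | slopePart F μ ≠ ⊥} := hft
  have hInt' : DirectSum.IsInternal (fun i : {μ : ℚ // slopePart F μ ≠ ⊥} => slopePart F i) :=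
    DirectSum.isInternal_ne_bot_iff.mpr hInt
  have hst : ∀ i : {μ : ℚ // slopePart F μ ≠ ⊥}, ∀ x ∈ slopePart F i, F x ∈ slopePart F i :=
    fun i => (slopePart_isoclinic hτ hF i).1
  let v : ∀ i : {μ : ℚ // slopePart F μ ≠ ⊥}, Basis (Fin (newtonMult F i)) 𝕃 (slopePart F i) :=
    fun i => Module.finBasisOfFinrankEq 𝕃 _ rfl
  have hex : ∀ i : {μ : ℚ // slopePart F μ ≠ ⊥}, ∃ δ : ℤ,
      IsOrdP (detCoeff (v i) (F.restrict (hst i))) δ := fun i =>
    exists_ordP_detCoeff hτ (v i) _ (isIsoc_restrict hτ hF _ (hst i)).bijective.1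
  choose δ hδ using hex
  have hδ' : ∀ i : {μ : ℚ // slopePart F μ ≠ ⊥}, (δ i : ℚ) = (i : ℚ) * newtonMult F i :=
    fun i => det_of_isIsoclinic hτ _ (v i) (hδ i) (slopePart_isoclinic hτ hF i).2
  have hcard : Fintype.card (Σ i : {μ : ℚ // slopePart F μ ≠ ⊥}, Fin (newtonMult F i)) = h := by
    rw [← Module.finrank_eq_card_basis (hInt'.collectedBasis v), Module.finrank_eq_card_basis b,
      Fintype.card_fin]
  let e : (Σ i : {μ : ℚ // slopePart F μ ≠ ⊥}, Fin (newtonMult F i)) ≃ Fin h :=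
    Fintype.equivFinOfCardEq hcard
  have h1 := detCoeff_collected (fun i : {μ : ℚ // slopePart F μ ≠ ⊥} => slopePart F i) hInt' F
    hst (fun i => newtonMult F i) v e
  have h2 : IsOrdP (detCoeff ((hInt'.collectedBasis v).reindex e) F) (∑ i, δ i) := by
    rw [h1]
    exact ordP_prod _ _ _ (fun i _ => hδ i)
  have h3 := ordP_detCoeff_indep hτ _ b F h2
  have h4 : d = ∑ i, δ i := ordP_unique hd h3
  rw [h4]
  push_cast
  rw [finsum_eq_sum_of_support_subset (s := hfin.toFinset)]
  · rw [← Finset.sum_coe_sort]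
    symm
    refine Fintype.sum_equiv hfin.subtypeEquivToFinset (fun i => (δ i : ℚ))
      (fun i : hfin.toFinset => (i : ℚ) * (newtonMult F i : ℚ)) (fun i => ?_)
    rw [hδ']
    rfl
  · intro μ hμ
    rw [Function.mem_support] at hμ
    rw [Set.Finite.coe_toFinset, Set.mem_ofPred_eq]
    intro hbot
    apply hμ
    rw [newtonMult, hbot, finrank_bot]
    simp

end newton

end Helper5.IsocLib
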