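import Mathlib

set_option autoImplicit false
set_option linter.unusedSectionVars false

namespace Helper5.LangLib
open Polynomial

section dep
variable {k : Type*} [Field k] {V : Type*} [AddCommGroup V] [Module k V] [FiniteDimensional k V]

theorem exists_dep (f : ℕ → V) :
    ∃ r, ∃ c : ℕ → k, f r = ∑ i ∈ Finset.range r, c i • f i := by
  by_contra h
  push Not at h
  have hli : ∀ r, LinearIndependent k (fun i : Fin r => f i) := by
    intro r
    induction r with
    | zero => exact linearIndependent_empty_type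
    | succ r ih =>
      have e : (fun i : Fin (r + 1) => f i) = Fin.snoc (fun i : Fin r => f i) (f r) := by
        funext i
        refine Fin.lastCases ?_ (fun j => ?_) i
        · simp
        · simp
      rw [e, linearIndependent_finSnoc]
      refine ⟨ih, fun hmem => ?_⟩
      obtain ⟨c', hc'⟩ := (Submodule.mem_span_range_iff_exists_fun k).mp hmem
      apply h r (fun i => if h : i < r then c' ⟨i, h⟩ else 0)
      rw [← hc', ← Fin.sum_univ_eq_sum_range (fun i => (if h : i < r then c' ⟨i, h⟩ else 0) • f i)]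
      refine Finset.sum_congr rfl (fun i _ => ?_)
      rw [dif_pos i.2]
  have := (hli (Module.finrank k V + 1)).fintype_card_le_finrank
  rw [Fintype.card_fin] at this
  omega

end dep

section basic
variable {k : Type*} [Field k] [IsAlgClosed k] {p : ℕ} [hp : Fact p.Prime] [CharP k p]

theorem two_le_q {n : ℕ} (hn : 0 < n) : 2 ≤ p ^ n :=
  calc 2 ≤ p := hp.out.two_le
    _ = p ^ 1 := (pow_one p).symm
    _ ≤ p ^ n := Nat.pow_le_pow_right hp.out.pos hn

/-- a "linearized" polynomial recursion has a nonzero root -/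
theorem exists_root_rec {n : ℕ} (hn : 0 < n) (c : ℕ → k) (hc0 : c 0 ≠ 0) (r : ℕ) :
    ∃ (t : k) (x : ℕ → k), t ≠ 0 ∧ x 0 = c 0 * t ^ (p ^ n) ∧
      (∀ i, x (i + 1) = (x i) ^ (p ^ n) + c (i + 1) * t ^ (p ^ n)) ∧ x r = t := by
  have hq : 2 ≤ p ^ n := two_le_q hn
  classical
  have hq0 : ((p ^ n : ℕ) : k) = 0 := by
    rw [CharP.cast_eq_zero_iff k p]
    exact dvd_pow_self p hn.ne'
  let P : ℕ → k[X] := fun i =>
    Nat.rec (C (c 0) * X ^ (p ^ n)) (fun i Pi => Pi ^ (p ^ n) + C (c (i + 1)) * X ^ (p ^ n)) i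
  have hP0 : P 0 = C (c 0) * X ^ (p ^ n) := rfl
  have hPs : ∀ i, P (i + 1) = (P i) ^ (p ^ n) + C (c (i + 1)) * X ^ (p ^ n) := fun i => rfl
  have hder : ∀ i, derivative (P i) = 0 := by
    intro i
    induction i with
    | zero =>
      rw [hP0, derivative_mul, derivative_C, derivative_X_pow, hq0]
      simp
    | succ i _ =>
      rw [hPs, derivative_add, derivative_pow, derivative_mul, derivative_C, derivative_X_pow, hq0]
      simp
  have hdeg : ∀ i, natDegree (P i) = (p ^ n) ^ (i + 1) := by
    intro i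
    induction i with
    | zero => rw [hP0, natDegree_C_mul_X_pow _ _ hc0, pow_one]
    | succ i ih =>
      have h1 : natDegree ((P i) ^ (p ^ n)) = (p ^ n) ^ (i + 2) := by
        rw [natDegree_pow, ih]; ring
      have h2 : natDegree (C (c (i + 1)) * X ^ (p ^ n) : k[X]) < natDegree ((P i) ^ (p ^ n)) := by
        rw [h1]
        calc natDegree (C (c (i + 1)) * X ^ (p ^ n) : k[X]) ≤ p ^ n := natDegree_C_mul_X_pow_le _ _
          _ = (p ^ n) ^ 1 := (pow_one _).symm
          _ < (p ^ n) ^ (i + 2) := Nat.pow_lt_pow_right (by omega) (by omega)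
      rw [hPs, natDegree_add_eq_left_of_natDegree_lt h2, h1]
  have hQdeg : natDegree (P r - X) = (p ^ n) ^ (r + 1) := by
    have h1 : natDegree (X : k[X]) < natDegree (P r) := by
      rw [hdeg, natDegree_X]
      calc 1 < p ^ n := by omega
        _ = (p ^ n) ^ 1 := (pow_one _).symm
        _ ≤ (p ^ n) ^ (r + 1) := Nat.pow_le_pow_right (by omega) (by omega)
    rw [natDegree_sub_eq_left_of_natDegree_lt h1, hdeg]
  have hsep : (P r - X).Separable := by
    rw [separable_def, derivative_sub, hder, derivative_X, zero_sub]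
    exact isCoprime_one_right.neg_right
  have hcard : Multiset.card (P r - X).roots = (p ^ n) ^ (r + 1) := by
    rw [IsAlgClosed.card_roots_eq_natDegree, hQdeg]
  have hne0 : P r - X ≠ 0 := by
    intro h
    rw [h, natDegree_zero] at hQdeg
    have : 0 < (p ^ n) ^ (r + 1) := Nat.pow_pos (by omega)
    omega
  obtain ⟨t, ht, ht0⟩ : ∃ t ∈ (P r - X).roots, t ≠ 0 := by
    by_contra hcon
    push Not at hcon
    have h1 : (P r - X).roots.toFinset ⊆ {0} := by
      intro t ht
      rw [Multiset.mem_toFinset] at ht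
      rw [Finset.mem_singleton]
      exact hcon t ht
    have h2 := Finset.card_le_card h1
    rw [Multiset.toFinset_card_of_nodup (nodup_roots hsep), hcard, Finset.card_singleton] at h2
    have : (p ^ n) ^ 1 ≤ (p ^ n) ^ (r + 1) := Nat.pow_le_pow_right (by omega) (by omega)
    rw [pow_one] at this
    omega
  refine ⟨t, fun i => eval t (P i), ht0, ?_, ?_, ?_⟩
  · simp only [hP0, eval_mul, eval_C, eval_pow, eval_X]
  · intro i
    simp only [hPs, eval_add, eval_mul, eval_C, eval_pow, eval_X]
  · rw [mem_roots hne0, IsRoot.def, eval_sub, eval_X, sub_eq_zero] at ht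
    exact ht

theorem exists_AS {n : ℕ} (hn : 0 < n) (d : k) : ∃ t : k, t ^ (p ^ n) - t = d := by
  have hq : 2 ≤ p ^ n := two_le_q hn
  have hdeg : (X ^ (p ^ n) - (X + C d) : k[X]).degree ≠ 0 := by
    have h1 : (X + C d : k[X]).degree < (X ^ (p ^ n) : k[X]).degree := by
      rw [degree_X_pow]
      calc (X + C d : k[X]).degree ≤ 1 := by
            refine (degree_add_le _ _).trans (max_le degree_X_le ?_)
            exact degree_C_le.trans zero_le_one
        _ < ((p ^ n : ℕ) : WithBot ℕ) := by exact_mod_cast hq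
    rw [degree_sub_eq_left_of_degree_lt h1, degree_X_pow]
    intro h
    have : ((p ^ n : ℕ) : WithBot ℕ) = ((0 : ℕ) : WithBot ℕ) := h
    have h2 : p ^ n = 0 := by exact_mod_cast this
    omega
  obtain ⟨t, ht⟩ := IsAlgClosed.exists_root _ hdeg
  refine ⟨t, ?_⟩
  simp only [IsRoot.def, eval_sub, eval_pow, eval_X, eval_add, eval_C] at ht
  linear_combination ht


variable [PerfectRing k p] {V : Type*} [AddCommGroup V] [Module k V] [FiniteDimensional k V]

theorem exists_fixed_ne_zero [Nontrivial V] {n : ℕ} (hn : 0 < n)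
    (φ : V →ₛₗ[iterateFrobenius k p n] V) (hφ : Function.Injective φ) :
    ∃ v, v ≠ 0 ∧ φ v = v := by
  classical
  obtain ⟨v, hv⟩ := exists_ne (0 : V)
  have hex := exists_dep (k := k) (fun i => (⇑φ)^[i] v)
  obtain ⟨c, hc⟩ := Nat.find_spec hex
  have hmin : ∀ r' < Nat.find hex, ∀ c' : ℕ → k,
      (⇑φ)^[r'] v ≠ ∑ i ∈ Finset.range r', c' i • (⇑φ)^[i] v := by
    intro r' hr' c' h
    exact Nat.find_min hex hr' ⟨c', h⟩
  have hr0 : Nat.find hex ≠ 0 := by
    intro h0
    rw [h0] at hc
    simp only [Function.iterate_zero, id_eq, Finset.range_zero, Finset.sum_empty] at hc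
    exact hv hc
  obtain ⟨r', hr'⟩ := Nat.exists_eq_succ_of_ne_zero hr0
  rw [hr'] at hc hmin
  -- `c 0 ≠ 0`
  have hc0 : c 0 ≠ 0 := by
    intro h0
    rw [Finset.sum_range_succ', h0, zero_smul, add_zero] at hc
    have hd : ∀ i, ∃ d : k, d ^ (p ^ n) = c (i + 1) := by
      intro i
      obtain ⟨d, hd⟩ := (iterateFrobeniusEquiv k p n).surjective (c (i + 1))
      exact ⟨d, by rw [← hd]; rfl⟩
    choose d hd using hd
    have h1 : φ ((⇑φ)^[r'] v) = φ (∑ i ∈ Finset.range r', d i • (⇑φ)^[i] v) := by
      rw [← Function.iterate_succ_apply' (⇑φ) r' v, hc, map_sum]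
      refine Finset.sum_congr rfl (fun i _ => ?_)
      rw [map_smulₛₗ, iterateFrobenius_def, hd, Function.iterate_succ_apply']
    exact hmin r' (Nat.lt_succ_self r') d (hφ h1)
  obtain ⟨t, x, ht0, hx0, hxs, hxr⟩ := exists_root_rec (p := p) hn c hc0 r'
  refine ⟨∑ i ∈ Finset.range (r' + 1), x i • (⇑φ)^[i] v, ?_, ?_⟩
  · intro hw
    rw [Finset.sum_range_succ, hxr] at hw
    apply hmin r' (Nat.lt_succ_self r') (fun i => -(x i) / t)
    have h2 : t • (⇑φ)^[r'] v = -∑ i ∈ Finset.range r', x i • (⇑φ)^[i] v :=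
      eq_neg_of_add_eq_zero_right hw
    calc (⇑φ)^[r'] v = t⁻¹ • (t • (⇑φ)^[r'] v) := by
          rw [smul_smul, inv_mul_cancel₀ ht0, one_smul]
      _ = ∑ i ∈ Finset.range r', (-(x i) / t) • (⇑φ)^[i] v := by
          rw [h2, ← Finset.sum_neg_distrib, Finset.smul_sum]
          refine Finset.sum_congr rfl (fun i _ => ?_)
          rw [← neg_smul, smul_smul]
          congr 1
          field_simp
  · have e1 : φ (∑ i ∈ Finset.range (r' + 1), x i • (⇑φ)^[i] v) =
        ∑ i ∈ Finset.range (r' + 1), (x i) ^ (p ^ n) • (⇑φ)^[i + 1] v := by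
      rw [map_sum]
      refine Finset.sum_congr rfl (fun i _ => ?_)
      rw [map_smulₛₗ, iterateFrobenius_def, Function.iterate_succ_apply']
    rw [e1, Finset.sum_range_succ, hxr, hc, Finset.sum_range_succ' (fun i => x i • (⇑φ)^[i] v),
      Finset.sum_range_succ' (fun i => c i • (⇑φ)^[i] v), hx0]
    simp only [hxs, add_smul, Finset.sum_add_distrib, smul_add, Finset.smul_sum, smul_smul,
      Function.iterate_zero, id_eq]
    rw [add_assoc]
    congr 2
    · refine Finset.sum_congr rfl (fun i _ => ?_)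
      rw [mul_comm]
    · rw [mul_comm]


theorem sub_one_surjective_on_span {n : ℕ} (hn : 0 < n) (φ : V →ₛₗ[iterateFrobenius k p n] V) :
    ∀ u ∈ Submodule.span k {v | φ v = v}, ∀ c : k,
      ∃ w ∈ Submodule.span k {v | φ v = v}, φ w - w = c • u := by
  intro u hu
  induction hu using Submodule.span_induction with
  | mem v hv =>
    intro c
    obtain ⟨t, ht⟩ := exists_AS (p := p) hn c
    refine ⟨t • v, Submodule.smul_mem _ _ (Submodule.subset_span hv), ?_⟩
    have hv' : φ v = v := hv
    rw [map_smulₛₗ, iterateFrobenius_def, hv', ← sub_smul, ht]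
  | zero =>
    intro c
    exact ⟨0, Submodule.zero_mem _, by simp⟩
  | add a b _ _ iha ihb =>
    intro c
    obtain ⟨wa, hwa, ha⟩ := iha c
    obtain ⟨wb, hwb, hb⟩ := ihb c
    refine ⟨wa + wb, Submodule.add_mem _ hwa hwb, ?_⟩
    rw [map_add, smul_add, ← ha, ← hb]
    abel
  | smul d a _ iha =>
    intro c
    obtain ⟨w, hw, h⟩ := iha (c * d)
    exact ⟨w, hw, by rw [h, mul_smul]⟩

theorem span_fixed_eq_top {n : ℕ} (hn : 0 < n) (φ : V →ₛₗ[iterateFrobenius k p n] V)
    (hφ : Function.Injective φ) : Submodule.span k {v | φ v = v} = ⊤ := by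
  by_contra hU
  have hnt : Nontrivial (V ⧸ Submodule.span k {v | φ v = v}) :=
    Submodule.Quotient.nontrivial_iff.mpr hU
  have hst : Submodule.span k {v | φ v = v} ≤ (Submodule.span k {v | φ v = v}).comap φ := by
    intro u hu
    rw [Submodule.mem_comap]
    induction hu using Submodule.span_induction with
    | mem v hv =>
      have hv' : φ v = v := hv
      rw [hv']
      exact Submodule.subset_span hv
    | zero => rw [map_zero]; exact Submodule.zero_mem _
    | add a b _ _ iha ihb => rw [map_add]; exact Submodule.add_mem _ iha ihb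
    | smul d a _ iha => rw [map_smulₛₗ]; exact Submodule.smul_mem _ _ iha
  have hsurj : ∀ u ∈ Submodule.span k {v | φ v = v},
      ∃ u' ∈ Submodule.span k {v | φ v = v}, φ u' = u := by
    intro u hu
    induction hu using Submodule.span_induction with
    | mem v hv => exact ⟨v, Submodule.subset_span hv, hv⟩
    | zero => exact ⟨0, Submodule.zero_mem _, map_zero _⟩
    | add a b _ _ iha ihb =>
      obtain ⟨a', ha', ha⟩ := iha
      obtain ⟨b', hb', hb⟩ := ihb
      exact ⟨a' + b', Submodule.add_mem _ ha' hb', by rw [map_add, ha, hb]⟩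
    | smul d a _ iha =>
      obtain ⟨a', ha', ha⟩ := iha
      obtain ⟨e, he⟩ := (iterateFrobeniusEquiv k p n).surjective d
      refine ⟨e • a', Submodule.smul_mem _ _ ha', ?_⟩
      rw [map_smulₛₗ, ha, ← he]
      rfl
  have hinj : Function.Injective
      ((Submodule.span k {v | φ v = v}).mapQ (Submodule.span k {v | φ v = v}) φ hst) := by
    rw [← LinearMap.ker_eq_bot, eq_bot_iff]
    intro x hx
    induction x using Submodule.Quotient.induction_on with
    | H x =>
      rw [LinearMap.mem_ker, Submodule.mapQ_apply, Submodule.Quotient.mk_eq_zero] at hx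
      obtain ⟨u', hu', hu⟩ := hsurj _ hx
      have : u' = x := hφ hu
      rw [Submodule.mem_bot, Submodule.Quotient.mk_eq_zero, ← this]
      exact hu'
  obtain ⟨w, hw0, hw⟩ := exists_fixed_ne_zero hn _ hinj
  induction w using Submodule.Quotient.induction_on with
  | H w =>
    rw [Submodule.mapQ_apply, ← sub_eq_zero, ← Submodule.Quotient.mk_sub,
      Submodule.Quotient.mk_eq_zero] at hw
    obtain ⟨u', hu', hu⟩ := sub_one_surjective_on_span hn φ _ hw (-1)
    have hfix : φ (w + u') = w + u' := by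
      rw [map_add, ← sub_eq_zero]
      have : φ w + φ u' - (w + u') = (φ w - w) + (φ u' - u') := by abel
      rw [this, hu]
      simp
    have hmem : w + u' ∈ Submodule.span k {v | φ v = v} := Submodule.subset_span hfix
    have hwU : w ∈ Submodule.span k {v | φ v = v} := by
      have := Submodule.sub_mem _ hmem hu'
      simpa using this
    exact hw0 ((Submodule.Quotient.mk_eq_zero _).mpr hwU)

theorem sub_one_surjective {n : ℕ} (hn : 0 < n) (φ : V →ₛₗ[iterateFrobenius k p n] V)
    (hφ : Function.Injective φ) (u : V) : ∃ w, φ w - w = u := by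
  have hu : u ∈ Submodule.span k {v | φ v = v} := by
    rw [span_fixed_eq_top hn φ hφ]; exact Submodule.mem_top
  obtain ⟨w, -, hw⟩ := sub_one_surjective_on_span hn φ u hu 1
  exact ⟨w, by rw [hw, one_smul]⟩


/-- inverse of a bijective semilinear map whose twist is an inverse Frobenius power -/
noncomputable def invSemilinear {θ : k →+* k} {n : ℕ} (hθ : ∀ c, (θ c) ^ (p ^ n) = c)
    (φ : V →ₛₗ[θ] V) (hφ : Function.Bijective φ) : V →ₛₗ[iterateFrobenius k p n] V where
  toFun := (Equiv.ofBijective φ hφ).symm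
  map_add' x y := by
    apply hφ.1
    have h1 : ∀ z, φ ((Equiv.ofBijective φ hφ).symm z) = z :=
      fun z => (Equiv.ofBijective φ hφ).apply_symm_apply z
    rw [h1, φ.map_add, h1, h1]
  map_smul' c x := by
    apply hφ.1
    have h1 : ∀ z, φ ((Equiv.ofBijective φ hφ).symm z) = z :=
      fun z => (Equiv.ofBijective φ hφ).apply_symm_apply z
    rw [h1, map_smulₛₗ, h1, iterateFrobenius_def, map_pow, hθ]

theorem invSemilinear_apply {θ : k →+* k} {n : ℕ} (hθ : ∀ c, (θ c) ^ (p ^ n) = c)
    (φ : V →ₛₗ[θ] V) (hφ : Function.Bijective φ) (x : V) :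
    φ (invSemilinear hθ φ hφ x) = x :=
  (Equiv.ofBijective φ hφ).apply_symm_apply x

theorem invSemilinear_apply' {θ : k →+* k} {n : ℕ} (hθ : ∀ c, (θ c) ^ (p ^ n) = c)
    (φ : V →ₛₗ[θ] V) (hφ : Function.Bijective φ) (x : V) :
    invSemilinear hθ φ hφ (φ x) = x :=
  (Equiv.ofBijective φ hφ).symm_apply_apply x

/-- Lang's theorem for semilinear bijections (both signs of the Frobenius power) -/
theorem lang {θ : k →+* k} {n : ℕ} (hn : 0 < n)
    (hθ : (∀ c, θ c = c ^ (p ^ n)) ∨ (∀ c, (θ c) ^ (p ^ n) = c))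
    (φ : V →ₛₗ[θ] V) (hφ : Function.Bijective φ) :
    Submodule.span k {v | φ v = v} = ⊤ ∧ ∀ u, ∃ w, φ w - w = u := by
  rcases hθ with h | h
  · obtain rfl : θ = iterateFrobenius k p n :=
      RingHom.ext (fun c => by rw [h, iterateFrobenius_def])
    exact ⟨span_fixed_eq_top hn φ hφ.1, sub_one_surjective hn φ hφ.1⟩
  · have hψinj : Function.Injective (invSemilinear h φ hφ) := by
      intro x y hxy
      have := congrArg φ hxy
      rwa [invSemilinear_apply, invSemilinear_apply] at this
    have hfix : {v | φ v = v} = {v | invSemilinear h φ hφ v = v} := by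
      ext v
      simp only [Set.mem_ofPred_eq]
      constructor
      · intro hv
        conv_lhs => rw [← hv]
        exact invSemilinear_apply' h φ hφ v
      · intro hv
        conv_lhs => rw [← hv]
        exact invSemilinear_apply h φ hφ v
    refine ⟨?_, ?_⟩
    · rw [hfix]
      exact span_fixed_eq_top hn _ hψinj
    · intro u
      obtain ⟨x, hx⟩ := sub_one_surjective hn _ hψinj (-u)
      refine ⟨invSemilinear h φ hφ x, ?_⟩
      rw [invSemilinear_apply]
      have : x - invSemilinear h φ hφ x = -(invSemilinear h φ hφ x - x) := by abel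
      rw [this, hx, neg_neg]

end basic

end Helper5.LangLib
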