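import Mathlib
import Groth.Agent.Lib.Helper5.Isoc.Lang
import Groth.Agent.Lib.Helper5.Isoc.Complete

set_option autoImplicit false
set_option linter.unusedSectionVars false

namespace Helper5.LangLib

section witt
variable {p : ℕ} [hp : Fact p.Prime] {k : Type*} [Field k] [CharP k p] [PerfectRing k p]

local notation "𝕎" => WittVector p k

theorem dvd_of_coeff_zero {w : 𝕎} (h : w.coeff 0 = 0) : (p : 𝕎) ∣ w := by
  rw [← Ideal.mem_span_singleton, WittVector.mem_span_p_iff_coeff_zero_eq_zero]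
  exact h

theorem coeff_zero_of_dvd {w : 𝕎} (h : (p : 𝕎) ∣ w) : w.coeff 0 = 0 := by
  rw [← Ideal.mem_span_singleton, WittVector.mem_span_p_iff_coeff_zero_eq_zero] at h
  exact h

theorem eq_zero_of_forall_dvd {x : 𝕎} (h : ∀ j : ℕ, (p : 𝕎) ^ j ∣ x) : x = 0 := by
  ext m
  have h1 : x ∈ Ideal.span {((p : 𝕎) ^ (m + 1))} := Ideal.mem_span_singleton.mpr (h (m + 1))
  rw [WittVector.mem_span_p_pow_iff_le_coeff_eq_zero] at h1
  rw [WittVector.zero_coeff]
  exact h1 m (Nat.lt_succ_self m)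

theorem coeff_zero_frobeniusEquiv_zpow (b : ℤ) (w : 𝕎) :
    (((WittVector.frobeniusEquiv p k) ^ b) w).coeff 0 =
      ((_root_.frobeniusEquiv k p) ^ b) (w.coeff 0) := by
  induction b using Int.induction_on generalizing w with
  | zero => simp
  | succ i ih =>
    rw [zpow_add_one, zpow_add_one, RingAut.mul_apply, RingAut.mul_apply, ih,
      WittVector.frobeniusEquiv_apply, WittVector.coeff_frobenius_charP]
    rfl
  | pred i ih =>
    rw [zpow_sub_one, zpow_sub_one, RingAut.mul_apply, RingAut.mul_apply, ih]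
    congr 1

theorem frobeniusEquiv_pow_apply (m : ℕ) (c : k) :
    ((_root_.frobeniusEquiv k p) ^ m) c = c ^ (p ^ m) := by
  induction m generalizing c with
  | zero => simp
  | succ m ih =>
    rw [pow_succ, RingAut.mul_apply, ih, pow_succ, pow_mul]
    have : (_root_.frobeniusEquiv k p) c = c ^ p := rfl
    rw [this, ← pow_mul, ← pow_mul, mul_comm]

/-- the twist on `k` induced by `frobeniusEquiv ^ b` is a Frobenius power or its inverse -/
theorem frobeniusEquiv_zpow_cases (b : ℤ) (hb : b ≠ 0) :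
    ∃ n : ℕ, 0 < n ∧ ((∀ c : k, ((_root_.frobeniusEquiv k p) ^ b) c = c ^ (p ^ n)) ∨
      (∀ c : k, (((_root_.frobeniusEquiv k p) ^ b) c) ^ (p ^ n) = c)) := by
  rcases lt_or_gt_of_ne hb with h | h
  · obtain ⟨m, rfl⟩ : ∃ m : ℕ, b = -(m : ℤ) := ⟨(-b).toNat, by omega⟩
    refine ⟨m, by omega, Or.inr fun c => ?_⟩
    rw [← frobeniusEquiv_pow_apply (p := p) m, zpow_neg, zpow_natCast]
    exact RingEquiv.apply_symm_apply ((_root_.frobeniusEquiv k p) ^ m) c
  · obtain ⟨m, rfl⟩ : ∃ m : ℕ, b = (m : ℤ) := ⟨b.toNat, by omega⟩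
    refine ⟨m, by omega, Or.inl fun c => ?_⟩
    rw [zpow_natCast, frobeniusEquiv_pow_apply]

end witt


section lift
variable {p : ℕ} [hp : Fact p.Prime] {k : Type*} [Field k] [CharP k p] [PerfectRing k p]

local notation "𝕎" => WittVector p k

variable {n : ℕ}

/-- the semilinear operator `w ↦ A · ε(w)` on `𝕎^n` -/
noncomputable def Gam (A : Matrix (Fin n) (Fin n) (WittVector p k)) (ε : WittVector p k ≃+* WittVector p k)
    (w : Fin n → WittVector p k) : Fin n → WittVector p k :=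
  A.mulVec (fun j => ε (w j))

theorem Gam_add (A : Matrix (Fin n) (Fin n) 𝕎) (ε : 𝕎 ≃+* 𝕎) (w w' : Fin n → 𝕎) :
    Gam A ε (w + w') = Gam A ε w + Gam A ε w' := by
  unfold Gam
  rw [← Matrix.mulVec_add]
  congr 1
  funext j
  simp

theorem Gam_sub (A : Matrix (Fin n) (Fin n) 𝕎) (ε : 𝕎 ≃+* 𝕎) (w w' : Fin n → 𝕎) :
    Gam A ε (w - w') = Gam A ε w - Gam A ε w' := by
  unfold Gam
  rw [← Matrix.mulVec_sub]
  congr 1
  funext j
  simp

theorem Gam_smul (A : Matrix (Fin n) (Fin n) 𝕎) (ε : 𝕎 ≃+* 𝕎) (c : 𝕎) (w : Fin n → 𝕎) :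
    Gam A ε (c • w) = ε c • Gam A ε w := by
  unfold Gam
  rw [← Matrix.mulVec_smul]
  congr 1
  funext j
  simp

/-- reduction mod `p` -/
noncomputable def red (w : Fin n → WittVector p k) : Fin n → k := fun i => (w i).coeff 0

theorem red_add (w w' : Fin n → 𝕎) : red (w + w') = red w + red w' := by
  funext i
  exact WittVector.add_coeff_zero _ _

theorem red_sub (w w' : Fin n → 𝕎) : red (w - w') = red w - red w' := by
  funext i
  exact map_sub (WittVector.constantCoeff : 𝕎 →+* k) _ _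

theorem red_smul (c : 𝕎) (w : Fin n → 𝕎) : red (c • w) = c.coeff 0 • red w := by
  funext i
  exact WittVector.mul_coeff_zero _ _

theorem red_surjective (v : Fin n → k) : ∃ w : Fin n → 𝕎, red w = v := by
  choose w hw using fun i => WittVector.constantCoeff_surjective p (v i)
  exact ⟨w, funext hw⟩

theorem red_eq_zero_iff (w : Fin n → 𝕎) : red w = 0 ↔ ∃ u : Fin n → 𝕎, w = (p : 𝕎) • u := by
  constructor
  · intro h
    have h1 : ∀ i, ∃ u, w i = (p : 𝕎) * u := fun i => dvd_of_coeff_zero (congrFun h i)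
    choose u hu using h1
    exact ⟨u, funext hu⟩
  · rintro ⟨u, rfl⟩
    funext i
    exact coeff_zero_of_dvd ⟨u i, rfl⟩

/-- the reduced semilinear map on `k^n` -/
noncomputable def phi (A : Matrix (Fin n) (Fin n) (WittVector p k)) (θ : k →+* k) :
    (Fin n → k) →ₛₗ[θ] (Fin n → k) where
  toFun v := (A.map WittVector.constantCoeff).mulVec (fun j => θ (v j))
  map_add' v v' := by
    rw [← Matrix.mulVec_add]
    congr 1
    funext j
    simp
  map_smul' c v := by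
    rw [← Matrix.mulVec_smul]
    congr 1
    funext j
    simp

theorem red_Gam (A : Matrix (Fin n) (Fin n) 𝕎) (ε : 𝕎 ≃+* 𝕎) (θ : k →+* k)
    (hεθ : ∀ w : 𝕎, (ε w).coeff 0 = θ (w.coeff 0)) (w : Fin n → 𝕎) :
    red (Gam A ε w) = phi A θ (red w) := by
  funext i
  change WittVector.constantCoeff (∑ j, A i j * ε (w j)) =
    ∑ j, WittVector.constantCoeff (A i j) * θ ((w j).coeff 0)
  rw [map_sum]
  refine Finset.sum_congr rfl (fun j _ => ?_)
  rw [map_mul, ← hεθ]
  rfl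

theorem phi_bijective (A : Matrix (Fin n) (Fin n) 𝕎) (hA : IsUnit A.det) (θ : k →+* k)
    (hθ : Function.Bijective θ) : Function.Bijective (phi A θ) := by
  have hdet : IsUnit (A.map WittVector.constantCoeff).det := by
    have : (A.map (WittVector.constantCoeff : 𝕎 →+* k)).det =
        WittVector.constantCoeff A.det := (RingHom.map_det _ _).symm
    rw [this]
    exact hA.map _
  constructor
  · intro v v' h
    have h1 : (fun j => θ (v j)) = fun j => θ (v' j) :=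
      Matrix.mulVec_injective_of_isUnit ((Matrix.isUnit_iff_isUnit_det _).mpr hdet) h
    funext j
    exact hθ.1 (congrFun h1 j)
  · intro y
    choose v hv using fun j => hθ.2 (((A.map WittVector.constantCoeff)⁻¹.mulVec y) j)
    refine ⟨v, ?_⟩
    change (A.map WittVector.constantCoeff).mulVec (fun j => θ (v j)) = y
    rw [funext hv, Matrix.mulVec_mulVec, Matrix.mul_nonsing_inv _ hdet, Matrix.one_mulVec]


theorem exists_fixed_lift (A : Matrix (Fin n) (Fin n) 𝕎) (ε : 𝕎 ≃+* 𝕎) (θ : k →+* k)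
    (hεθ : ∀ w : 𝕎, (ε w).coeff 0 = θ (w.coeff 0))
    (hsurj : ∀ u : Fin n → k, ∃ y, phi A θ y - y = u)
    (v : Fin n → k) (hv : phi A θ v = v) :
    ∃ w : Fin n → 𝕎, Gam A ε w = w ∧ red w = v := by
  obtain ⟨w₀, hw₀⟩ := red_surjective (p := p) v
  have hε : ∀ j : ℕ, ε ((p : 𝕎) ^ j) = (p : 𝕎) ^ j := fun j => by rw [map_pow, map_natCast]
  have step : ∀ (j : ℕ) (w : Fin n → 𝕎),
      (∃ z : Fin n → 𝕎, Gam A ε w - w = ((p : 𝕎) ^ (j + 1)) • z) →
      ∃ w' : Fin n → 𝕎, (∃ z' : Fin n → 𝕎, Gam A ε w' - w' = ((p : 𝕎) ^ (j + 1 + 1)) • z') ∧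
        ∃ y : Fin n → 𝕎, w' - w = ((p : 𝕎) ^ (j + 1)) • y := by
    rintro j w ⟨z, hz⟩
    obtain ⟨y₀, hy₀⟩ := hsurj (-(red z))
    obtain ⟨y, hy⟩ := red_surjective (p := p) y₀
    refine ⟨w + ((p : 𝕎) ^ (j + 1)) • y, ?_, y, by abel⟩
    have h1 : red (z + (Gam A ε y - y)) = 0 := by
      rw [red_add, red_sub, red_Gam A ε θ hεθ, hy, hy₀]
      abel
    obtain ⟨u, hu⟩ := (red_eq_zero_iff _).mp h1
    refine ⟨u, ?_⟩
    calc Gam A ε (w + ((p : 𝕎) ^ (j + 1)) • y) - (w + ((p : 𝕎) ^ (j + 1)) • y)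
        = (Gam A ε w - w) + ((p : 𝕎) ^ (j + 1)) • (Gam A ε y - y) := by
          rw [Gam_add, Gam_smul, hε, smul_sub]; abel
      _ = ((p : 𝕎) ^ (j + 1)) • (z + (Gam A ε y - y)) := by rw [hz, smul_add]
      _ = ((p : 𝕎) ^ (j + 1 + 1)) • u := by rw [hu, smul_smul, ← pow_succ]
  have h0 : ∃ z : Fin n → 𝕎, Gam A ε w₀ - w₀ = ((p : 𝕎) ^ (0 + 1)) • z := by
    have h1 : red (Gam A ε w₀ - w₀) = 0 := by
      rw [red_sub, red_Gam A ε θ hεθ, hw₀, hv, sub_self]
    obtain ⟨u, hu⟩ := (red_eq_zero_iff _).mp h1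
    exact ⟨u, by rw [hu, zero_add, pow_one]⟩
  choose next hnext1 hnext2 using step
  let seq : ∀ j : ℕ, {w : Fin n → 𝕎 // ∃ z : Fin n → 𝕎,
      Gam A ε w - w = ((p : 𝕎) ^ (j + 1)) • z} :=
    fun j => Nat.rec ⟨w₀, h0⟩ (fun j w => ⟨next j w.1 w.2, hnext1 j w.1 w.2⟩) j
  have hseq : ∀ j, ∃ y : Fin n → 𝕎, (seq (j + 1)).1 - (seq j).1 = ((p : 𝕎) ^ (j + 1)) • y :=
    fun j => hnext2 j (seq j).1 (seq j).2
  have hlim : ∀ i, ∃ ℓ : 𝕎, ∀ j, (p : 𝕎) ^ j ∣ ℓ - (seq j).1 i := by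
    intro i
    apply Helper5.IsocLib.W_complete (fun j => (seq j).1 i)
    intro j
    obtain ⟨y, hy⟩ := hseq j
    have h1 : (seq (j + 1)).1 i - (seq j).1 i = (p : 𝕎) ^ (j + 1) * y i := congrFun hy i
    change (p : 𝕎) ^ j ∣ (seq (j + 1)).1 i - (seq j).1 i
    rw [h1, pow_succ, mul_assoc]
    exact Dvd.intro _ rfl
  choose ℓ hℓ using hlim
  refine ⟨ℓ, ?_, ?_⟩
  · rw [← sub_eq_zero]
    funext i
    apply eq_zero_of_forall_dvd
    intro j
    have hex : ∀ i, ∃ u, ℓ i - (seq j).1 i = (p : 𝕎) ^ j * u := fun i => hℓ i j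
    choose u hu using hex
    have h1 : ℓ - (seq j).1 = ((p : 𝕎) ^ j) • u := funext hu
    obtain ⟨z, hz⟩ := (seq j).2
    have h2 : Gam A ε ℓ - ℓ = ((p : 𝕎) ^ j) • (Gam A ε u + (p : 𝕎) • z - u) := by
      have h3 : Gam A ε ℓ - ℓ = Gam A ε (ℓ - (seq j).1) +
          (Gam A ε (seq j).1 - (seq j).1) - (ℓ - (seq j).1) := by
        rw [Gam_sub]; abel
      rw [h3, h1, Gam_smul, hε, hz, pow_succ, mul_smul, ← smul_add, ← smul_sub]
    rw [h2]
    exact ⟨_, rfl⟩
  · rw [← hw₀]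
    have h1 : red (ℓ - w₀) = 0 := by
      rw [red_eq_zero_iff]
      have hex : ∀ i, ∃ u, ℓ i - (seq 1).1 i = (p : 𝕎) ^ 1 * u := fun i => hℓ i 1
      choose u hu using hex
      obtain ⟨y, hy⟩ := hseq 0
      refine ⟨u + y, ?_⟩
      have h2 : ℓ - (seq 1).1 = ((p : 𝕎) ^ 1) • u := funext hu
      have h3 : ℓ - w₀ = (ℓ - (seq 1).1) + ((seq (0 + 1)).1 - (seq 0).1) := by
        change ℓ - w₀ = (ℓ - (seq 1).1) + ((seq 1).1 - w₀)
        abel
      rw [h3, h2, hy, pow_one, smul_add]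
    rw [red_sub, sub_eq_zero] at h1
    exact h1


theorem witt_fixed_span [IsAlgClosed k] (A : Matrix (Fin n) (Fin n) 𝕎) (hA : IsUnit A.det)
    (b : ℤ) (hb : b ≠ 0) :
    Submodule.span 𝕎 {w : Fin n → 𝕎 | Gam A ((WittVector.frobeniusEquiv p k) ^ b) w = w} = ⊤ := by
  obtain ⟨m, hm, hcases⟩ := frobeniusEquiv_zpow_cases (p := p) (k := k) b hb
  have hεθ : ∀ w : 𝕎, (((WittVector.frobeniusEquiv p k) ^ b) w).coeff 0 =
      (((_root_.frobeniusEquiv k p) ^ b : k ≃+* k) : k →+* k) (w.coeff 0) :=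
    coeff_zero_frobeniusEquiv_zpow b
  have hbij := phi_bijective A hA (((_root_.frobeniusEquiv k p) ^ b : k ≃+* k) : k →+* k)
    ((_root_.frobeniusEquiv k p) ^ b : k ≃+* k).bijective
  obtain ⟨hR1, hR2⟩ := lang (p := p) hm hcases
    (phi A (((_root_.frobeniusEquiv k p) ^ b : k ≃+* k) : k →+* k)) hbij
  -- every vector of `k^n` is the reduction of an element of the span
  have hlift : ∀ v : Fin n → k, ∃ s ∈ Submodule.span 𝕎
      {w : Fin n → 𝕎 | Gam A ((WittVector.frobeniusEquiv p k) ^ b) w = w}, red s = v := by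
    intro v
    have hv : v ∈ Submodule.span k
        {v | phi A (((_root_.frobeniusEquiv k p) ^ b : k ≃+* k) : k →+* k) v = v} := by
      rw [hR1]; exact Submodule.mem_top
    induction hv using Submodule.span_induction with
    | mem v hv =>
      obtain ⟨w, hw, hwv⟩ := exists_fixed_lift A _ _ hεθ hR2 v hv
      exact ⟨w, Submodule.subset_span hw, hwv⟩
    | zero =>
      refine ⟨0, Submodule.zero_mem _, ?_⟩
      funext i
      exact WittVector.zero_coeff p k 0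
    | add a b _ _ iha ihb =>
      obtain ⟨sa, hsa, ha⟩ := iha
      obtain ⟨sb, hsb, hb⟩ := ihb
      exact ⟨sa + sb, Submodule.add_mem _ hsa hsb, by rw [red_add, ha, hb]⟩
    | smul c a _ iha =>
      obtain ⟨sa, hsa, ha⟩ := iha
      obtain ⟨γ, hγ⟩ := WittVector.constantCoeff_surjective p c
      refine ⟨γ • sa, Submodule.smul_mem _ _ hsa, ?_⟩
      rw [red_smul, ha]
      congr 1
  rw [eq_top_iff]
  refine Submodule.le_of_le_smul_of_le_jacobson_bot (I := Ideal.span {(p : 𝕎)})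
    (Module.Finite.fg_top) ?_ ?_
  · rw [IsLocalRing.jacobson_eq_maximalIdeal ⊥ bot_ne_top, Ideal.span_le]
    intro x hx
    rw [Set.mem_singleton_iff] at hx
    rw [hx]
    exact (IsLocalRing.mem_maximalIdeal _).mpr Helper5.IsocLib.not_isUnit_p
  · intro w _
    obtain ⟨s, hs, hsw⟩ := hlift (red w)
    have h1 : red (w - s) = 0 := by rw [red_sub, hsw, sub_self]
    obtain ⟨u, hu⟩ := (red_eq_zero_iff _).mp h1
    have h2 : w = s + (p : 𝕎) • u := by rw [← hu]; abel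
    rw [h2]
    exact Submodule.add_mem _ (Submodule.mem_sup_left hs)
      (Submodule.mem_sup_right (Submodule.smul_mem_smul
        (Ideal.subset_span (Set.mem_singleton _)) Submodule.mem_top))

end lift

end Helper5.LangLib
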