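import Mathlib
import Groth.Prelude.Def_Isoc
import Groth.Agent.Lib.Helper5.Isoc.WittLang
import Groth.Agent.Lib.Helper5.Isoc.Newton

set_option autoImplicit false
set_option linter.unusedSectionVars false

universe u v

namespace Helper5.IsocLib
open Isoc Module Filter Topology Helper5.LangLib
open scoped Pointwise

section dieu
variable {p : ℕ} [hp : Fact p.Prime] {k : Type u} [Field k] [CharP k p] [PerfectRing k p]
  [IsAlgClosed k]

local notation "𝕎" => WittVector p k
local notation "𝕃" => FractionRing (WittVector p k)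

variable {N : Type v} [AddCommGroup N] [Module (WittVector p k) N]
  [Module (FractionRing (WittVector p k)) N]
  [IsScalarTower (WittVector p k) (FractionRing (WittVector p k)) N]
variable {τ : FractionRing (WittVector p k) →+* FractionRing (WittVector p k)}

/-- Dieudonné's lemma: over an algebraically closed field, a lattice stable under a bijective
`σ^b`-semilinear map (`b ≠ 0`) is spanned by fixed vectors -/
theorem fixed_span (b : ℤ) (hb : b ≠ 0)
    (hτb : ∀ w : 𝕎, τ (algebraMap 𝕎 𝕃 w) =
      algebraMap 𝕎 𝕃 (((WittVector.frobeniusEquiv p k) ^ b) w))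
    {M : Submodule 𝕎 N} (hM : M.IsLattice 𝕃) (G : N →ₛₗ[τ] N) (hG : img G M = M) :
    Submodule.span 𝕎 {x | x ∈ M ∧ G x = x} = M := by
  have hτ : PresW τ := ⟨_, hτb⟩
  obtain ⟨n, bb, hbb⟩ := exists_latBasis hM
  have hInt : IntMat (smat₂ bb bb G) := smat_intMat bb hbb G hG.le
  have hdet : IsOrdP (detCoeff bb G) 0 := det_unit_of_img_eq hτ bb hbb G hG
  obtain ⟨A, hA⟩ := hInt.exists_eq_map
  have hAdet : IsUnit A.det := by
    rw [detCoeff_eq, hA] at hdet
    obtain ⟨u, hu⟩ := isOrdP_zero_iff.mp hdet
    have h3 : (A.map (algebraMap 𝕎 𝕃)).det = algebraMap 𝕎 𝕃 A.det :=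
      (RingHom.map_det _ _).symm
    rw [h3] at hu
    rw [algebraMap_inj hu]
    exact u.isUnit
  have hspan := witt_fixed_span A hAdet b hb
  -- the parametrisation of `M`
  have hGb : ∀ j, G (bb j) = ∑ i, A i j • bb i := by
    intro j
    conv_lhs => rw [← bb.sum_repr (G (bb j))]
    refine Finset.sum_congr rfl (fun i _ => ?_)
    have : bb.repr (G (bb j)) i = algebraMap 𝕎 𝕃 (A i j) := by
      rw [← smat₂_apply, hA, Matrix.map_apply]
    rw [this, algebraMap_smul]
  have hkey : ∀ w : Fin n → 𝕎, G (Fintype.linearCombination 𝕎 bb w) =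
      Fintype.linearCombination 𝕎 bb (Gam A ((WittVector.frobeniusEquiv p k) ^ b) w) := by
    intro w
    rw [Fintype.linearCombination_apply, Fintype.linearCombination_apply, map_sum]
    have h1 : ∀ j, G (w j • bb j) =
        ∑ i, (A i j * ((WittVector.frobeniusEquiv p k) ^ b) (w j)) • bb i := by
      intro j
      rw [← algebraMap_smul 𝕃 (w j) (bb j), map_smulₛₗ, hτb, algebraMap_smul, hGb,
        Finset.smul_sum]
      refine Finset.sum_congr rfl (fun i _ => ?_)
      rw [smul_smul, mul_comm]
    rw [Finset.sum_congr rfl (fun j _ => h1 j), Finset.sum_comm]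
    refine Finset.sum_congr rfl (fun i _ => ?_)
    rw [← Finset.sum_smul]
    rfl
  have hrange : LinearMap.range (Fintype.linearCombination 𝕎 bb) = M := by
    rw [Fintype.range_linearCombination, hbb]
  apply le_antisymm
  · rw [Submodule.span_le]
    exact fun x hx => hx.1
  · have h1 : M = Submodule.span 𝕎 ((Fintype.linearCombination 𝕎 bb) ''
        {w | Gam A ((WittVector.frobeniusEquiv p k) ^ b) w = w}) := by
      rw [← Submodule.map_span, hspan, Submodule.map_top, hrange]
    refine h1.le.trans (Submodule.span_mono ?_)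
    rintro _ ⟨w, hw, rfl⟩
    refine ⟨?_, ?_⟩
    · rw [← hrange]
      exact LinearMap.mem_range_self _ w
    · have hw' : Gam A ((WittVector.frobeniusEquiv p k) ^ b) w = w := hw
      rw [hkey, hw']

end dieu

end Helper5.IsocLib
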