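import Mathlib
import Groth.Prelude.Def_Isoc
import Groth.Agent.Lib.Helper5.Isoc.Newton

set_option autoImplicit false
set_option linter.unusedSectionVars false

universe u v w

namespace Helper5.IsocLib
open Isoc Module Filter Topology Polynomial
open scoped Pointwise

theorem charpoly_blockDiagonal'_aux {α : Type*} [Fintype α] [LinearOrder α]
    {m' : α → Type*} [∀ i, Fintype (m' i)] [∀ i, DecidableEq (m' i)] {R : Type*} [CommRing R]
    (d : ∀ i, Matrix (m' i) (m' i) R) :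
    (Matrix.blockDiagonal' d).charpoly = ∏ i, (d i).charpoly := by
  rw [(Matrix.blockTriangular_blockDiagonal' d).charpoly]
  have h3 : ∏ a ∈ Finset.image (Sigma.fst : (Σ i, m' i) → α) Finset.univ,
      ((Matrix.blockDiagonal' d).toSquareBlock Sigma.fst a).charpoly =
      ∏ a ∈ Finset.image (Sigma.fst : (Σ i, m' i) → α) Finset.univ, (d a).charpoly := by
    refine Finset.prod_congr rfl (fun k _ => ?_)
    have h1 : Matrix.toSquareBlock (Matrix.blockDiagonal' d) Sigma.fst k =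
        Matrix.reindex (Equiv.sigmaSubtype k).symm (Equiv.sigmaSubtype k).symm (d k) := by
      ext ⟨⟨i, x⟩, hi⟩ ⟨⟨j, y⟩, hj⟩
      simp only at hi hj
      subst hi
      subst hj
      rw [Matrix.toSquareBlock_def, Matrix.of_apply, Matrix.reindex_apply, Matrix.submatrix_apply]
      simp [Matrix.blockDiagonal'_apply_eq]
    rw [h1, Matrix.charpoly_reindex]
  rw [h3]
  refine Finset.prod_subset (Finset.subset_univ _) (fun a _ ha => ?_)
  have hemp : IsEmpty (m' a) :=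
    ⟨fun x => ha (Finset.mem_image.mpr ⟨⟨a, x⟩, Finset.mem_univ _, rfl⟩)⟩
  simp [Matrix.charpoly]

theorem charpoly_isInternal {K V ι : Type*} [Field K] [AddCommGroup V] [Module K V]
    [Module.Finite K V] [Fintype ι] [LinearOrder ι] (A : ι → Submodule K V)
    (hA : DirectSum.IsInternal A) (f : V →ₗ[K] V) (hf : ∀ i, Set.MapsTo f (A i) (A i)) :
    f.charpoly = ∏ i, (f.restrict (hf i)).charpoly := by
  let b : ∀ i, Basis (Module.Free.ChooseBasisIndex K (A i)) K (A i) :=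
    fun i => Module.Free.chooseBasis K (A i)
  have hfin : Finite (Σ i, Module.Free.ChooseBasisIndex K (A i)) :=
    Module.Finite.finite_basis (hA.collectedBasis b)
  rw [← LinearMap.charpoly_toMatrix f (hA.collectedBasis b),
    LinearMap.toMatrix_directSum_collectedBasis_eq_blockDiagonal' hA hA b b hf,
    charpoly_blockDiagonal'_aux]
  exact Finset.prod_congr rfl (fun i _ => LinearMap.charpoly_toMatrix _ (b i))

theorem isIntegral_of_mem_spectrum {R Ω : Type*} [CommRing R] [Field Ω] [Algebra R Ω]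
    {n : Type*} [Fintype n] [DecidableEq n] (B₀ : Matrix n n R) {β : Ω}
    (h : β ∈ spectrum Ω (B₀.map (algebraMap R Ω))) : IsIntegral R β := by
  rw [Matrix.mem_spectrum_iff_isRoot_charpoly, Matrix.charpoly_map] at h
  refine ⟨B₀.charpoly, B₀.charpoly_monic, ?_⟩
  rw [Polynomial.eval₂_eq_eval_map]
  exact h

/-- eigenvalues of an invertible integral matrix are integral units -/
theorem isIntegral_inv_of_mem_spectrum {R Ω : Type*} [CommRing R] [Field Ω] [Algebra R Ω]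
    {n : Type*} [Fintype n] [DecidableEq n] (B₀ : Matrix n n R) (hB : IsUnit B₀.det) {β : Ω}
    (h : β ∈ spectrum Ω (B₀.map (algebraMap R Ω))) : β ≠ 0 ∧ IsIntegral R β⁻¹ := by
  obtain ⟨u, hu⟩ := (Matrix.isUnit_iff_isUnit_det B₀).mpr hB
  let v : (Matrix n n Ω)ˣ := Units.map (RingHom.mapMatrix (algebraMap R Ω)).toMonoidHom u
  have hv : (v : Matrix n n Ω) = B₀.map (algebraMap R Ω) := by
    rw [← hu]; rfl
  have hv' : ((v⁻¹ : (Matrix n n Ω)ˣ) : Matrix n n Ω) =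
      ((u⁻¹ : (Matrix n n R)ˣ) : Matrix n n R).map (algebraMap R Ω) := rfl
  rw [← hv] at h
  have hne : β ≠ 0 := spectrum.ne_zero_of_mem_of_unit h
  refine ⟨hne, ?_⟩
  have h2 : ((Units.mk0 β hne : Ωˣ) : Ω) ∈ spectrum Ω (v : Matrix n n Ω) := h
  rw [spectrum.inv_mem_iff, hv'] at h2
  have := isIntegral_of_mem_spectrum _ h2
  simpa using this

section eigen
variable {p : ℕ} [hp : Fact p.Prime] {k : Type u} [Field k] [CharP k p] [PerfectRing k p]

local notation "𝕎" => WittVector p k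
local notation "𝕃" => FractionRing (WittVector p k)

variable {N : Type v} [AddCommGroup N] [Module (WittVector p k) N]
  [Module (FractionRing (WittVector p k)) N]
  [IsScalarTower (WittVector p k) (FractionRing (WittVector p k)) N]
variable {τ : FractionRing (WittVector p k) →+* FractionRing (WittVector p k)}
variable {Ω : Type w} [Field Ω] [Algebra (WittVector p k) Ω]
  [Algebra (FractionRing (WittVector p k)) Ω]
  [IsScalarTower (WittVector p k) (FractionRing (WittVector p k)) Ω]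

theorem eigen_isoclinic [Module.Finite (FractionRing (WittVector p k)) N] (hτ : PresW τ) {F : N →ₛₗ[τ] N} {ν : ℚ} (hν : IsIsoclinic F ν) {m : ℕ}
    (π : N →ₗ[𝕃] N) (hπ : ∀ x, π x = (⇑F)^[m] x) :
    ∃ (r : ℤ) (s : ℕ), 0 < s ∧ (r : ℚ) / s = ν ∧
      ∀ α ∈ (π.charpoly.map (algebraMap 𝕃 Ω)).roots,
        algebraMap 𝕃 Ω ((p : 𝕃) ^ (-((m : ℤ) * r))) * α ^ s ≠ 0 ∧
        IsIntegral 𝕎 (algebraMap 𝕃 Ω ((p : 𝕃) ^ (-((m : ℤ) * r))) * α ^ s) ∧
        IsIntegral 𝕎 (algebraMap 𝕃 Ω ((p : 𝕃) ^ (-((m : ℤ) * r))) * α ^ s)⁻¹ := by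
  obtain ⟨M, hM, r, s, hs, hrs, hFM⟩ := hν
  have h1 := latImg_mul_eq hτ F hFM m
  obtain ⟨n, b, hb⟩ := exists_latBasis hM
  have hG : img (((p : 𝕃) ^ (-((m : ℤ) * r))) • (π ^ s)) M = M := by
    have h2 : img (π ^ s) M = latImg F (m * s) M := by
      rw [latImg, img]
      congr 2
      rw [Module.End.coe_pow, Function.iterate_mul]
      congr 1
      exact funext hπ
    rw [img_zpow_smul, h2, h1, ← pPow_add, neg_add_cancel, pPow_zero]
  have hInt : IntMat (smat₂ b b (((p : 𝕃) ^ (-((m : ℤ) * r))) • (π ^ s))) :=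
    smat_intMat b hb _ hG.le
  have hdet : IsOrdP (detCoeff b (((p : 𝕃) ^ (-((m : ℤ) * r))) • (π ^ s))) 0 :=
    det_unit_of_img_eq presW_id b hb _ hG
  obtain ⟨B₀, hB₀⟩ := hInt.exists_eq_map
  have hB₀det : IsUnit B₀.det := by
    rw [detCoeff_eq, hB₀] at hdet
    obtain ⟨u, hu⟩ := isOrdP_zero_iff.mp hdet
    have h3 : (B₀.map (algebraMap 𝕎 𝕃)).det = algebraMap 𝕎 𝕃 B₀.det :=
      (RingHom.map_det _ _).symm
    rw [h3] at hu
    rw [algebraMap_inj hu]
    exact u.isUnit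
  refine ⟨r, s, hs, hrs, ?_⟩
  intro α hα
  have hne0 : π.charpoly.map (algebraMap 𝕃 Ω) ≠ 0 :=
    (π.charpoly_monic.map _).ne_zero
  rw [Polynomial.mem_roots hne0, ← LinearMap.charpoly_toMatrix π b, ← Matrix.charpoly_map,
    ← Matrix.mem_spectrum_iff_isRoot_charpoly] at hα
  have h4 := spectrum.subset_polynomial_aeval ((LinearMap.toMatrix b b π).map (algebraMap 𝕃 Ω))
    (C (algebraMap 𝕃 Ω ((p : 𝕃) ^ (-((m : ℤ) * r)))) * X ^ s) ⟨α, hα, rfl⟩
  simp only [eval_mul, eval_C, eval_pow, eval_X, map_mul, aeval_C, map_pow, aeval_X] at h4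
  have h5 : (algebraMap Ω (Matrix (Fin n) (Fin n) Ω))
      (algebraMap 𝕃 Ω ((p : 𝕃) ^ (-((m : ℤ) * r)))) *
      ((LinearMap.toMatrix b b π).map (algebraMap 𝕃 Ω)) ^ s =
      B₀.map (algebraMap 𝕎 Ω) := by
    have h6 : smat₂ b b (((p : 𝕃) ^ (-((m : ℤ) * r))) • (π ^ s)) =
        ((p : 𝕃) ^ (-((m : ℤ) * r))) • (LinearMap.toMatrix b b π) ^ s := by
      rw [smat₂_smul]
      congr 1
      rw [LinearMap.toMatrix_pow]
      ext i j
      rw [smat₂_apply, LinearMap.toMatrix_apply]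
    have h7 : B₀.map (algebraMap 𝕎 Ω) =
        (B₀.map (algebraMap 𝕎 𝕃)).map (algebraMap 𝕃 Ω) := by
      ext i j
      rw [Matrix.map_apply, Matrix.map_apply, Matrix.map_apply,
        ← IsScalarTower.algebraMap_apply]
    have h8 : ((LinearMap.toMatrix b b π) ^ s).map (algebraMap 𝕃 Ω) =
        ((LinearMap.toMatrix b b π).map (algebraMap 𝕃 Ω)) ^ s :=
      map_pow (RingHom.mapMatrix (algebraMap 𝕃 Ω)) _ s
    have h9 : (((p : 𝕃) ^ (-((m : ℤ) * r))) • (LinearMap.toMatrix b b π) ^ s).map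
        (algebraMap 𝕃 Ω) = algebraMap 𝕃 Ω ((p : 𝕃) ^ (-((m : ℤ) * r))) •
          ((LinearMap.toMatrix b b π) ^ s).map (algebraMap 𝕃 Ω) := by
      ext i j
      simp [Matrix.map_apply, Matrix.smul_apply]
    rw [h7, ← hB₀, h6, h9, h8, Algebra.algebraMap_eq_smul_one, smul_mul_assoc, one_mul]
  rw [h5] at h4
  obtain ⟨hne, hinv⟩ := isIntegral_inv_of_mem_spectrum B₀ hB₀det h4
  exact ⟨hne, isIntegral_of_mem_spectrum B₀ h4, hinv⟩

end eigen

section eigen2
variable {p : ℕ} [hp : Fact p.Prime] {k : Type u} [Field k] [CharP k p] [PerfectRing k p]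

local notation "𝕎" => WittVector p k
local notation "𝕃" => FractionRing (WittVector p k)

variable {N : Type v} [AddCommGroup N] [Module (WittVector p k) N]
  [Module (FractionRing (WittVector p k)) N]
  [IsScalarTower (WittVector p k) (FractionRing (WittVector p k)) N]
variable {τ : FractionRing (WittVector p k) →+* FractionRing (WittVector p k)}
variable {Ω : Type w} [Field Ω] [Algebra (WittVector p k) Ω]
  [Algebra (FractionRing (WittVector p k)) Ω]
  [IsScalarTower (WittVector p k) (FractionRing (WittVector p k)) Ω]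

theorem zpow_nonneg_of_isIntegral {e : ℤ}
    (h : IsIntegral 𝕎 ((algebraMap 𝕃 Ω (p : 𝕃)) ^ e)) : 0 ≤ e := by
  rw [← map_zpow₀, isIntegral_algebraMap_iff (algebraMap 𝕃 Ω).injective,
    IsIntegrallyClosed.isIntegral_iff] at h
  obtain ⟨y, hy⟩ := h
  exact ordP_nonneg_of_isInt (isOrdP_zpow e) ⟨y, hy⟩

theorem slope_test {α : Ω} {r : ℤ} {s : ℕ} (hs : 0 < s) {m : ℕ} (hm : 0 < m) {ν : ℚ}
    (hrs : (r : ℚ) / s = ν)
    (hne : algebraMap 𝕃 Ω ((p : 𝕃) ^ (-((m : ℤ) * r))) * α ^ s ≠ 0)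
    (h1 : IsIntegral 𝕎 (algebraMap 𝕃 Ω ((p : 𝕃) ^ (-((m : ℤ) * r))) * α ^ s))
    (h2 : IsIntegral 𝕎 (algebraMap 𝕃 Ω ((p : 𝕃) ^ (-((m : ℤ) * r))) * α ^ s)⁻¹) (μ : ℚ) :
    (IsIntegral 𝕎 (α ^ μ.den * (algebraMap 𝕃 Ω (p : 𝕃)) ^ (-(μ.num * (m : ℤ)))) ∧
      IsIntegral 𝕎 (α ^ μ.den * (algebraMap 𝕃 Ω (p : 𝕃)) ^ (-(μ.num * (m : ℤ))))⁻¹) ↔
      μ = ν := by
  rw [map_zpow₀] at hne h1 h2
  have hP : algebraMap 𝕃 Ω (p : 𝕃) ≠ 0 := by
    rw [Ne, map_eq_zero]; exact pL_ne_zero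
  have hα : α ≠ 0 := by
    rintro rfl
    apply hne
    rw [zero_pow hs.ne', mul_zero]
  have hden : 0 < μ.den := μ.den_pos
  have hmν : μ = ν ↔ r * μ.den = μ.num * s := by
    rw [← hrs]
    have h3 : (s : ℚ) ≠ 0 := by exact_mod_cast hs.ne'
    have h4 : (μ.den : ℚ) ≠ 0 := by exact_mod_cast hden.ne'
    conv_lhs => rw [← Rat.num_div_den μ]
    rw [div_eq_div_iff h4 h3]
    constructor
    · intro h
      have : ((μ.num * s : ℤ) : ℚ) = ((r * μ.den : ℤ) : ℚ) := by push_cast; linarith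
      exact_mod_cast this.symm
    · intro h
      have : ((r * μ.den : ℤ) : ℚ) = ((μ.num * s : ℤ) : ℚ) := by rw [h]
      push_cast at this
      linarith
  -- the key identity
  have key : (α ^ μ.den * (algebraMap 𝕃 Ω (p : 𝕃)) ^ (-(μ.num * (m : ℤ)))) ^ s =
      ((algebraMap 𝕃 Ω (p : 𝕃)) ^ (-((m : ℤ) * r)) * α ^ s) ^ μ.den *
        (algebraMap 𝕃 Ω (p : 𝕃)) ^ ((m : ℤ) * (r * μ.den - μ.num * s)) := by
    rw [mul_pow, mul_pow, ← pow_mul, ← pow_mul, ← zpow_natCast _ s, ← zpow_natCast _ μ.den,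
      ← zpow_mul, ← zpow_mul, mul_comm μ.den s]
    rw [mul_comm (_ ^ (_ : ℤ)) (α ^ _), mul_assoc, ← zpow_add₀ hP]
    congr 2
    ring
  constructor
  · rintro ⟨g1, g2⟩
    rw [hmν]
    have e1 : (algebraMap 𝕃 Ω (p : 𝕃)) ^ ((m : ℤ) * (r * μ.den - μ.num * s)) =
        (α ^ μ.den * (algebraMap 𝕃 Ω (p : 𝕃)) ^ (-(μ.num * (m : ℤ)))) ^ s *
        (((algebraMap 𝕃 Ω (p : 𝕃)) ^ (-((m : ℤ) * r)) * α ^ s)⁻¹) ^ μ.den := by
      rw [key, inv_pow, mul_right_comm, mul_inv_cancel₀ (pow_ne_zero _ hne), one_mul]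
    have e2 : (algebraMap 𝕃 Ω (p : 𝕃)) ^ (-((m : ℤ) * (r * μ.den - μ.num * s))) =
        ((α ^ μ.den * (algebraMap 𝕃 Ω (p : 𝕃)) ^ (-(μ.num * (m : ℤ))))⁻¹) ^ s *
        ((algebraMap 𝕃 Ω (p : 𝕃)) ^ (-((m : ℤ) * r)) * α ^ s) ^ μ.den := by
      rw [zpow_neg, e1, mul_inv, inv_pow, inv_pow, inv_inv]
    have i1 : 0 ≤ (m : ℤ) * (r * μ.den - μ.num * s) :=
      zpow_nonneg_of_isIntegral (e1 ▸ (g1.pow s).mul (h2.pow μ.den))
    have i2 : 0 ≤ -((m : ℤ) * (r * μ.den - μ.num * s)) :=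
      zpow_nonneg_of_isIntegral (e2 ▸ (g2.pow s).mul (h1.pow μ.den))
    have hm' : (0 : ℤ) < m := by exact_mod_cast hm
    have : (m : ℤ) * (r * μ.den - μ.num * s) = 0 := le_antisymm (by linarith) i1
    rcases mul_eq_zero.mp this with h | h
    · omega
    · linarith
  · intro h
    rw [hmν] at h
    rw [h, sub_self, mul_zero, zpow_zero, mul_one] at key
    refine ⟨IsIntegral.of_pow hs (key ▸ h1.pow μ.den), IsIntegral.of_pow hs ?_⟩
    rw [inv_pow, key, ← inv_pow]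
    exact h2.pow μ.den

end eigen2

section eigen3
variable {p : ℕ} [hp : Fact p.Prime] {k : Type u} [Field k] [CharP k p] [PerfectRing k p]

local notation "𝕎" => WittVector p k
local notation "𝕃" => FractionRing (WittVector p k)

variable {N : Type v} [AddCommGroup N] [Module (WittVector p k) N]
  [Module (FractionRing (WittVector p k)) N]
  [IsScalarTower (WittVector p k) (FractionRing (WittVector p k)) N]
variable {τ : FractionRing (WittVector p k) →+* FractionRing (WittVector p k)}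
variable {Ω : Type w} [Field Ω] [Algebra (WittVector p k) Ω]
  [Algebra (FractionRing (WittVector p k)) Ω]
  [IsScalarTower (WittVector p k) (FractionRing (WittVector p k)) Ω]

theorem iterate_mem_submodule {F : N →ₛₗ[τ] N} {P : Submodule 𝕃 N} (hP : ∀ x ∈ P, F x ∈ P)
    (m : ℕ) {x : N} (hx : x ∈ P) : (⇑F)^[m] x ∈ P := by
  induction m with
  | zero => exact hx
  | succ m ih =>
    rw [Function.iterate_succ_apply']
    exact hP _ ih

theorem newtonMult_eq_countP [Module.Finite (FractionRing (WittVector p k)) N] [IsAlgClosed Ω]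
    (hτ : PresW τ) {F : N →ₛₗ[τ] N} (hF : IsIsoc F) {m : ℕ} (hm : 0 < m)
    (π : N →ₗ[𝕃] N) (hπ : ∀ x, π x = (⇑F)^[m] x) (μ : ℚ)
    [DecidablePred (fun α : Ω =>
      IsIntegral 𝕎 (α ^ μ.den * (algebraMap 𝕃 Ω (p : 𝕃)) ^ (-(μ.num * (m : ℤ)))) ∧
      IsIntegral 𝕎 (α ^ μ.den * (algebraMap 𝕃 Ω (p : 𝕃)) ^ (-(μ.num * (m : ℤ))))⁻¹)] :
    newtonMult F μ = Multiset.countP (fun α : Ω =>
      IsIntegral 𝕎 (α ^ μ.den * (algebraMap 𝕃 Ω (p : 𝕃)) ^ (-(μ.num * (m : ℤ)))) ∧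
      IsIntegral 𝕎 (α ^ μ.den * (algebraMap 𝕃 Ω (p : 𝕃)) ^ (-(μ.num * (m : ℤ))))⁻¹)
      ((π.charpoly.map (algebraMap 𝕃 Ω)).roots) := by
  classical
  have hInt := isInternal_slopePart hτ hF
  have hindep := iSupIndep_slopePart hτ hF
  have hfin : {μ : ℚ | slopePart F μ ≠ ⊥}.Finite :=
    WellFoundedGT.finite_ne_bot_of_iSupIndep hindep
  have hft : Fintype {μ : ℚ // slopePart F μ ≠ ⊥} := hfin.fintype
  have hInt' : DirectSum.IsInternal (fun i : {μ : ℚ // slopePart F μ ≠ ⊥} => slopePart F i) :=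
    DirectSum.isInternal_ne_bot_iff.mpr hInt
  have hst : ∀ i : {μ : ℚ // slopePart F μ ≠ ⊥}, ∀ x ∈ slopePart F i, F x ∈ slopePart F i :=
    fun i => (slopePart_isoclinic hτ hF i).1
  have hπst : ∀ i : {μ : ℚ // slopePart F μ ≠ ⊥},
      Set.MapsTo π (slopePart F i) (slopePart F i) := by
    intro i x hx
    rw [hπ]
    exact iterate_mem_submodule (hst i) m hx
  have hcp := charpoly_isInternal (fun i : {μ : ℚ // slopePart F μ ≠ ⊥} => slopePart F i)
    hInt' π hπst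
  have hne : ∏ i : {μ : ℚ // slopePart F μ ≠ ⊥},
      ((π.restrict (hπst i)).charpoly.map (algebraMap 𝕃 Ω)) ≠ 0 := by
    rw [Finset.prod_ne_zero_iff]
    intro i _
    exact ((π.restrict (hπst i)).charpoly_monic.map _).ne_zero
  rw [hcp, Polynomial.map_prod, Polynomial.roots_prod _ _ hne, Multiset.countP_eq_card_filter,
    Multiset.filter_bind, Multiset.card_bind]
  -- each term
  have hterm : ∀ i : {μ : ℚ // slopePart F μ ≠ ⊥},
      (Multiset.filter (fun α : Ω =>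
        IsIntegral 𝕎 (α ^ μ.den * (algebraMap 𝕃 Ω (p : 𝕃)) ^ (-(μ.num * (m : ℤ)))) ∧
        IsIntegral 𝕎 (α ^ μ.den * (algebraMap 𝕃 Ω (p : 𝕃)) ^ (-(μ.num * (m : ℤ))))⁻¹)
        ((π.restrict (hπst i)).charpoly.map (algebraMap 𝕃 Ω)).roots).card =
      if μ = i then newtonMult F i else 0 := by
    intro i
    have hiso := (slopePart_isoclinic hτ hF i).2
    have hπ' : ∀ x, (π.restrict (hπst i)) x = (⇑(F.restrict (hst i)))^[m] x := by
      intro x
      apply Subtype.ext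
      rw [iterate_restrict]
      exact hπ x
    obtain ⟨r, s, hs, hrs, hroots⟩ := eigen_isoclinic (Ω := Ω) hτ hiso (π.restrict (hπst i)) hπ'
    have hiff : ∀ α ∈ ((π.restrict (hπst i)).charpoly.map (algebraMap 𝕃 Ω)).roots,
        (IsIntegral 𝕎 (α ^ μ.den * (algebraMap 𝕃 Ω (p : 𝕃)) ^ (-(μ.num * (m : ℤ)))) ∧
        IsIntegral 𝕎 (α ^ μ.den * (algebraMap 𝕃 Ω (p : 𝕃)) ^ (-(μ.num * (m : ℤ))))⁻¹) ↔
        μ = i := by
      intro α hα
      obtain ⟨h0, h1, h2⟩ := hroots α hα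
      exact slope_test hs hm hrs h0 h1 h2 μ
    split_ifs with hμi
    · rw [Multiset.filter_eq_self.mpr (fun α hα => (hiff α hα).mpr hμi),
        IsAlgClosed.card_roots_eq_natDegree, Polynomial.natDegree_map,
        LinearMap.charpoly_natDegree]
      rfl
    · rw [Multiset.filter_eq_nil.mpr (fun α hα h => hμi ((hiff α hα).mp h))]
      rfl
  simp only [Function.comp_def, hterm]
  change newtonMult F μ = ∑ i : {μ : ℚ // slopePart F μ ≠ ⊥}, if μ = i then newtonMult F i else 0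
  by_cases hμ : slopePart F μ = ⊥
  · rw [Finset.sum_eq_zero]
    · rw [newtonMult, hμ, finrank_bot]
    · intro i _
      rw [if_neg]
      rintro rfl
      exact i.2 hμ
  · rw [Finset.sum_eq_single (⟨μ, hμ⟩ : {μ : ℚ // slopePart F μ ≠ ⊥})]
    · rw [if_pos rfl]
    · intro i _ hi
      rw [if_neg]
      rintro rfl
      exact hi rfl
    · intro h
      exact absurd (Finset.mem_univ _) h

end eigen3

end Helper5.IsocLib
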