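import Mathlib
import Groth.Prelude.Def_Isoc
import Groth.Agent.Lib.Helper5.Isoc.Scalars

set_option autoImplicit false
set_option linter.unusedSectionVars false

namespace Helper5.IsocLib
open Isoc Module Filter Topology
open scoped Pointwise

section finite
variable {p : ℕ} [hp : Fact p.Prime] {k : Type*} [Field k] [CharP k p] [PerfectRing k p]

local notation "𝕎" => WittVector p k
local notation "𝕃" => FractionRing (WittVector p k)

theorem natCast_W_ne_zero {n : ℕ} (hn : n ≠ 0) : ((n : ℕ) : 𝕎) ≠ 0 := by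
  obtain ⟨e, n', hn', rfl⟩ := Nat.exists_eq_pow_mul_and_not_dvd hn p hp.out.ne_one
  push_cast
  refine mul_ne_zero (pow_ne_zero e (WittVector.p_nonzero p k)) ?_
  have h1 : ((n' : ℕ) : 𝕎).coeff 0 ≠ 0 := by
    have : ((n' : ℕ) : 𝕎).coeff 0 = ((n' : ℕ) : k) := by
      have := map_natCast (WittVector.constantCoeff : 𝕎 →+* k) n'
      exact this
    rw [this]
    intro h0
    exact hn' ((CharP.cast_eq_zero_iff k p n').mp h0)
  intro h0
  rw [h0] at h1
  exact h1 (WittVector.zero_coeff p k 0)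

theorem natCast_L_ne_zero {n : ℕ} (hn : n ≠ 0) : ((n : ℕ) : 𝕃) ≠ 0 := by
  have h2 : ((n : ℕ) : 𝕃) = algebraMap 𝕎 𝕃 (n : 𝕎) := (map_natCast (algebraMap 𝕎 𝕃) n).symm
  rw [h2]
  exact (map_ne_zero_iff _ (IsFractionRing.injective 𝕎 𝕃)).mpr (natCast_W_ne_zero hn)

/-- over a finite field with `p^m` elements, `σ^m` is the identity on `𝕃` -/
theorem frob_iterate_eq_self [Fintype k] {m : ℕ} (hk : Fintype.card k = p ^ m) (x : 𝕃) :
    (⇑(frob p k 1))^[m] x = x := by
  have hW : ∀ w : 𝕎, (⇑(frob p k 1))^[m] (algebraMap 𝕎 𝕃 w) = algebraMap 𝕎 𝕃 w := by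
    intro w
    have h1 : ∀ (j : ℕ) (w : 𝕎), (⇑(frob p k 1))^[j] (algebraMap 𝕎 𝕃 w) =
        algebraMap 𝕎 𝕃 (WittVector.frobenius^[j] w) := by
      intro j
      induction j with
      | zero => intro w; rfl
      | succ j ih =>
        intro w
        rw [Function.iterate_succ_apply', ih, frob_algebraMap, zpow_one,
          WittVector.frobeniusEquiv_apply, Function.iterate_succ_apply']
    rw [h1]
    congr 1
    ext i
    rw [WittVector.iterate_frobenius_coeff, ← hk, FiniteField.pow_card]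
  obtain ⟨a, b, hb, rfl⟩ := IsFractionRing.div_surjective (A := 𝕎) x
  have h2 : ∀ (j : ℕ) (y z : 𝕃), (⇑(frob p k 1))^[j] (y / z) =
      (⇑(frob p k 1))^[j] y / (⇑(frob p k 1))^[j] z := by
    intro j
    induction j with
    | zero => intro y z; rfl
    | succ j ih => intro y z; rw [Function.iterate_succ_apply', ih, map_div₀,
        ← Function.iterate_succ_apply' (⇑(frob p k 1)), ← Function.iterate_succ_apply' (⇑(frob p k 1))]
  rw [h2, hW, hW]

end finite

section finite2
variable {p : ℕ} [hp : Fact p.Prime] {k : Type*} [Field k] [CharP k p] [PerfectRing k p]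

local notation "𝕎" => WittVector p k
local notation "𝕃" => FractionRing (WittVector p k)

theorem no_complement [Finite k]
    (U : (Fin 2 → 𝕃) →ₛₗ[frob p k 1] (Fin 2 → 𝕃))
    (hU0 : U (Pi.single 0 1) = Pi.single 0 1)
    (hU1 : U (Pi.single 1 1) = Pi.single 0 1 + Pi.single 1 1)
    (Q : Submodule 𝕃 (Fin 2 → 𝕃)) (hQ : ∀ x ∈ Q, U x ∈ Q) :
    ¬ IsCompl (Submodule.span 𝕃 {(Pi.single 0 1 : Fin 2 → 𝕃)}) Q := by
  intro hc
  have : Fintype k := Fintype.ofFinite k
  obtain ⟨m, hm⟩ := FiniteField.card k p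
  have h1 : (Pi.single 1 1 : Fin 2 → 𝕃) ∈
      Submodule.span 𝕃 {(Pi.single 0 1 : Fin 2 → 𝕃)} ⊔ Q := by
    rw [hc.sup_eq_top]; trivial
  obtain ⟨y, hy, z, hz, hyz⟩ := Submodule.mem_sup.mp h1
  obtain ⟨α, rfl⟩ := Submodule.mem_span_singleton.mp hy
  have hz' : z = Pi.single 1 1 - α • (Pi.single 0 1 : Fin 2 → 𝕃) := by
    rw [← hyz]; abel
  have hUz : U z = (Pi.single 0 1 + Pi.single 1 1) -
      (frob p k 1 α) • (Pi.single 0 1 : Fin 2 → 𝕃) := by
    rw [hz', map_sub, map_smulₛₗ, hU0, hU1]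
  have hdiff : U z - z = (1 - frob p k 1 α + α) • (Pi.single 0 1 : Fin 2 → 𝕃) := by
    rw [hUz, hz', add_smul, sub_smul, one_smul]
    abel
  have hmemQ : U z - z ∈ Q := Q.sub_mem (hQ z hz) hz
  have hmemS : U z - z ∈ Submodule.span 𝕃 {(Pi.single 0 1 : Fin 2 → 𝕃)} := by
    rw [hdiff]
    exact Submodule.smul_mem _ _ (Submodule.mem_span_singleton_self _)
  have hzero : U z - z = 0 := by
    have := hc.disjoint.le_bot ⟨hmemS, hmemQ⟩
    exact (Submodule.mem_bot 𝕃).mp this
  have hα : frob p k 1 α = α + 1 := by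
    rw [hdiff] at hzero
    have := congrFun hzero 0
    simp only [Pi.smul_apply, Pi.single_eq_same, smul_eq_mul, mul_one, Pi.zero_apply] at this
    linear_combination -this
  have hiter : ∀ j : ℕ, (⇑(frob p k 1))^[j] α = α + j := by
    intro j
    induction j with
    | zero => simp
    | succ j ih =>
      rw [Function.iterate_succ_apply', ih, map_add, hα, map_natCast]
      push_cast; ring
  have hfix := frob_iterate_eq_self hm.2 α
  rw [hiter] at hfix
  have hm0 : ((m : ℕ) : 𝕃) = 0 := by linear_combination hfix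
  exact natCast_L_ne_zero (PNat.ne_zero m) hm0

end finite2

end Helper5.IsocLib
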