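import Mathlib
import Groth.Prelude.Def_Isoc
import Groth.Agent.Lib.Helper5.Isoc.Dieudonne

set_option autoImplicit false
set_option linter.unusedSectionVars false

universe u v

namespace Helper5.IsocLib
open Isoc Module Filter Topology Helper5.LangLib
open scoped Pointwise

section semis
variable {p : ℕ} [hp : Fact p.Prime] {k : Type u} [Field k] [CharP k p] [PerfectRing k p]

local notation "𝕎" => WittVector p k
local notation "𝕃" => FractionRing (WittVector p k)

variable {N : Type v} [AddCommGroup N] [Module (WittVector p k) N]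
  [Module (FractionRing (WittVector p k)) N]
  [IsScalarTower (WittVector p k) (FractionRing (WittVector p k)) N]
variable {τ : FractionRing (WittVector p k) →+* FractionRing (WittVector p k)}

theorem frob_pow_algebraMap (a : ℤ) (h : ℕ) (w : 𝕎) :
    ((frob p k a) ^ h) (algebraMap 𝕎 𝕃 w) =
      algebraMap 𝕎 𝕃 (((WittVector.frobeniusEquiv p k) ^ (a * h)) w) := by
  induction h generalizing w with
  | zero => simp
  | succ h ih =>
    rw [pow_succ, RingHom.mul_def, RingHom.comp_apply, frob_algebraMap, ih]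
    congr 1
    rw [← RingAut.mul_apply, ← zpow_add]
    congr 2
    push_cast
    ring

/-- an isoclinic isocrystal of slope `μ = d/h` (lowest terms) has a lattice with `F^h M = p^d M` -/
theorem exists_lattice_lowest (hτ : PresW τ) {F : N →ₛₗ[τ] N} (hF : IsIsoc F) {μ : ℚ}
    (hμ : IsIsoclinic F μ) :
    ∃ M' : Submodule 𝕎 N, M'.IsLattice 𝕃 ∧
      img (((p : 𝕃) ^ (-μ.num)) • iter F μ.den) M' = M' := by
  obtain ⟨M, hM, r, s, hs, hrs, hFM⟩ := hμ
  have hτh : PresW (τ ^ μ.den) := hτ.pow μ.den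
  have hGi : IsIsoc (((p : 𝕃) ^ (-μ.num)) • iter F μ.den) := isIsoc_twist hF (-μ.num) μ.den
  have hden : 0 < μ.den := μ.den_pos
  -- `r * den = num * s`
  have hcross : (μ.den : ℤ) * r = μ.num * s := by
    have h3 : (s : ℚ) ≠ 0 := by exact_mod_cast hs.ne'
    have h4 : (μ.den : ℚ) ≠ 0 := by exact_mod_cast hden.ne'
    have h5 : (r : ℚ) / s = (μ.num : ℚ) / μ.den := by rw [hrs, Rat.num_div_den]
    rw [div_eq_div_iff h3 h4] at h5
    have : ((μ.den * r : ℤ) : ℚ) = ((μ.num * s : ℤ) : ℚ) := by push_cast; linarith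
    exact_mod_cast this
  have hGs : latImg (((p : 𝕃) ^ (-μ.num)) • iter F μ.den) s M = M := by
    rw [latImg_twist hτ, latImg_mul_eq hτ F hFM μ.den, ← pPow_add]
    have : -μ.num * (s : ℤ) + (μ.den : ℤ) * r = 0 := by rw [hcross]; ring
    rw [this, pPow_zero]
  obtain ⟨s', rfl⟩ : ∃ s', s = s' + 1 := ⟨s - 1, by omega⟩
  refine ⟨partialSum (((p : 𝕃) ^ (-μ.num)) • iter F μ.den) M s',
    partialSum_isLattice hτh hGi hM s', le_antisymm ?_ ?_⟩
  · refine (img_partialSum_le hτh _ M s').trans ?_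
    rw [partialSum_succ, hGs]
    exact sup_le le_rfl (partialSum_mono _ M (Nat.zero_le s'))
  · cases s' with
    | zero =>
      rw [partialSum_zero, ← latImg_one]
      exact hGs.ge
    | succ j =>
      refine (partialSum_succ_le hτh _ M j).trans (sup_le ?_ ?_)
      · calc M = latImg (((p : 𝕃) ^ (-μ.num)) • iter F μ.den) (j + 1 + 1) M := hGs.symm
          _ = img (((p : 𝕃) ^ (-μ.num)) • iter F μ.den)
              (latImg (((p : 𝕃) ^ (-μ.num)) • iter F μ.den) (j + 1) M) :=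
            (img_latImg hτh _ (j + 1) M).symm
          _ ≤ _ := img_mono _ (latImg_le_partialSum _ M (j + 1))
      · exact img_mono _ (partialSum_mono _ M (Nat.le_succ j))


/-- the map `L^h → N`, `c ↦ ∑ c_i F^i x` -/
noncomputable def cyc (F : N →ₛₗ[τ] N) (h : ℕ) (x : N) :
    (Fin h → FractionRing (WittVector p k)) →ₗ[FractionRing (WittVector p k)] N :=
  Fintype.linearCombination (FractionRing (WittVector p k)) (fun i : Fin h => (⇑F)^[i] x)

theorem cyc_single (F : N →ₛₗ[τ] N) (h : ℕ) (x : N) (i : Fin h) :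
    cyc F h x (Pi.single i 1) = (⇑F)^[i] x := by
  rw [cyc, Fintype.linearCombination_apply_single, one_smul]

theorem cyc_comm (F : N →ₛₗ[τ] N) (d : ℤ) (m : ℕ) (x : N)
    (hx : (⇑F)^[m + 1] x = ((p : 𝕃) ^ d) • x) (c : Fin (m + 1) → 𝕃) :
    cyc F (m + 1) x (stdIsoc τ d (m + 1) c) = F (cyc F (m + 1) x c) := by
  have key : (cyc F (m + 1) x).comp (stdIsoc τ d (m + 1)) = F.comp (cyc F (m + 1) x) := by
    apply (Pi.basisFun 𝕃 (Fin (m + 1))).ext
    rintro ⟨j, hj⟩
    rw [Pi.basisFun_apply, LinearMap.comp_apply, LinearMap.comp_apply, cyc_single]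
    rcases Nat.lt_or_ge j m with hjm | hjm
    · rw [std_single_lt τ d m hjm, cyc_single, Function.iterate_succ_apply']
    · obtain rfl : j = m := by omega
      rw [std_single_last, map_smul, cyc_single, ← Function.iterate_succ_apply' (⇑F) j x, hx]
      rfl
  exact LinearMap.congr_fun key c

theorem cyc_range_stable (F : N →ₛₗ[τ] N) (d : ℤ) (m : ℕ) (x : N)
    (hx : (⇑F)^[m + 1] x = ((p : 𝕃) ^ d) • x) :
    ∀ y ∈ LinearMap.range (cyc F (m + 1) x), F y ∈ LinearMap.range (cyc F (m + 1) x) := by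
  rintro _ ⟨c, rfl⟩
  exact ⟨stdIsoc τ d (m + 1) c, cyc_comm F d m x hx c⟩

theorem mem_cyc_range (F : N →ₛₗ[τ] N) (m : ℕ) (x : N) :
    x ∈ LinearMap.range (cyc F (m + 1) x) :=
  ⟨Pi.single 0 1, by rw [cyc_single]; rfl⟩

/-- simple sub-isocrystals -/
def IsSimpleSub (F : N →ₛₗ[τ] N) (S : Submodule (FractionRing (WittVector p k)) N) : Prop :=
  S ≠ ⊥ ∧ (∀ y ∈ S, F y ∈ S) ∧
    ∀ T : Submodule (FractionRing (WittVector p k)) N, T ≤ S → (∀ y ∈ T, F y ∈ T) → T = ⊥ ∨ T = S

theorem cyc_range_simple (hτ : PresW τ) (F : N →ₛₗ[τ] N) (d : ℤ) (m : ℕ)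
    (hdh : Int.gcd d (m + 1 : ℕ) = 1) (x : N) (hx0 : x ≠ 0)
    (hx : (⇑F)^[m + 1] x = ((p : 𝕃) ^ d) • x) :
    IsSimpleSub F (LinearMap.range (cyc F (m + 1) x)) := by
  refine ⟨?_, cyc_range_stable F d m x hx, ?_⟩
  · intro h
    have := mem_cyc_range F m x
    rw [h, Submodule.mem_bot] at this
    exact hx0 this
  · intro T hT hTst
    have hst : ∀ c ∈ T.comap (cyc F (m + 1) x), stdIsoc τ d (m + 1) c ∈ T.comap (cyc F (m + 1) x) := by
      intro c hc
      rw [Submodule.mem_comap] at hc ⊢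
      rw [cyc_comm F d m x hx]
      exact hTst _ hc
    rcases std_simple hτ d (m + 1) (Nat.succ_pos m) hdh _ hst with h | h
    · left
      have h1 := Submodule.map_comap_eq (cyc F (m + 1) x) T
      rw [h, Submodule.map_bot, inf_eq_right.mpr hT] at h1
      exact h1.symm
    · right
      apply le_antisymm hT
      rintro _ ⟨c, rfl⟩
      have : c ∈ T.comap (cyc F (m + 1) x) := by rw [h]; exact Submodule.mem_top
      exact this


theorem iSup_simple_of_isoclinic [IsAlgClosed k] (a : ℤ) (ha : a ≠ 0)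
    {F : N →ₛₗ[frob p k a] N} (hF : IsIsoc F) {μ : ℚ} (hμ : IsIsoclinic F μ) :
    sSup {S | IsSimpleSub F S} = ⊤ := by
  have hτ : PresW (frob p k a) := presW_frob a
  obtain ⟨M', hM', hG⟩ := exists_lattice_lowest hτ hF hμ
  have hden : 0 < μ.den := μ.den_pos
  have hne : a * (μ.den : ℤ) ≠ 0 := mul_ne_zero ha (by exact_mod_cast hden.ne')
  have hspan := fixed_span (a * μ.den) hne (frob_pow_algebraMap a μ.den) hM' _ hG
  obtain ⟨m, hm⟩ : ∃ m, μ.den = m + 1 := ⟨μ.den - 1, by omega⟩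
  have hgcd : Int.gcd μ.num ((m + 1 : ℕ) : ℤ) = 1 := by
    rw [← hm]
    have := μ.reduced
    rwa [Nat.Coprime, ← Int.natAbs_natCast μ.den] at this
  have hfix : ∀ x, x ∈ M' ∧ (((p : 𝕃) ^ (-μ.num)) • iter F μ.den) x = x →
      x ∈ sSup {S | IsSimpleSub F S} := by
    rintro x ⟨-, hx⟩
    by_cases hx0 : x = 0
    · rw [hx0]; exact Submodule.zero_mem _
    · have hx' : (⇑F)^[m + 1] x = ((p : 𝕃) ^ μ.num) • x := by
        rw [LinearMap.smul_apply, iter_apply, hm] at hx
        conv_rhs => rw [← hx]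
        rw [smul_smul, ← zpow_add₀ pL_ne_zero, add_neg_cancel, zpow_zero, one_smul]
      have hsimple := cyc_range_simple hτ F μ.num m hgcd x hx0 hx'
      exact (le_sSup hsimple : _ ≤ sSup {S | IsSimpleSub F S}) (mem_cyc_range F m x)
  have h1 : Submodule.span 𝕎 {x | x ∈ M' ∧ (((p : 𝕃) ^ (-μ.num)) • iter F μ.den) x = x} ≤
      (sSup {S | IsSimpleSub F S}).restrictScalars 𝕎 :=
    Submodule.span_le.mpr hfix
  rw [hspan] at h1
  rw [eq_top_iff, ← hM'.span_eq_top, Submodule.span_le]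
  exact h1


theorem isSimpleSub_map {F : N →ₛₗ[τ] N} (P : Submodule 𝕃 N) (hP : ∀ x ∈ P, F x ∈ P)
    {S' : Submodule 𝕃 P} (hS' : IsSimpleSub (F.restrict hP) S') :
    IsSimpleSub F (S'.map P.subtype) := by
  obtain ⟨hne, hst, hmin⟩ := hS'
  refine ⟨?_, ?_, ?_⟩
  · intro h
    apply hne
    rw [eq_bot_iff]
    intro s hs
    have : (s : N) ∈ S'.map P.subtype := ⟨s, hs, rfl⟩
    rw [h, Submodule.mem_bot] at this
    rw [Submodule.mem_bot]
    exact Subtype.ext this
  · rintro _ ⟨s, hs, rfl⟩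
    exact ⟨F.restrict hP s, hst s hs, rfl⟩
  · intro T hT hTst
    have hT' : T.comap P.subtype ≤ S' := by
      intro s hs
      obtain ⟨s', hs', he⟩ := hT hs
      have : s' = s := Subtype.ext he
      rwa [← this]
    have hTst' : ∀ y ∈ T.comap P.subtype, F.restrict hP y ∈ T.comap P.subtype :=
      fun y hy => hTst _ hy
    have hTP : T ≤ P := fun y hy => by
      obtain ⟨s, -, rfl⟩ := hT hy
      exact s.2
    have hmc : (T.comap P.subtype).map P.subtype = T := by
      rw [Submodule.map_comap_subtype, inf_eq_right.mpr hTP]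
    rcases hmin _ hT' hTst' with h | h
    · left
      rw [← hmc, h, Submodule.map_bot]
    · right
      rw [← hmc, h]

theorem sSup_simple_eq_top [IsAlgClosed k] (a : ℤ) (ha : a ≠ 0)
    {F : N →ₛₗ[frob p k a] N} (hF : IsIsoc F) : sSup {S | IsSimpleSub F S} = ⊤ := by
  have hτ : PresW (frob p k a) := presW_frob a
  rw [eq_top_iff, ← iSup_slopePart_eq_top hτ hF]
  refine iSup_le fun μ => ?_
  obtain ⟨hst, hiso⟩ := slopePart_isoclinic hτ hF μ
  have hFμ := isIsoc_restrict hτ hF _ hst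
  have h1 := iSup_simple_of_isoclinic a ha hFμ hiso
  have h2 : slopePart F μ =
      (⊤ : Submodule 𝕃 (slopePart F μ)).map (Submodule.subtype _) := by
    rw [Submodule.map_top, Submodule.range_subtype]
  rw [h2, ← h1, sSup_eq_iSup, Submodule.map_iSup]
  refine iSup_le fun S' => ?_
  rw [Submodule.map_iSup]
  refine iSup_le fun hS' => ?_
  exact le_sSup (isSimpleSub_map _ hst hS')

theorem exists_compl_of_sSup_simple {F : N →ₛₗ[τ] N} [Module.Finite (FractionRing (WittVector p k)) N]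
    (hss : sSup {S | IsSimpleSub F S} = ⊤) (P : Submodule 𝕃 N) (hP : ∀ x ∈ P, F x ∈ P) :
    ∃ Q : Submodule 𝕃 N, (∀ x ∈ Q, F x ∈ Q) ∧ IsCompl P Q := by
  have hne : {Q : Submodule 𝕃 N | (∀ x ∈ Q, F x ∈ Q) ∧ Disjoint P Q}.Nonempty :=
    ⟨⊥, fun x hx => by rw [Submodule.mem_bot] at hx ⊢; rw [hx, map_zero], disjoint_bot_right⟩
  obtain ⟨Q, ⟨hQst, hQd⟩, hQmax⟩ := wellFounded_gt.has_min _ hne
  refine ⟨Q, hQst, hQd, ?_⟩
  rw [codisjoint_iff]
  by_contra hPQ
  have hex : ∃ S, IsSimpleSub F S ∧ ¬ S ≤ P ⊔ Q := by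
    by_contra hcon
    push Not at hcon
    apply hPQ
    rw [eq_top_iff, ← hss]
    exact sSup_le hcon
  obtain ⟨S, ⟨hSne, hSst, hSmin⟩, hSle⟩ := hex
  have hPQst : ∀ y ∈ S ⊓ (P ⊔ Q), F y ∈ S ⊓ (P ⊔ Q) := by
    rintro y ⟨hyS, hyPQ⟩
    refine ⟨hSst y hyS, ?_⟩
    obtain ⟨y1, hy1, y2, hy2, rfl⟩ := Submodule.mem_sup.mp hyPQ
    rw [map_add]
    exact Submodule.add_mem _ (Submodule.mem_sup_left (hP _ hy1))
      (Submodule.mem_sup_right (hQst _ hy2))
  have hbot : S ⊓ (P ⊔ Q) = ⊥ := by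
    rcases hSmin _ inf_le_left hPQst with h | h
    · exact h
    · exact absurd (inf_eq_left.mp h) hSle
  have hQ'st : ∀ y ∈ Q ⊔ S, F y ∈ Q ⊔ S := by
    intro y hy
    obtain ⟨y1, hy1, y2, hy2, rfl⟩ := Submodule.mem_sup.mp hy
    rw [map_add]
    exact Submodule.add_mem _ (Submodule.mem_sup_left (hQst _ hy1))
      (Submodule.mem_sup_right (hSst _ hy2))
  have hQ'd : Disjoint P (Q ⊔ S) := by
    rw [Submodule.disjoint_def]
    intro x hxP hxQS
    obtain ⟨q, hq, s, hs, rfl⟩ := Submodule.mem_sup.mp hxQS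
    have hs' : s ∈ S ⊓ (P ⊔ Q) := by
      refine ⟨hs, ?_⟩
      have : s = (q + s) - q := by abel
      rw [this]
      exact Submodule.sub_mem _ (Submodule.mem_sup_left hxP) (Submodule.mem_sup_right hq)
    rw [hbot, Submodule.mem_bot] at hs'
    rw [hs', add_zero] at hxP ⊢
    exact (Submodule.disjoint_def.mp hQd) q hxP hq
  have hlt : Q < Q ⊔ S := by
    refine lt_of_le_of_ne le_sup_left (fun h => hSle ?_)
    have : S ≤ Q := by rw [h]; exact le_sup_right
    exact this.trans le_sup_right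
  exact hQmax (Q ⊔ S) ⟨hQ'st, hQ'd⟩ hlt

end semis

end Helper5.IsocLib
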