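import Mathlib
import Groth.Prelude.Def_Isoc
import Groth.Agent.Lib.Helper5.Isoc.Semisimple

set_option autoImplicit false
set_option linter.unusedSectionVars false

universe u v

namespace Helper5.IsocLib
open Isoc Module Filter Topology Helper5.LangLib
open scoped Pointwise

section manin
variable {p : ℕ} [hp : Fact p.Prime] {k : Type u} [Field k] [CharP k p] [PerfectRing k p]

local notation "𝕎" => WittVector p k
local notation "𝕃" => FractionRing (WittVector p k)

variable {N : Type v} [AddCommGroup N] [Module (WittVector p k) N]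
  [Module (FractionRing (WittVector p k)) N]
  [IsScalarTower (WittVector p k) (FractionRing (WittVector p k)) N]
variable {τ : FractionRing (WittVector p k) →+* FractionRing (WittVector p k)}

/-- a nonzero isoclinic isocrystal of slope `μ = d/h` contains a nonzero `x` with `F^h x = p^d x` -/
theorem exists_cyc_of_isoclinic [IsAlgClosed k] [Nontrivial N] (a : ℤ) (ha : a ≠ 0)
    {F : N →ₛₗ[frob p k a] N} (hF : IsIsoc F) {μ : ℚ} (hμ : IsIsoclinic F μ) :
    ∃ x : N, x ≠ 0 ∧ (⇑F)^[μ.den] x = ((p : 𝕃) ^ μ.num) • x := by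
  have hτ : PresW (frob p k a) := presW_frob a
  obtain ⟨M', hM', hG⟩ := exists_lattice_lowest hτ hF hμ
  have hden : 0 < μ.den := μ.den_pos
  have hne : a * (μ.den : ℤ) ≠ 0 := mul_ne_zero ha (by exact_mod_cast hden.ne')
  have hspan := fixed_span (a * μ.den) hne (frob_pow_algebraMap a μ.den) hM' _ hG
  have hM0 : M' ≠ ⊥ := lattice_ne_bot hM'
  by_contra hcon
  push Not at hcon
  apply hM0
  rw [← hspan, Submodule.span_eq_bot]
  rintro x ⟨-, hx⟩
  by_contra hx0
  apply hcon x hx0
  rw [LinearMap.smul_apply, iter_apply] at hx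
  conv_rhs => rw [← hx]
  rw [smul_smul, ← zpow_add₀ pL_ne_zero, add_neg_cancel, zpow_zero, one_smul]

theorem exists_cyc [IsAlgClosed k] [Nontrivial N] (a : ℤ) (ha : a ≠ 0)
    {F : N →ₛₗ[frob p k a] N} (hF : IsIsoc F) :
    ∃ (d : ℤ) (m : ℕ) (x : N), Int.gcd d ((m + 1 : ℕ) : ℤ) = 1 ∧ x ≠ 0 ∧
      (⇑F)^[m + 1] x = ((p : 𝕃) ^ d) • x := by
  have hτ : PresW (frob p k a) := presW_frob a
  have htop := iSup_slopePart_eq_top hτ hF
  obtain ⟨μ, hμ⟩ : ∃ μ : ℚ, slopePart F μ ≠ ⊥ := by
    by_contra hcon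
    push Not at hcon
    rw [iSup_congr hcon, iSup_bot] at htop
    exact bot_ne_top htop
  obtain ⟨hst, hiso⟩ := slopePart_isoclinic hτ hF μ
  have hFμ := isIsoc_restrict hτ hF _ hst
  have hnt : Nontrivial (slopePart F μ) := Submodule.nontrivial_iff_ne_bot.mpr hμ
  obtain ⟨x, hx0, hx⟩ := exists_cyc_of_isoclinic a ha hFμ hiso
  obtain ⟨m, hm⟩ : ∃ m, μ.den = m + 1 := ⟨μ.den - 1, by have := μ.den_pos; omega⟩
  refine ⟨μ.num, m, (x : N), ?_, ?_, ?_⟩
  · rw [← hm]
    have := μ.reduced
    rwa [Nat.Coprime, ← Int.natAbs_natCast μ.den] at this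
  · intro h
    exact hx0 (Subtype.ext h)
  · rw [← hm, ← iterate_restrict F _ hst, hx]
    rfl


theorem slopePart_of_isoclinic (hτ : PresW τ) {F : N →ₛₗ[τ] N} (hF : IsIsoc F) {ν : ℚ}
    (hν : IsIsoclinic F ν) (μ : ℚ) : slopePart F μ = if μ = ν then ⊤ else ⊥ := by
  have hst : ∀ x ∈ (⊤ : Submodule 𝕃 N), F x ∈ (⊤ : Submodule 𝕃 N) := fun _ _ => Submodule.mem_top
  have hgood : Good F ν ⊤ := (good_iff hτ F ν ⊤).mpr ⟨hst, isIsoclinic_restrict hτ hF hν ⊤ hst⟩
  split_ifs with h
  · rw [h, eq_top_iff]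
    exact good_le_slopePart hτ F ν hgood
  · have hg : Good F μ (slopePart F μ) := (good_iff hτ F μ _).mpr (slopePart_isoclinic hτ hF μ)
    have := good_inf_eq_bot hτ hF h hg hgood
    rwa [inf_top_eq] at this

theorem newtonMult_of_isoclinic (hτ : PresW τ) {F : N →ₛₗ[τ] N} (hF : IsIsoc F) {ν : ℚ}
    (hν : IsIsoclinic F ν) (μ : ℚ) :
    newtonMult F μ = if μ = ν then Module.finrank 𝕃 N else 0 := by
  rw [newtonMult, slopePart_of_isoclinic hτ hF hν μ]
  by_cases h : μ = ν
  · rw [if_pos h, if_pos h]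
    exact finrank_top 𝕃 N
  · rw [if_neg h, if_neg h]
    exact finrank_bot 𝕃 N

theorem cyc_injective (hτ : PresW τ) (F : N →ₛₗ[τ] N) (d : ℤ) (m : ℕ)
    (hdh : Int.gcd d (m + 1 : ℕ) = 1) (x : N) (hx0 : x ≠ 0)
    (hx : (⇑F)^[m + 1] x = ((p : 𝕃) ^ d) • x) : Function.Injective (cyc F (m + 1) x) := by
  rw [← LinearMap.ker_eq_bot]
  have hst : ∀ c ∈ LinearMap.ker (cyc F (m + 1) x),
      stdIsoc τ d (m + 1) c ∈ LinearMap.ker (cyc F (m + 1) x) := by
    intro c hc
    rw [LinearMap.mem_ker] at hc ⊢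
    rw [cyc_comm F d m x hx, hc, map_zero]
  rcases std_simple hτ d (m + 1) (Nat.succ_pos m) hdh _ hst with h | h
  · exact h
  · exfalso
    have : (Pi.single 0 1 : Fin (m + 1) → 𝕃) ∈ LinearMap.ker (cyc F (m + 1) x) := by
      rw [h]; exact Submodule.mem_top
    rw [LinearMap.mem_ker, cyc_single] at this
    exact hx0 this

theorem cyc_range_isoclinic (hτ : PresW τ) (F : N →ₛₗ[τ] N) (d : ℤ) (m : ℕ) (x : N)
    (hx : (⇑F)^[m + 1] x = ((p : 𝕃) ^ d) • x) :
    IsIsoclinic (F.restrict (cyc_range_stable F d m x hx)) ((d : ℚ) / ((m + 1 : ℕ) : ℚ)) := by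
  refine isIsoclinic_of_surjective hτ (F₁ := stdIsoc τ d (m + 1))
    (LinearMap.rangeRestrict (cyc F (m + 1) x)) (LinearMap.surjective_rangeRestrict _) ?_
    (std_isIsoclinic hτ d m)
  intro c
  apply Subtype.ext
  exact cyc_comm F d m x hx c


theorem projOnto_comm {F : N →ₛₗ[τ] N} {S Q : Submodule 𝕃 N} (hc : IsCompl S Q)
    (hS : ∀ x ∈ S, F x ∈ S) (hQ : ∀ x ∈ Q, F x ∈ Q) (x : N) :
    S.projectionOnto Q hc (F x) = F.restrict hS (S.projectionOnto Q hc x) := by
  have hx := Submodule.projection_add_projection_eq_self hc x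
  have h1 : F x = ((F.restrict hS (S.projectionOnto Q hc x) : S) : N) +
      ((F.restrict hQ (Q.projectionOnto S hc.symm x) : Q) : N) := by
    conv_lhs => rw [← hx]
    rw [map_add]
    rfl
  rw [h1, map_add, Submodule.projectionOnto_apply_left, Submodule.projectionOnto_apply_right,
    add_zero]

theorem newtonMult_add (hτ : PresW τ) {F : N →ₛₗ[τ] N} (hF : IsIsoc F) {S Q : Submodule 𝕃 N}
    (hc : IsCompl S Q) (hS : ∀ x ∈ S, F x ∈ S) (hQ : ∀ x ∈ Q, F x ∈ Q) (μ : ℚ) :
    newtonMult F μ = newtonMult (F.restrict hS) μ + newtonMult (F.restrict hQ) μ := by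
  have hfin := hF.finite
  have hFS := isIsoc_restrict hτ hF S hS
  have hFQ := isIsoc_restrict hτ hF Q hQ
  have hA : Good F μ (slopePart F μ) := (good_iff hτ F μ _).mpr (slopePart_isoclinic hτ hF μ)
  have hAS : Good (F.restrict hS) μ (slopePart (F.restrict hS) μ) :=
    (good_iff hτ _ μ _).mpr (slopePart_isoclinic hτ hFS μ)
  have hAQ : Good (F.restrict hQ) μ (slopePart (F.restrict hQ) μ) :=
    (good_iff hτ _ μ _).mpr (slopePart_isoclinic hτ hFQ μ)
  have gS := good_map hτ (F.restrict hS) F S.subtype (fun _ => rfl) hAS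
  have gQ := good_map hτ (F.restrict hQ) F Q.subtype (fun _ => rfl) hAQ
  have pS := good_map hτ F (F.restrict hS) (S.projectionOnto Q hc) (projOnto_comm hc hS hQ) hA
  have pQ := good_map hτ F (F.restrict hQ) (Q.projectionOnto S hc.symm)
    (projOnto_comm hc.symm hQ hS) hA
  have heq : slopePart F μ = (slopePart (F.restrict hS) μ).map S.subtype ⊔
      (slopePart (F.restrict hQ) μ).map Q.subtype := by
    apply le_antisymm
    · intro x hx
      have hx' := Submodule.projection_add_projection_eq_self hc x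
      rw [← hx']
      refine Submodule.add_mem _ (Submodule.mem_sup_left ?_) (Submodule.mem_sup_right ?_)
      · exact ⟨S.projectionOnto Q hc x,
          good_le_slopePart hτ _ μ pS (Submodule.mem_map_of_mem hx), rfl⟩
      · exact ⟨Q.projectionOnto S hc.symm x,
          good_le_slopePart hτ _ μ pQ (Submodule.mem_map_of_mem hx), rfl⟩
    · exact sup_le (good_le_slopePart hτ F μ gS) (good_le_slopePart hτ F μ gQ)
  have hdisj : (slopePart (F.restrict hS) μ).map S.subtype ⊓
      (slopePart (F.restrict hQ) μ).map Q.subtype = ⊥ := by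
    rw [eq_bot_iff, ← hc.inf_eq_bot]
    exact inf_le_inf (Submodule.map_subtype_le _ _) (Submodule.map_subtype_le _ _)
  have h2 := Submodule.finrank_sup_add_finrank_inf_eq
    ((slopePart (F.restrict hS) μ).map S.subtype) ((slopePart (F.restrict hQ) μ).map Q.subtype)
  rw [hdisj, finrank_bot, add_zero, ← heq, Submodule.finrank_map_subtype_eq,
    Submodule.finrank_map_subtype_eq] at h2
  exact h2

end manin

section manin2
variable {p : ℕ} [hp : Fact p.Prime] {k : Type u} [Field k] [CharP k p] [PerfectRing k p]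
  [IsAlgClosed k]

local notation "𝕎" => WittVector p k
local notation "𝕃" => FractionRing (WittVector p k)

/-- the Dieudonné–Manin decomposition as a predicate -/
def HasManin (a : ℤ) {N : Type v} [AddCommGroup N] [Module (WittVector p k) N]
    [Module (FractionRing (WittVector p k)) N]
    [IsScalarTower (WittVector p k) (FractionRing (WittVector p k)) N]
    (F : N →ₛₗ[frob p k a] N) : Prop :=
  ∃ (t : ℕ) (d : Fin t → ℤ) (h : Fin t → ℕ)
    (e : N ≃ₗ[FractionRing (WittVector p k)]
      ((i : Fin t) → (Fin (h i) → FractionRing (WittVector p k)))),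
    (∀ i, 0 < h i ∧ Int.gcd (d i) (h i) = 1) ∧
    (∀ (x : N) (i : Fin t), e (F x) i = stdIsoc (frob p k a) (d i) (h i) (e x i)) ∧
    ∀ μ : ℚ, newtonMult F μ = ∑ i : Fin t, (if ((d i : ℚ) / (h i : ℚ)) = μ then h i else 0)

theorem manin_aux (a : ℤ) (ha : a ≠ 0) (n : ℕ) :
    ∀ (N : Type v) [AddCommGroup N] [Module (WittVector p k) N]
      [Module (FractionRing (WittVector p k)) N]
      [IsScalarTower (WittVector p k) (FractionRing (WittVector p k)) N]
      (F : N →ₛₗ[frob p k a] N), IsIsoc F → Module.finrank 𝕃 N = n → HasManin a F := by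
  induction n using Nat.strong_induction_on with
  | _ n ih =>
    intro N _ _ _ _ F hF hn
    have hτ : PresW (frob p k a) := presW_frob a
    have hfin := hF.finite
    by_cases hsub : Subsingleton N
    · refine ⟨0, Fin.elim0, Fin.elim0, LinearEquiv.ofSubsingleton _ _, fun i => i.elim0,
        fun _ i => i.elim0, fun μ => ?_⟩
      rw [Finset.univ_eq_empty, Finset.sum_empty, newtonMult]
      exact Module.finrank_zero_of_subsingleton
    have hNT : Nontrivial N := not_subsingleton_iff_nontrivial.mp hsub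
    obtain ⟨d₀, m, x, hgcd, hx0, hx⟩ := exists_cyc a ha hF
    have hinj := cyc_injective hτ F d₀ m hgcd x hx0 hx
    have hS := cyc_range_stable F d₀ m x hx
    obtain ⟨Q, hQ, hc⟩ := exists_compl_of_sSup_simple (sSup_simple_eq_top a ha hF) _ hS
    have hFQ := isIsoc_restrict hτ hF Q hQ
    have hFS := isIsoc_restrict hτ hF _ hS
    have hrankS : Module.finrank 𝕃 (LinearMap.range (cyc F (m + 1) x)) = m + 1 := by
      rw [← LinearEquiv.finrank_eq (LinearEquiv.ofInjective (cyc F (m + 1) x) hinj),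
        Module.finrank_fin_fun]
    have hlt : Module.finrank 𝕃 Q < n := by
      have := Submodule.finrank_add_eq_of_isCompl hc
      omega
    obtain ⟨t', d', h', e', hp1, hp2, hp3⟩ := ih _ hlt Q (F.restrict hQ) hFQ rfl
    refine ⟨t' + 1, Fin.cons d₀ d', Fin.cons (m + 1) h',
      ((LinearMap.range (cyc F (m + 1) x)).prodEquivOfIsCompl Q hc).symm ≪≫ₗ
        (LinearEquiv.prodCongr (LinearEquiv.ofInjective (cyc F (m + 1) x) hinj).symm e') ≪≫ₗ
        Fin.consLinearEquiv 𝕃
          (fun i : Fin (t' + 1) => Fin ((Fin.cons (m + 1) h' : Fin (t' + 1) → ℕ) i) → 𝕃),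
      ?_, ?_, ?_⟩
    · intro i
      refine Fin.cases ?_ (fun j => ?_) i
      · exact ⟨Nat.succ_pos m, hgcd⟩
      · exact hp1 j
    · intro y i
      refine Fin.cases ?_ (fun j => ?_) i
      · change (LinearEquiv.ofInjective (cyc F (m + 1) x) hinj).symm
            (((LinearMap.range (cyc F (m + 1) x)).prodEquivOfIsCompl Q hc).symm (F y)).1 =
          stdIsoc (frob p k a) d₀ (m + 1)
            ((LinearEquiv.ofInjective (cyc F (m + 1) x) hinj).symm
              (((LinearMap.range (cyc F (m + 1) x)).prodEquivOfIsCompl Q hc).symm y).1)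
        rw [Submodule.prodEquivOfIsCompl_symm_apply, Submodule.prodEquivOfIsCompl_symm_apply,
          projOnto_comm hc hS hQ, LinearEquiv.symm_apply_eq]
        apply Subtype.ext
        rw [LinearEquiv.ofInjective_apply, cyc_comm F d₀ m x hx,
          ← LinearEquiv.ofInjective_apply (h := hinj), LinearEquiv.apply_symm_apply]
        rfl
      · change e' (((LinearMap.range (cyc F (m + 1) x)).prodEquivOfIsCompl Q hc).symm (F y)).2 j =
          stdIsoc (frob p k a) (d' j) (h' j)
            (e' (((LinearMap.range (cyc F (m + 1) x)).prodEquivOfIsCompl Q hc).symm y).2 j)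
        rw [Submodule.prodEquivOfIsCompl_symm_apply, Submodule.prodEquivOfIsCompl_symm_apply,
          projOnto_comm hc.symm hQ hS]
        exact hp2 _ j
    · intro μ
      rw [newtonMult_add hτ hF hc hS hQ μ, hp3 μ, Fin.sum_univ_succ]
      simp only [Fin.cons_zero, Fin.cons_succ]
      congr 1
      rw [newtonMult_of_isoclinic hτ hFS (cyc_range_isoclinic hτ F d₀ m x hx) μ, hrankS]
      by_cases h : μ = (d₀ : ℚ) / ((m + 1 : ℕ) : ℚ)
      · rw [if_pos h, if_pos h.symm]
      · rw [if_neg h, if_neg (fun h' => h h'.symm)]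

theorem manin (a : ℤ) (ha : a ≠ 0) {N : Type v} [AddCommGroup N] [Module (WittVector p k) N]
    [Module (FractionRing (WittVector p k)) N]
    [IsScalarTower (WittVector p k) (FractionRing (WittVector p k)) N]
    (F : N →ₛₗ[frob p k a] N) (hF : IsIsoc F) : HasManin a F :=
  manin_aux a ha _ N F hF rfl

end manin2

end Helper5.IsocLib
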